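/-
Unipotent isometries in characteristic two, presented by a nilpotent map `T`, the self-adjoint map
`S = T + T' = T * T'` and the quadratic maps `q i x = B (T (S ^ (i - 1) x)) x`, with `q 0` the quadratic form.
-/
import Mathlib

set_option autoImplicit false
set_option linter.unusedSectionVars false

namespace Cfsg.Agent.UnipTwo

variable (F : Type*) [Field F] [CharP F 2] (V : Type*) [AddCommGroup V] [Module F V]

/-- The axioms of a unipotent isometry `1 + T`. For `d = 0` a quadratic form is carried along. -/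
structure Sys (d : ℕ) where
  B : LinearMap.BilinForm F V
  halt : ∀ x, B x x = 0
  hnd : ∀ x, (∀ y, B x y = 0) → x = 0
  T : Module.End F V
  S : Module.End F V
  hTT : T * T = S * (1 + T)
  hST : Commute S T
  hadj : ∀ x y, B x (T y) = B (T x) y + B (S x) y
  hSalt : ∀ x, B (S x) x = 0
  hnil : ∃ N, S ^ N = 0
  Q : V → F
  hQadd : d = 0 → ∀ x y, Q (x + y) = Q x + Q y + B x y
  hQsmul : d = 0 → ∀ (c : F) x, Q (c • x) = c ^ 2 * Q x
  hQT : d = 0 → ∀ x, Q (T x) = B (T x) x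

variable {F V} {d : ℕ} (σ : Sys F V d)

/-- The quadratic maps. -/
def Sys.q : ℕ → V → F
  | 0, x => σ.Q x
  | i + 1, x => σ.B (σ.T ((σ.S ^ i) x)) x

theorem q_succ (i : ℕ) (x : V) : σ.q (i + 1) x = σ.B (σ.T ((σ.S ^ i) x)) x := rfl

theorem two_zero (F : Type*) [Field F] [CharP F 2] {W : Type*} [AddCommGroup W] [Module F W] (x : W) :
    x + x = 0 := by
  rw [← two_smul F x, CharTwo.two_eq_zero, zero_smul]

theorem B_comm (x y : V) : σ.B x y = σ.B y x := by
  have h := σ.halt (x + y)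
  simp only [map_add, LinearMap.add_apply, σ.halt, zero_add, add_zero] at h
  rw [add_comm] at h
  exact CharTwo.add_eq_zero.1 h

theorem B_S (x y : V) : σ.B (σ.S x) y = σ.B x (σ.S y) := by
  have h := σ.hSalt (x + y)
  simp only [map_add, LinearMap.add_apply, σ.hSalt, zero_add, add_zero] at h
  rw [add_comm] at h
  rw [CharTwo.add_eq_zero.1 h, B_comm]

theorem B_Spow (a : ℕ) : ∀ x y, σ.B ((σ.S ^ a) x) y = σ.B x ((σ.S ^ a) y) := by
  induction a with
  | zero => intro x y; rfl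
  | succ a ih =>
    intro x y
    rw [pow_succ, Module.End.mul_apply, ih, B_S, ← Module.End.mul_apply, ← pow_succ', pow_succ]

theorem Spow_Spow (a b : ℕ) (x : V) : (σ.S ^ a) ((σ.S ^ b) x) = (σ.S ^ (a + b)) x := by
  rw [pow_add, Module.End.mul_apply]

theorem S_Spow (a : ℕ) (x : V) : σ.S ((σ.S ^ a) x) = (σ.S ^ (a + 1)) x := by
  rw [pow_succ', Module.End.mul_apply]

theorem B_Spow_self (a : ℕ) (x : V) : σ.B ((σ.S ^ a) x) x = 0 := by
  rcases Nat.even_or_odd a with ⟨b, rfl⟩ | ⟨b, rfl⟩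
  · rw [pow_add, Module.End.mul_apply, B_Spow, σ.halt]
  · rw [show 2 * b + 1 = b + (b + 1) by omega, pow_add, Module.End.mul_apply, B_Spow, ← S_Spow, σ.hSalt]

theorem T_Spow (a : ℕ) (x : V) : σ.T ((σ.S ^ a) x) = (σ.S ^ a) (σ.T x) :=
  (LinearMap.congr_fun (σ.hST.pow_left a).eq x).symm

theorem T_S (x : V) : σ.T (σ.S x) = σ.S (σ.T x) := (LinearMap.congr_fun σ.hST.eq x).symm

theorem T_T (x : V) : σ.T (σ.T x) = σ.S x + σ.S (σ.T x) := by
  have := LinearMap.congr_fun σ.hTT x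
  rwa [Module.End.mul_apply, mul_add, mul_one, LinearMap.add_apply, Module.End.mul_apply] at this

theorem B_TT (x y : V) : σ.B (σ.T x) (σ.T y) = σ.B (σ.S x) y := by
  rw [σ.hadj, T_T, map_add, LinearMap.add_apply, add_assoc, CharTwo.add_self_eq_zero, add_zero]

theorem B_T_right (x y : V) : σ.B x (σ.T y) = σ.B (σ.T x) y + σ.B (σ.S x) y := σ.hadj x y

theorem q_smul {i : ℕ} (hi : d ≤ i) (c : F) (x : V) : σ.q i (c • x) = c ^ 2 * σ.q i x := by
  rcases i with _ | i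
  · exact σ.hQsmul (by omega) c x
  · simp only [q_succ, map_smul, LinearMap.smul_apply, smul_eq_mul]
    ring

theorem q_add {i : ℕ} (hi : d ≤ i) (x y : V) : σ.q i (x + y) = σ.q i x + σ.q i y + σ.B ((σ.S ^ i) x) y := by
  rcases i with _ | i
  · exact σ.hQadd (by omega) x y
  · have h : σ.B (σ.T ((σ.S ^ i) y)) x = σ.B (σ.T ((σ.S ^ i) x)) y + σ.B ((σ.S ^ (i + 1)) x) y := by
      rw [B_comm σ, T_Spow, ← B_Spow, B_T_right, S_Spow]
    simp only [q_succ, map_add, LinearMap.add_apply, h]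
    linear_combination σ.B (σ.T ((σ.S ^ i) x)) y * CharTwo.two_eq_zero (R := F)

theorem q_zero {i : ℕ} (hi : d ≤ i) : σ.q i 0 = 0 := by
  have := q_smul σ hi 0 (0 : V)
  simpa using this

theorem q_T {i : ℕ} (hi : d ≤ i) (x : V) : σ.q i (σ.T x) = σ.q (i + 1) x := by
  rcases i with _ | i
  · exact σ.hQT (by omega) x
  · rw [q_succ, q_succ, B_TT, S_Spow, ← T_Spow]

theorem isNilpotent_T : IsNilpotent σ.T := by
  obtain ⟨N, hN⟩ := σ.hnil
  refine ⟨2 * N, ?_⟩
  rw [pow_mul, sq, σ.hTT, (Commute.add_right (Commute.one_right _) σ.hST).mul_pow, hN, zero_mul]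

theorem q_S : ∀ {i : ℕ}, d ≤ i → ∀ x, σ.q i (σ.S x) = σ.q (i + 2) x := by
  intro i hi x
  rcases i with _ | i
  · obtain ⟨y, rfl⟩ := (((Module.End.isUnit_iff _).1 (isNilpotent_T σ).isUnit_add_one).2 x)
    have h1 : σ.q 0 (σ.T (σ.T y)) = σ.q 2 y := by rw [q_T σ hi, q_T σ (by omega)]
    have h2 : σ.q 2 (σ.T y + y) = σ.q 2 y := by
      rw [q_add σ (by omega), q_T σ (by omega), ← T_Spow, ← q_succ, add_right_comm, CharTwo.add_self_eq_zero,
        zero_add]
    show σ.q 0 (σ.S (σ.T y + y)) = σ.q 2 (σ.T y + y)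
    rw [h2, ← h1, T_T, map_add, add_comm]
  · rw [q_succ, q_succ, ← Module.End.mul_apply (σ.S ^ i), ← pow_succ, ← B_S, ← T_S, S_Spow]

theorem q_Spow {i : ℕ} (hi : d ≤ i) : ∀ (a : ℕ) (x : V), σ.q i ((σ.S ^ a) x) = σ.q (i + 2 * a) x := by
  intro a
  induction a generalizing i with
  | zero => intro x; rfl
  | succ a ih =>
    intro x
    rw [← S_Spow, q_S σ hi, ih (by omega), show i + 2 + 2 * a = i + 2 * (a + 1) by omega]

theorem q_TSpow {i : ℕ} (hi : d ≤ i) (a : ℕ) (x : V) : σ.q i (σ.T ((σ.S ^ a) x)) = σ.q (i + 2 * a + 1) x := by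
  rw [q_T σ hi, q_Spow σ (by omega), show i + 1 + 2 * a = i + 2 * a + 1 by omega]

/-! ### Products of the generators -/

theorem B_S_S (a b : ℕ) (x y : V) : σ.B ((σ.S ^ a) x) ((σ.S ^ b) y) = σ.B ((σ.S ^ (a + b)) x) y := by
  rw [← B_Spow, Spow_Spow, add_comm]

theorem B_TS_S (a b : ℕ) (x y : V) :
    σ.B (σ.T ((σ.S ^ a) x)) ((σ.S ^ b) y) = σ.B (σ.T ((σ.S ^ (a + b)) x)) y := by
  rw [← B_Spow, ← T_Spow, Spow_Spow, add_comm]

theorem B_S_TS (a b : ℕ) (x y : V) : σ.B ((σ.S ^ a) x) (σ.T ((σ.S ^ b) y)) =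
    σ.B (σ.T ((σ.S ^ (a + b)) x)) y + σ.B ((σ.S ^ (a + b + 1)) x) y := by
  rw [B_T_right, B_TS_S, S_Spow, B_S_S, show a + 1 + b = a + b + 1 by omega]

theorem B_TS_TS (a b : ℕ) (x y : V) :
    σ.B (σ.T ((σ.S ^ a) x)) (σ.T ((σ.S ^ b) y)) = σ.B ((σ.S ^ (a + b + 1)) x) y := by
  rw [B_TT, S_Spow, B_S_S, show a + 1 + b = a + b + 1 by omega]

theorem Spow_eq_zero_mono {a b : ℕ} (h : a ≤ b) {x : V} (hx : (σ.S ^ a) x = 0) : (σ.S ^ b) x = 0 := by
  rw [← Nat.sub_add_cancel h, pow_add, Module.End.mul_apply, hx, map_zero]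

/-- The maps `q i` with `i` above half the order vanish. -/
theorem q_eq_zero {i k : ℕ} (hi : k < i) {x : V} (hx : σ.T ((σ.S ^ k) x) = 0) : σ.q i x = 0 := by
  obtain ⟨j, rfl⟩ : ∃ j, i = j + 1 := ⟨i - 1, by omega⟩
  have h : σ.T ((σ.S ^ j) x) = 0 := by
    rw [show j = (j - k) + k by omega, pow_add, Module.End.mul_apply, T_Spow, hx, map_zero]
  rw [q_succ, h, map_zero, LinearMap.zero_apply]

theorem T_eq_zero_of_S {k : ℕ} {x : V} (hx : (σ.S ^ k) x = 0) : σ.T ((σ.S ^ k) x) = 0 := by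
  rw [hx, map_zero]

/-! ### The span of the generators of a vector -/

/-- All `S ^ a v` and `T (S ^ a v)`. -/
def gens (v : V) : Set V := (Set.range fun a => (σ.S ^ a) v) ∪ Set.range fun a => σ.T ((σ.S ^ a) v)

/-- Their span. -/
def gspan (v : V) : Submodule F V := Submodule.span F (gens σ v)

theorem Spow_mem_gspan (a : ℕ) (v : V) : (σ.S ^ a) v ∈ gspan σ v :=
  Submodule.subset_span (Or.inl ⟨a, rfl⟩)

theorem TSpow_mem_gspan (a : ℕ) (v : V) : σ.T ((σ.S ^ a) v) ∈ gspan σ v :=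
  Submodule.subset_span (Or.inr ⟨a, rfl⟩)

theorem self_mem_gspan (v : V) : v ∈ gspan σ v := by
  simpa using Spow_mem_gspan σ 0 v

/-- A subspace stable under `T` and `S`. -/
def Inv (W : Submodule F V) : Prop := ∀ x ∈ W, σ.T x ∈ W ∧ σ.S x ∈ W

theorem Inv.Spow_mem {W : Submodule F V} (hW : Inv σ W) {x : V} (hx : x ∈ W) (a : ℕ) : (σ.S ^ a) x ∈ W := by
  induction a with
  | zero => simpa using hx
  | succ a ih => rw [← S_Spow]; exact (hW _ ih).2

theorem gspan_le {W : Submodule F V} (hW : Inv σ W) {v : V} (hv : v ∈ W) : gspan σ v ≤ W := by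
  refine Submodule.span_le.2 ?_
  rintro x (⟨a, rfl⟩ | ⟨a, rfl⟩)
  · exact Inv.Spow_mem σ hW hv a
  · exact (hW _ (Inv.Spow_mem σ hW hv a)).1

theorem inv_gspan (v : V) : Inv σ (gspan σ v) := by
  intro x hx
  refine ⟨?_, ?_⟩ <;> induction hx using Submodule.span_induction with
  | mem x hx =>
    rcases hx with ⟨a, rfl⟩ | ⟨a, rfl⟩
    · first
        | exact TSpow_mem_gspan σ a v
        | (simp only [S_Spow]; exact Spow_mem_gspan σ _ v)
    · first
        | (simp only [T_T, ← T_S, S_Spow]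
           exact Submodule.add_mem _ (Spow_mem_gspan σ _ v) (TSpow_mem_gspan σ _ v))
        | (simp only [← T_S, S_Spow]; exact TSpow_mem_gspan σ _ v)
  | zero => simp
  | add x y _ _ hx hy => rw [map_add]; exact Submodule.add_mem _ hx hy
  | smul c x _ hx => rw [map_smul]; exact Submodule.smul_mem _ _ hx

theorem inv_sup {W W' : Submodule F V} (h : Inv σ W) (h' : Inv σ W') : Inv σ (W ⊔ W') := by
  intro x hx
  obtain ⟨a, ha, b, hb, rfl⟩ := Submodule.mem_sup.1 hx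
  simp only [map_add]
  exact ⟨Submodule.add_mem_sup (h a ha).1 (h' b hb).1, Submodule.add_mem_sup (h a ha).2 (h' b hb).2⟩

end Cfsg.Agent.UnipTwo
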