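/-
The indecomposable pieces of a unipotent isometry in characteristic two and their normalisation.
-/
import Cfsg.Agent.Lib.UnipTwo.Sys

set_option autoImplicit false
set_option linter.unusedSectionVars false

namespace Cfsg.Agent.UnipTwo

variable {F : Type*} [Field F] [CharP F 2] [Finite F] {V : Type*} [AddCommGroup V] [Module F V] {d : ℕ}
  (σ : Sys F V d) (α : F)

/-- The types of pieces: one block of size `2 k`, two blocks of size `2 k + 1`, two blocks of size `2 k`. -/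
inductive Kind
  | V (k : ℕ) (b : Bool)
  | Wo (k : ℕ) (b : Bool)
  | We (k : ℕ)
deriving DecidableEq

/-- The dimension of a piece. -/
def Kind.size : Kind → ℕ
  | .V k _ => 2 * k
  | .Wo k _ => 2 * (2 * k + 1)
  | .We k => 2 * (2 * k)

/-- A normalised generator of a single block. -/
structure IsV (k : ℕ) (b : Bool) (v : V) : Prop where
  one_le : 1 ≤ k
  bit : b = true → d + 1 ≤ k
  hS : (σ.S ^ k) v = 0
  top : σ.q k v = 1
  low : ∀ i, d ≤ i → i < k → σ.q i v = if b = true ∧ i + 1 = k then α else 0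

/-- A normalised pair of generators of two blocks of odd size. -/
structure IsWo (k : ℕ) (b : Bool) (v w : V) : Prop where
  bit : b = true → d ≤ k
  hv : σ.T ((σ.S ^ k) v) = 0
  hw : σ.T ((σ.S ^ k) w) = 0
  pS : ∀ a, σ.B ((σ.S ^ a) v) w = if a = k then 1 else 0
  pT : ∀ a, σ.B (σ.T ((σ.S ^ a) v)) w = 0
  qv : ∀ i, d ≤ i → i ≤ k → σ.q i v = if b = true ∧ i = k then 1 else 0
  qw : ∀ i, d ≤ i → i ≤ k → σ.q i w = if b = true ∧ i = k then α else 0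

/-- A normalised pair of generators of two blocks of even size. -/
structure IsWe (k : ℕ) (v w : V) : Prop where
  one_le : 1 ≤ k
  hv : (σ.S ^ k) v = 0
  hw : (σ.S ^ k) w = 0
  pS : ∀ a, σ.B ((σ.S ^ a) v) w = 0
  pT : ∀ a, σ.B (σ.T ((σ.S ^ a) v)) w = if a + 1 = k then 1 else 0
  qv : ∀ i, d ≤ i → i ≤ k → σ.q i v = 0
  qw : ∀ i, d ≤ i → i ≤ k → σ.q i w = 0

/-- The subspace `P` carries a piece of the given kind. -/
def Real : Kind → Submodule F V → Prop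
  | .V k b, P => ∃ v, IsV σ α k b v ∧ P = gspan σ v
  | .Wo k b, P => ∃ v w, IsWo σ α k b v w ∧ P = gspan σ v ⊔ gspan σ w
  | .We k, P => ∃ v w, IsWe σ k v w ∧ P = gspan σ v ⊔ gspan σ w

variable {σ α}

/-! ### Effect of adding a multiple of a generator -/

theorem q_addS {i : ℕ} (hi : d ≤ i) (c : F) (a : ℕ) (v w : V) :
    σ.q i (v + c • (σ.S ^ a) w) = σ.q i v + c ^ 2 * σ.q (i + 2 * a) w + c * σ.B ((σ.S ^ (i + a)) v) w := by
  rw [q_add σ hi, q_smul σ hi, q_Spow σ hi, map_smul, smul_eq_mul, B_S_S σ]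

theorem q_addT {i : ℕ} (hi : d ≤ i) (c : F) (a : ℕ) (v w : V) :
    σ.q i (v + c • σ.T ((σ.S ^ a) w)) = σ.q i v + c ^ 2 * σ.q (i + 2 * a + 1) w +
      c * (σ.B (σ.T ((σ.S ^ (i + a)) v)) w + σ.B ((σ.S ^ (i + a + 1)) v) w) := by
  rw [q_add σ hi, q_smul σ hi, q_TSpow σ hi, map_smul, smul_eq_mul, B_S_TS σ]

theorem q_addT_self {i : ℕ} (hi : d ≤ i) (c : F) (a : ℕ) (v : V) :
    σ.q i (v + c • σ.T ((σ.S ^ a) v)) = σ.q i v + c ^ 2 * σ.q (i + 2 * a + 1) v + c * σ.q (i + a + 1) v := by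
  rw [q_addT hi, B_Spow_self σ, add_zero, ← q_succ σ (i + a)]

theorem q_addS_self {i : ℕ} (hi : d ≤ i) (c : F) (a : ℕ) (v : V) :
    σ.q i (v + c • (σ.S ^ a) v) = σ.q i v + c ^ 2 * σ.q (i + 2 * a) v := by
  rw [q_addS hi, B_Spow_self σ, mul_zero, add_zero]

theorem pS_addS (j : ℕ) (c : F) (a : ℕ) (v x w : V) :
    σ.B ((σ.S ^ j) (v + c • (σ.S ^ a) x)) w = σ.B ((σ.S ^ j) v) w + c * σ.B ((σ.S ^ (j + a)) x) w := by
  simp only [map_add, map_smul, LinearMap.add_apply, LinearMap.smul_apply, smul_eq_mul, Spow_Spow σ]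

theorem pT_addS (j : ℕ) (c : F) (a : ℕ) (v x w : V) :
    σ.B (σ.T ((σ.S ^ j) (v + c • (σ.S ^ a) x))) w =
      σ.B (σ.T ((σ.S ^ j) v)) w + c * σ.B (σ.T ((σ.S ^ (j + a)) x)) w := by
  simp only [map_add, map_smul, LinearMap.add_apply, LinearMap.smul_apply, smul_eq_mul, Spow_Spow σ]

theorem pS_addT (j : ℕ) (c : F) (a : ℕ) (v x w : V) :
    σ.B ((σ.S ^ j) (v + c • σ.T ((σ.S ^ a) x))) w =
      σ.B ((σ.S ^ j) v) w + c * σ.B (σ.T ((σ.S ^ (j + a)) x)) w := by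
  simp only [map_add, map_smul, LinearMap.add_apply, LinearMap.smul_apply, smul_eq_mul, ← T_Spow σ, Spow_Spow σ]

theorem pT_addT (j : ℕ) (c : F) (a : ℕ) (v x w : V) :
    σ.B (σ.T ((σ.S ^ j) (v + c • σ.T ((σ.S ^ a) x)))) w = σ.B (σ.T ((σ.S ^ j) v)) w +
      c * (σ.B ((σ.S ^ (j + a + 1)) x) w + σ.B (σ.T ((σ.S ^ (j + a + 1)) x)) w) := by
  simp only [map_add, map_smul, LinearMap.add_apply, LinearMap.smul_apply, smul_eq_mul, ← T_Spow σ, T_T σ,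
    ← T_S σ, S_Spow σ, Spow_Spow σ]

theorem B_swapT (j : ℕ) (v w : V) :
    σ.B (σ.T ((σ.S ^ j) w)) v = σ.B (σ.T ((σ.S ^ j) v)) w + σ.B ((σ.S ^ (j + 1)) v) w := by
  rw [B_comm σ, T_Spow σ, ← B_Spow σ, B_T_right σ, S_Spow σ]

theorem B_swapS (j : ℕ) (v w : V) : σ.B ((σ.S ^ j) w) v = σ.B ((σ.S ^ j) v) w := by
  rw [B_comm σ, B_Spow σ]

/-! ### The Artin-Schreier cosets -/

theorem exists_as (hα : ∀ x : F, x ^ 2 + x ≠ α) (a : F) :
    ∃ x : F, a + (x ^ 2 + x) = 0 ∨ a + (x ^ 2 + x) = α := by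
  classical
  haveI := Fintype.ofFinite F
  let ψ : F →+ F :=
    { toFun := fun x => x ^ 2 + x
      map_zero' := by simp
      map_add' := fun x y => by
        show (x + y) ^ 2 + (x + y) = x ^ 2 + x + (y ^ 2 + y)
        linear_combination x * y * CharTwo.two_eq_zero (R := F) }
  have hker : Nat.card ψ.ker = 2 := by
    refine Nat.card_eq_two_iff.2 ⟨⟨0, by simp⟩, ⟨1, ?_⟩, ?_, ?_⟩
    · show (1 : F) ^ 2 + 1 = 0
      rw [one_pow, CharTwo.add_self_eq_zero]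
    · exact fun h => zero_ne_one (congrArg Subtype.val h)
    · ext ⟨x, hx⟩
      have hx' : x * (x + 1) = 0 := by rw [mul_add, mul_one, ← sq]; exact hx
      simp only [Set.mem_insert_iff, Set.mem_singleton_iff, Subtype.mk.injEq, Set.mem_univ, iff_true]
      exact (mul_eq_zero.1 hx').imp id CharTwo.add_eq_zero.1
  have hidx : ψ.range.index = 2 := by
    have e1 := ψ.range.card_mul_index
    have e2 := ψ.ker.card_mul_index
    rw [AddSubgroup.index_ker] at e2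
    rw [← e2, mul_comm (Nat.card ψ.ker), hker] at e1
    exact Nat.eq_of_mul_eq_mul_left Nat.card_pos e1
  have key := AddSubgroup.add_mem_iff_of_index_two hidx (a := a) (b := α)
  have hα' : α ∉ ψ.range := fun ⟨x, hx⟩ => hα x hx
  by_cases ha : a ∈ ψ.range
  · obtain ⟨x, hx⟩ := ha
    exact ⟨x, Or.inl (CharTwo.add_eq_zero.2 hx.symm)⟩
  · obtain ⟨x, hx⟩ := key.2 (iff_of_false ha hα')
    refine ⟨x, Or.inr ?_⟩
    rw [show x ^ 2 + x = a + α from hx, ← add_assoc, CharTwo.add_self_eq_zero, zero_add]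

theorem exists_sqrt (a : F) : ∃ c : F, c ^ 2 = a := by
  obtain ⟨c, hc⟩ := FiniteField.isSquare_of_char_two (F := F) (ringChar.eq F 2) a
  exact ⟨c, by rw [hc, sq]⟩

variable {W : Submodule F V}

theorem Inv.TSpow_mem (hW : Inv σ W) {x : V} (hx : x ∈ W) (a : ℕ) : σ.T ((σ.S ^ a) x) ∈ W :=
  (hW _ (Inv.Spow_mem σ hW hx a)).1

/-! ### A single block -/

/-- Clearing the lower values of a single block. -/
theorem exists_low (hW : Inv σ W) {k : ℕ} {v : V} (hv : v ∈ W) (hS : (σ.S ^ k) v = 0) (htop : σ.q k v = 1) :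
    ∀ j, ∃ v' ∈ W, (σ.S ^ k) v' = 0 ∧ σ.q k v' = 1 ∧ ((d + 1 ≤ k → σ.q (k - 1) v' = σ.q (k - 1) v) ∧
      σ.T ((σ.S ^ (k - 1)) v') = σ.T ((σ.S ^ (k - 1)) v)) ∧
      ∀ i, d ≤ i → i + 1 < k → k ≤ i + 1 + j → σ.q i v' = 0 := by
  intro j
  induction j with
  | zero => exact ⟨v, hv, hS, htop, ⟨fun _ => rfl, rfl⟩, fun i _ h h' => absurd h' (by omega)⟩
  | succ j ih =>
    obtain ⟨v', hv', hS', htop', ⟨hbit, hTv⟩, hlow⟩ := ih
    by_cases hl : d + j + 2 ≤ k ∧ 1 ≤ j + 1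
    · obtain ⟨hl, -⟩ := hl
      set l := k - (j + 2) with hl'
      have hzero : ∀ i, k < i → σ.q i v' = 0 := fun i hi => q_eq_zero σ hi (T_eq_zero_of_S σ hS')
      obtain ⟨c, hc⟩ : ∃ c, c = σ.q l v' := ⟨_, rfl⟩
      refine ⟨v' + c • σ.T ((σ.S ^ (j + 1)) v'),
        W.add_mem hv' (W.smul_mem _ (Inv.TSpow_mem hW hv' _)), ?_, ?_, ⟨fun h => ?_, ?_⟩, fun i hi h h' => ?_⟩
      · rw [map_add, map_smul, hS', ← T_Spow σ, Spow_Spow σ, Spow_eq_zero_mono σ (Nat.le_add_right k (j + 1)) hS']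
        simp
      · rw [q_addT_self (by omega), htop', hzero _ (by omega), hzero _ (by omega)]
        ring
      · rw [q_addT_self (by omega), hbit h, hzero _ (by omega), hzero _ (by omega)]
        ring
      · rw [map_add, map_add, hTv, map_smul, map_smul, ← T_Spow σ, Spow_Spow σ,
          Spow_eq_zero_mono σ (show k ≤ k - 1 + (j + 1) by omega) hS']
        simp
      · rw [q_addT_self hi]
        rcases eq_or_lt_of_le (show l ≤ i by omega) with rfl | hlt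
        · rw [← hc, hzero _ (by omega), show l + (j + 1) + 1 = k by omega, htop']
          linear_combination c * CharTwo.two_eq_zero (R := F)
        · rw [hlow i hi h (by omega), hzero _ (by omega), hzero _ (by omega)]
          ring
    · exact ⟨v', hv', hS', htop', ⟨hbit, hTv⟩, fun i hi h h' => hlow i hi h (by omega)⟩

theorem exists_isV (hα : ∀ x : F, x ^ 2 + x ≠ α) (hW : Inv σ W) {k : ℕ} (hk : 1 ≤ k) (hd : d ≤ k) {v : V}
    (hv : v ∈ W) (hS : (σ.S ^ k) v = 0) (htop : σ.q k v ≠ 0) : ∃ v' ∈ W, ∃ b, IsV σ α k b v' := by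
  obtain ⟨c, hc⟩ := exists_sqrt (σ.q k v)⁻¹
  set v₁ := c • v
  have hv₁ : v₁ ∈ W := W.smul_mem _ hv
  have hS₁ : (σ.S ^ k) v₁ = 0 := by rw [map_smul, hS, smul_zero]
  have ht₁ : σ.q k v₁ = 1 := by rw [q_smul σ hd, hc, inv_mul_cancel₀ htop]
  have hzero : ∀ i, k < i → σ.q i v₁ = 0 := fun i hi => q_eq_zero σ hi (T_eq_zero_of_S σ hS₁)
  by_cases hdk : d + 1 ≤ k
  · obtain ⟨x, hx⟩ := exists_as hα (σ.q (k - 1) v₁)
    set v₂ := v₁ + x • σ.T ((σ.S ^ 0) v₁) with hv₂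
    have hS₂ : (σ.S ^ k) v₂ = 0 := by
      rw [hv₂, map_add, hS₁, map_smul, ← T_Spow σ, Spow_Spow σ, add_zero, hS₁]; simp
    have ht₂ : σ.q k v₂ = 1 := by
      rw [hv₂, q_addT_self hd, ht₁, hzero _ (by omega)]; ring
    have hq₂ : σ.q (k - 1) v₂ = σ.q (k - 1) v₁ + (x ^ 2 + x) := by
      rw [hv₂, q_addT_self (by omega), show k - 1 + 2 * 0 + 1 = k by omega, ht₁]
      ring
    obtain ⟨v', hv', hS', ht', ⟨hbit, -⟩, hlow⟩ :=
      exists_low hW (W.add_mem hv₁ (W.smul_mem _ (Inv.TSpow_mem hW hv₁ 0))) hS₂ ht₂ k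
    have hb := hbit hdk
    rw [hq₂] at hb
    rcases hx with hx | hx
    · refine ⟨v', hv', false, hk, fun h => absurd h (by simp), hS', ht', fun i hi hik => ?_⟩
      rw [if_neg (by simp)]
      rcases eq_or_lt_of_le (show i + 1 ≤ k by omega) with h | h
      · rw [show i = k - 1 by omega, hb, hx]
      · exact hlow i hi h (by omega)
    · refine ⟨v', hv', true, hk, fun _ => hdk, hS', ht', fun i hi hik => ?_⟩
      rcases eq_or_lt_of_le (show i + 1 ≤ k by omega) with h | h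
      · rw [if_pos ⟨rfl, h⟩, show i = k - 1 by omega, hb, hx]
      · rw [if_neg (by omega)]
        exact hlow i hi h (by omega)
  · exact ⟨v₁, hv₁, false, hk, fun h => absurd h (by simp), hS₁, ht₁, fun i hi hik => absurd hik (by omega)⟩

/-- A single block whose bit vanishes. -/
theorem exists_isV_zero (α : F) (hW : Inv σ W) {k : ℕ} (hk : 1 ≤ k) {v : V} (hv : v ∈ W) (hS : (σ.S ^ k) v = 0)
    (htop : σ.q k v = 1) (hz : d + 1 ≤ k → σ.q (k - 1) v = 0) :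
    ∃ v' ∈ W, IsV σ α k false v' ∧ σ.T ((σ.S ^ (k - 1)) v') = σ.T ((σ.S ^ (k - 1)) v) := by
  obtain ⟨v', hv', hS', ht', ⟨hbit, hT⟩, hlow⟩ := exists_low hW hv hS htop k
  refine ⟨v', hv', ⟨hk, fun h => absurd h (by simp), hS', ht', fun i hi hik => ?_⟩, hT⟩
  rw [if_neg (by simp)]
  rcases eq_or_lt_of_le (show i + 1 ≤ k by omega) with h | h
  · rw [show i = k - 1 by omega, hbit (by omega), hz (by omega)]
  · exact hlow i hi h (by omega)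

/-! ### Two blocks of odd size -/

theorem Spow_succ_eq_zero {k : ℕ} {x : V} (h : σ.T ((σ.S ^ k) x) = 0) : (σ.S ^ (k + 1)) x = 0 := by
  have e := T_T σ ((σ.S ^ k) x)
  rw [h, map_zero, map_zero, add_zero, S_Spow σ] at e
  exact e.symm

/-- Adjusting the pairing at `l` through the first vector. -/
theorem exists_pair_odd (hW : Inv σ W) {k l i : ℕ} (hi : l + (i + 1) = k) {v w : V} (hv : v ∈ W)
    (hv0 : σ.T ((σ.S ^ k) v) = 0) (hpk : σ.B ((σ.S ^ k) v) w = 1)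
    (hs : ∀ a, l < a → a < k → σ.B ((σ.S ^ a) v) w = 0 ∧ σ.B (σ.T ((σ.S ^ a) v)) w = 0) :
    ∃ v' ∈ W, σ.T ((σ.S ^ k) v') = 0 ∧ σ.B ((σ.S ^ k) v') w = 1 ∧ σ.B ((σ.S ^ l) v') w = 0 ∧
      σ.B (σ.T ((σ.S ^ l) v')) w = 0 ∧
      (∀ a, l < a → a < k → σ.B ((σ.S ^ a) v') w = 0 ∧ σ.B (σ.T ((σ.S ^ a) v')) w = 0) ∧
      ∀ a, d ≤ a → l < a → σ.q a v' = σ.q a v := by
  have hSv : ∀ a, k < a → (σ.S ^ a) v = 0 := fun a ha => Spow_eq_zero_mono σ ha (Spow_succ_eq_zero hv0)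
  have hTv : ∀ a, k ≤ a → σ.T ((σ.S ^ a) v) = 0 := fun a ha => by
    rcases eq_or_lt_of_le ha with rfl | h
    · exact hv0
    · rw [hSv a h, map_zero]
  have hq : ∀ a, k < a → σ.q a v = 0 := fun a ha => q_eq_zero σ ha hv0
  set μ := σ.B (σ.T ((σ.S ^ l) v)) w with hμ
  set v₂ := v + μ • σ.T ((σ.S ^ i) v) with hv₂
  have h20 : σ.T ((σ.S ^ k) v₂) = 0 := by
    rw [hv₂, map_add, map_add, map_smul, map_smul, ← T_Spow σ, Spow_Spow σ, hTv (k + i) (by omega), hv0]; simp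
  have h2k : σ.B ((σ.S ^ k) v₂) w = 1 := by
    rw [hv₂, pS_addT, hTv _ (by omega), map_zero, hpk]; simp
  have h2l : σ.B (σ.T ((σ.S ^ l) v₂)) w = 0 := by
    rw [hv₂, pT_addT, show l + i + 1 = k by omega, hpk, hv0, map_zero, LinearMap.zero_apply, add_zero, mul_one,
      CharTwo.add_self_eq_zero]
  have h2a : ∀ a, l < a → a < k → σ.B ((σ.S ^ a) v₂) w = 0 ∧ σ.B (σ.T ((σ.S ^ a) v₂)) w = 0 := fun a ha hak => by
    refine ⟨?_, ?_⟩
    · rw [hv₂, pS_addT, (hs a ha hak).1]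
      rcases Nat.lt_or_ge (a + i) k with h | h
      · rw [(hs _ (by omega) h).2]; simp
      · rw [hTv _ h]; simp
    · rw [hv₂, pT_addT, (hs a ha hak).2, hSv _ (by omega)]; simp
  have h2q : ∀ a, d ≤ a → l < a → σ.q a v₂ = σ.q a v := fun a ha hla => by
    rw [hv₂, q_addT_self ha, hq (a + 2 * i + 1) (by omega), hq (a + i + 1) (by omega)]; ring
  have hSv₂ : ∀ a, k < a → (σ.S ^ a) v₂ = 0 := fun a ha => Spow_eq_zero_mono σ ha (Spow_succ_eq_zero h20)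
  set ν := σ.B ((σ.S ^ l) v₂) w with hν
  refine ⟨v₂ + ν • (σ.S ^ (i + 1)) v₂, W.add_mem ?_ (W.smul_mem _ (Inv.Spow_mem σ hW ?_ _)), ?_, ?_, ?_, ?_,
    fun a ha hak => ⟨?_, ?_⟩, fun a ha hla => ?_⟩
  · exact W.add_mem hv (W.smul_mem _ (Inv.TSpow_mem hW hv _))
  · exact W.add_mem hv (W.smul_mem _ (Inv.TSpow_mem hW hv _))
  · rw [map_add, map_add, map_smul, map_smul, Spow_Spow σ, hSv₂ (k + (i + 1)) (by omega), h20]; simp
  · rw [pS_addS, hSv₂ (k + (i + 1)) (by omega), h2k]; simp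
  · rw [pS_addS, hi, h2k, mul_one, CharTwo.add_self_eq_zero]
  · rw [pT_addS, hi, h20, h2l]; simp
  · rw [pS_addS, hSv₂ (a + (i + 1)) (by omega), (h2a a ha hak).1]; simp
  · rw [pT_addS, hSv₂ (a + (i + 1)) (by omega), (h2a a ha hak).2]; simp
  · rw [q_addS_self ha, h2q a ha hla, q_eq_zero σ (by omega) h20]; ring

/-- Killing `q l` of the first vector. -/
theorem exists_clear_odd (hW : Inv σ W) {k l i : ℕ} (hi : l + (i + 1) = k) {v w : V} (hv : v ∈ W) (hw : w ∈ W)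
    (hv0 : σ.T ((σ.S ^ k) v) = 0) (hw0 : σ.T ((σ.S ^ k) w) = 0) (hpk : σ.B ((σ.S ^ k) v) w = 1) :
    ∃ v' ∈ W, σ.T ((σ.S ^ k) v') = 0 ∧ (d ≤ l → σ.q l v' = 0) ∧
      (∀ a, l ≤ a → σ.B ((σ.S ^ a) v') w = σ.B ((σ.S ^ a) v) w ∧
        σ.B (σ.T ((σ.S ^ a) v')) w = σ.B (σ.T ((σ.S ^ a) v)) w) ∧
      ∀ a, d ≤ a → l < a → σ.q a v' = σ.q a v := by
  have hSw : ∀ a, k < a → (σ.S ^ a) w = 0 := fun a ha => Spow_eq_zero_mono σ ha (Spow_succ_eq_zero hw0)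
  have hSv : ∀ a, k < a → (σ.S ^ a) v = 0 := fun a ha => Spow_eq_zero_mono σ ha (Spow_succ_eq_zero hv0)
  refine ⟨v + σ.q l v • (σ.S ^ (i + 1)) w, W.add_mem hv (W.smul_mem _ (Inv.Spow_mem σ hW hw _)), ?_, fun hl => ?_,
    fun a ha => ⟨?_, ?_⟩, fun a ha hla => ?_⟩
  · rw [map_add, map_add, map_smul, map_smul, Spow_Spow σ, hSw _ (by omega), hv0]; simp
  · rw [q_addS hl, q_eq_zero σ (by omega) hw0, hi, hpk]
    linear_combination σ.q l v * CharTwo.two_eq_zero (R := F)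
  · rw [pS_addS, B_Spow_self σ]; ring
  · rw [pT_addS, ← q_succ σ, q_eq_zero σ (by omega) hw0]; ring
  · rw [q_addS ha, q_eq_zero σ (by omega) hw0, hSv _ (by omega), map_zero, LinearMap.zero_apply]; ring

/-- The lower normalisation of two blocks of odd size. -/
theorem exists_low_odd (hW : Inv σ W) {k : ℕ} {v w : V} (hv : v ∈ W) (hw : w ∈ W) (hv0 : σ.T ((σ.S ^ k) v) = 0)
    (hw0 : σ.T ((σ.S ^ k) w) = 0) (hpk : σ.B ((σ.S ^ k) v) w = 1) :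
    ∀ j, j ≤ k → ∃ v' ∈ W, ∃ w' ∈ W, σ.T ((σ.S ^ k) v') = 0 ∧ σ.T ((σ.S ^ k) w') = 0 ∧
      σ.B ((σ.S ^ k) v') w' = 1 ∧ (d ≤ k → σ.q k v' = σ.q k v ∧ σ.q k w' = σ.q k w) ∧
      ∀ a, k ≤ a + j → a < k → σ.B ((σ.S ^ a) v') w' = 0 ∧ σ.B (σ.T ((σ.S ^ a) v')) w' = 0 ∧
        (d ≤ a → σ.q a v' = 0 ∧ σ.q a w' = 0) := by
  intro j
  induction j with
  | zero => exact fun _ => ⟨v, hv, w, hw, hv0, hw0, hpk, fun _ => ⟨rfl, rfl⟩, fun a h h' => absurd h' (by omega)⟩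
  | succ j ih =>
    intro hj
    obtain ⟨v₀, hv₀, w₀, hw₀, hv00, hw00, hp0, htop, hst⟩ := ih (by omega)
    obtain ⟨l, hl⟩ : ∃ l, l + (j + 1) = k := ⟨k - (j + 1), by omega⟩
    obtain ⟨v₁, hv₁, hv10, hp1, hl1, hlT1, hs1, hq1⟩ := exists_pair_odd hW hl hv₀ hv00 hp0
      fun a ha hak => ⟨(hst a (by omega) hak).1, (hst a (by omega) hak).2.1⟩
    obtain ⟨v₂, hv₂, hv20, hql2, hp2, hq2⟩ := exists_clear_odd hW hl hv₁ hw₀ hv10 hw00 hp1
    obtain ⟨w₁, hw₁, hw10, hql3, hp3, hq3⟩ := exists_clear_odd hW hl hw₀ hv₂ hw00 hv20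
      (by rw [B_swapS, (hp2 k (by omega)).1, hp1])
    have hS : ∀ a, l ≤ a → σ.B ((σ.S ^ a) v₂) w₁ = σ.B ((σ.S ^ a) v₁) w₀ ∧
        σ.B (σ.T ((σ.S ^ a) v₂)) w₁ = σ.B (σ.T ((σ.S ^ a) v₁)) w₀ := fun a ha => by
      have e : σ.B ((σ.S ^ (a + 1)) v₂) w₁ = σ.B ((σ.S ^ (a + 1)) v₂) w₀ := by
        rw [← B_swapS, (hp3 _ (by omega)).1, B_swapS]
      refine ⟨by rw [← B_swapS, (hp3 a ha).1, B_swapS, (hp2 a ha).1], ?_⟩
      have h := (hp3 a ha).2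
      rw [B_swapT a v₂ w₁, B_swapT a v₂ w₀, e] at h
      rw [add_right_cancel h, (hp2 a ha).2]
    refine ⟨v₂, hv₂, w₁, hw₁, hv20, hw10, by rw [(hS k (by omega)).1, hp1], fun hdk => ⟨?_, ?_⟩, fun a ha hak => ?_⟩
    · rw [hq2 k hdk (by omega), hq1 k hdk (by omega), (htop hdk).1]
    · rw [hq3 k hdk (by omega), (htop hdk).2]
    · rcases eq_or_lt_of_le (show l ≤ a by omega) with rfl | hla
      · exact ⟨by rw [(hS l le_rfl).1, hl1], by rw [(hS l le_rfl).2, hlT1], fun hd => ⟨hql2 hd, hql3 hd⟩⟩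
      · obtain ⟨e1, e2, e3⟩ := hst a (by omega) hak
        refine ⟨by rw [(hS a hla.le).1, (hs1 a hla hak).1], by rw [(hS a hla.le).2, (hs1 a hla hak).2], fun hd => ⟨?_, ?_⟩⟩
        · rw [hq2 a hd hla, hq1 a hd hla, (e3 hd).1]
        · rw [hq3 a hd hla, (e3 hd).2]

/-- Normalising the quadratic form on the top of two blocks of odd size. -/
theorem exists_top_odd (hα : ∀ x : F, x ^ 2 + x ≠ α) {k : ℕ} (hd : d ≤ k) {v w : V} (hv : v ∈ W) (hw : w ∈ W)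
    (hv0 : σ.T ((σ.S ^ k) v) = 0) (hw0 : σ.T ((σ.S ^ k) w) = 0) (hp : σ.B ((σ.S ^ k) v) w = 1) :
    ∃ v' ∈ W, ∃ w' ∈ W, σ.T ((σ.S ^ k) v') = 0 ∧ σ.T ((σ.S ^ k) w') = 0 ∧ σ.B ((σ.S ^ k) v') w' = 1 ∧
      ((σ.q k v' = 0 ∧ σ.q k w' = 0) ∨ (σ.q k v' = 1 ∧ σ.q k w' = α)) := by
  have hiso : ∀ v w : V, v ∈ W → w ∈ W → σ.T ((σ.S ^ k) v) = 0 → σ.T ((σ.S ^ k) w) = 0 →
      σ.B ((σ.S ^ k) v) w = 1 → σ.q k v = 0 → ∃ v' ∈ W, ∃ w' ∈ W, σ.T ((σ.S ^ k) v') = 0 ∧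
      σ.T ((σ.S ^ k) w') = 0 ∧ σ.B ((σ.S ^ k) v') w' = 1 ∧ σ.q k v' = 0 ∧ σ.q k w' = 0 := by
    intro v w hv hw hv0 hw0 hp hq
    refine ⟨v, hv, w + σ.q k w • v, W.add_mem hw (W.smul_mem _ hv), hv0, ?_, ?_, hq, ?_⟩
    · rw [map_add, map_add, map_smul, map_smul, hw0, hv0]; simp
    · rw [map_add, map_smul, hp, B_Spow_self σ, smul_zero, add_zero]
    · rw [q_add σ hd, q_smul σ hd, hq, map_smul, B_swapS, hp, smul_eq_mul]
      linear_combination σ.q k w * CharTwo.two_eq_zero (R := F)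
  by_cases hA : σ.q k v = 0
  · obtain ⟨v', hv', w', hw', h1, h2, h3, h4⟩ := hiso v w hv hw hv0 hw0 hp hA
    exact ⟨v', hv', w', hw', h1, h2, h3, Or.inl h4⟩
  obtain ⟨c, hc⟩ := exists_sqrt (σ.q k v)⁻¹
  have hc0 : c ≠ 0 := by
    rintro rfl
    rw [zero_pow two_ne_zero, zero_eq_inv] at hc
    exact hA hc.symm
  set v₁ := c • v with hv₁
  set w₁ := c⁻¹ • w with hw₁
  have hv10 : σ.T ((σ.S ^ k) v₁) = 0 := by rw [map_smul, map_smul, hv0, smul_zero]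
  have hw10 : σ.T ((σ.S ^ k) w₁) = 0 := by rw [map_smul, map_smul, hw0, smul_zero]
  have hp1 : σ.B ((σ.S ^ k) v₁) w₁ = 1 := by
    simp only [hv₁, hw₁, map_smul, LinearMap.smul_apply, smul_eq_mul, hp, mul_one]
    field_simp
  have hq1 : σ.q k v₁ = 1 := by rw [hv₁, q_smul σ hd, hc, inv_mul_cancel₀ hA]
  have hv1m : v₁ ∈ W := W.smul_mem _ hv
  have hw1m : w₁ ∈ W := W.smul_mem _ hw
  clear_value v₁ w₁
  obtain ⟨x, hx⟩ := exists_as hα (σ.q k w₁)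
  set w₂ := w₁ + x • v₁ with hw₂
  have hw2m : w₂ ∈ W := W.add_mem hw1m (W.smul_mem _ hv1m)
  have hw20 : σ.T ((σ.S ^ k) w₂) = 0 := by
    rw [hw₂, map_add, map_add, hw10, map_smul, map_smul, hv10]; simp
  have hp2 : σ.B ((σ.S ^ k) v₁) w₂ = 1 := by
    rw [hw₂, map_add, map_smul, hp1, B_Spow_self σ, smul_zero, add_zero]
  have hq2 : σ.q k w₂ = σ.q k w₁ + (x ^ 2 + x) := by
    rw [hw₂, q_add σ hd, q_smul σ hd, hq1, map_smul, B_swapS, hp1, smul_eq_mul]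
    ring
  rcases hx with hx | hx
  · obtain ⟨v', hv', w', hw', h1, h2, h3, h4⟩ := hiso w₂ v₁ hw2m hv1m hw20 hv10
      (by rw [B_swapS, hp2]) (hq2.trans hx)
    exact ⟨v', hv', w', hw', h1, h2, h3, Or.inl h4⟩
  · exact ⟨v₁, hv1m, w₂, hw2m, hv10, hw20, hp2, Or.inr ⟨hq1, hq2.trans hx⟩⟩

theorem exists_isWo (hα : ∀ x : F, x ^ 2 + x ≠ α) (hW : Inv σ W) {k : ℕ} {v w : V} (hv : v ∈ W) (hw : w ∈ W)
    (hv0 : σ.T ((σ.S ^ k) v) = 0) (hw0 : σ.T ((σ.S ^ k) w) = 0) (hp : σ.B ((σ.S ^ k) v) w ≠ 0) :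
    ∃ v' ∈ W, ∃ w' ∈ W, ∃ b, IsWo σ α k b v' w' ∧ (d ≤ k → σ.q k v = 0 → b = false) := by
  set c := (σ.B ((σ.S ^ k) v) w)⁻¹
  have hw' : c • w ∈ W := W.smul_mem _ hw
  have hw0' : σ.T ((σ.S ^ k) (c • w)) = 0 := by rw [map_smul, map_smul, hw0, smul_zero]
  have hp' : σ.B ((σ.S ^ k) v) (c • w) = 1 := by rw [map_smul, smul_eq_mul, inv_mul_cancel₀ hp]
  obtain ⟨v₁, hv₁, w₁, hw₁, hv10, hw10, hp1, b, hbit, htop⟩ : ∃ v₁ ∈ W, ∃ w₁ ∈ W, σ.T ((σ.S ^ k) v₁) = 0 ∧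
      σ.T ((σ.S ^ k) w₁) = 0 ∧ σ.B ((σ.S ^ k) v₁) w₁ = 1 ∧ ∃ b : Bool, ((b = true → d ≤ k) ∧
        (d ≤ k → σ.q k v = 0 → b = false)) ∧
      (d ≤ k → σ.q k v₁ = (if b = true then 1 else 0) ∧ σ.q k w₁ = if b = true then α else 0) := by
    by_cases hd : d ≤ k
    · obtain ⟨v', hv', w', hw'', h1, h2, h3, h4⟩ := exists_top_odd hα hd hv hw' hv0 hw0' hp'
      rcases h4 with h4 | ⟨h4, h5⟩
      · exact ⟨v', hv', w', hw'', h1, h2, h3, false, ⟨fun _ => hd, fun _ _ => rfl⟩, fun _ => by simpa using h4⟩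
      by_cases hq : σ.q k v = 0
      · refine ⟨v, hv, c • w + σ.q k (c • w) • v, W.add_mem hw' (W.smul_mem _ hv), hv0, ?_, ?_, false,
          ⟨fun _ => hd, fun _ _ => rfl⟩, fun _ => ?_⟩
        · rw [map_add, map_add, hw0', map_smul, map_smul, hv0]; simp
        · rw [map_add, map_smul (σ.B ((σ.S ^ k) v)) _ v, hp', B_Spow_self σ, smul_zero, add_zero]
        · simp only [Bool.false_eq_true, if_false, hq, true_and]
          rw [q_add σ hd, q_smul σ hd _ v, hq, map_smul (σ.B ((σ.S ^ k) (c • w))) _ v, B_swapS, hp', smul_eq_mul]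
          linear_combination σ.q k (c • w) * CharTwo.two_eq_zero (R := F)
      · exact ⟨v', hv', w', hw'', h1, h2, h3, true, ⟨fun _ => hd, fun _ h => absurd h hq⟩,
          fun _ => by simp [h4, h5]⟩
    · exact ⟨v, hv, c • w, hw', hv0, hw0', hp', false, ⟨fun h => by simp at h, fun _ _ => rfl⟩,
        fun h => absurd h hd⟩
  obtain ⟨v', hv', w', hw'', hv'0, hw'0, hp'', htop', hlow⟩ := exists_low_odd hW hv₁ hw₁ hv10 hw10 hp1 k le_rfl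
  refine ⟨v', hv', w', hw'', b, ⟨hbit.1, hv'0, hw'0, fun a => ?_, fun a => ?_, fun i hi hik => ?_, fun i hi hik => ?_⟩, hbit.2⟩
  · rcases lt_trichotomy a k with h | rfl | h
    · rw [if_neg h.ne, (hlow a (by omega) h).1]
    · rw [if_pos rfl, hp'']
    · rw [if_neg h.ne', Spow_eq_zero_mono σ h (Spow_succ_eq_zero hv'0), map_zero, LinearMap.zero_apply]
  · rcases lt_or_ge a k with h | h
    · exact (hlow a (by omega) h).2.1
    · rcases eq_or_lt_of_le h with rfl | h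
      · rw [hv'0, map_zero, LinearMap.zero_apply]
      · rw [Spow_eq_zero_mono σ h (Spow_succ_eq_zero hv'0), map_zero, map_zero, LinearMap.zero_apply]
  · rcases eq_or_lt_of_le hik with rfl | h
    · rw [(htop' hi).1, (htop hi).1]; simp
    · rw [if_neg (by omega)]; exact ((hlow i (by omega) h).2.2 hi).1
  · rcases eq_or_lt_of_le hik with rfl | h
    · rw [(htop' hi).2, (htop hi).2]; simp
    · rw [if_neg (by omega)]; exact ((hlow i (by omega) h).2.2 hi).2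

/-! ### Two blocks of even size -/

theorem exists_step_even (hW : Inv σ W) {k l i : ℕ} (hi : l + i + 1 = k) {v w : V} (hv : v ∈ W)
    (hv0 : (σ.S ^ k) v = 0) (hqv : ∀ a, d ≤ a → k ≤ a → σ.q a v = 0) (hp : σ.B (σ.T ((σ.S ^ (k - 1)) v)) w = 1)
    (hs : ∀ a, l < a → σ.B ((σ.S ^ a) v) w = 0 ∧
      σ.B (σ.T ((σ.S ^ a) v)) w = if a + 1 = k then 1 else 0) :
    ∃ v' ∈ W, (σ.S ^ k) v' = 0 ∧ (∀ a, d ≤ a → k ≤ a → σ.q a v' = 0) ∧
      σ.B (σ.T ((σ.S ^ (k - 1)) v')) w = 1 ∧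
      (∀ a, l ≤ a → σ.B ((σ.S ^ a) v') w = 0 ∧ σ.B (σ.T ((σ.S ^ a) v')) w = if a + 1 = k then 1 else 0) ∧
      ∀ a, d ≤ a → l < a → σ.q a v' = σ.q a v := by
  have hSv : ∀ a, k ≤ a → (σ.S ^ a) v = 0 := fun a ha => Spow_eq_zero_mono σ ha hv0
  obtain ⟨v₁, hv₁, hv10, hqv1, hp1, hl1, hs1, hq1⟩ : ∃ v₁ ∈ W, (σ.S ^ k) v₁ = 0 ∧
      (∀ a, d ≤ a → k ≤ a → σ.q a v₁ = 0) ∧ σ.B (σ.T ((σ.S ^ (k - 1)) v₁)) w = 1 ∧
      σ.B (σ.T ((σ.S ^ l) v₁)) w = (if l + 1 = k then 1 else 0) ∧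
      (∀ a, l < a → σ.B ((σ.S ^ a) v₁) w = 0 ∧ σ.B (σ.T ((σ.S ^ a) v₁)) w = if a + 1 = k then 1 else 0) ∧
      ∀ a, d ≤ a → l < a → σ.q a v₁ = σ.q a v := by
    rcases Nat.eq_zero_or_pos i with h0 | h0
    · exact ⟨v, hv, hv0, hqv, hp, by rw [if_pos (by omega), show l = k - 1 by omega, hp], hs, fun _ _ _ => rfl⟩
    set μ := σ.B (σ.T ((σ.S ^ l) v)) w with hμ
    refine ⟨v + μ • (σ.S ^ i) v, W.add_mem hv (W.smul_mem _ (Inv.Spow_mem σ hW hv _)), ?_, fun a ha hka => ?_, ?_,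
      ?_, fun a ha => ⟨?_, ?_⟩, fun a ha hla => ?_⟩
    · rw [map_add, map_smul, Spow_Spow σ, hv0, hSv _ (by omega)]; simp
    · rw [q_addS_self ha, hqv a ha hka, hqv _ (by omega) (by omega)]; ring
    · rw [pT_addS, hp, hSv _ (by omega)]; simp
    · rw [if_neg (by omega), pT_addS, show l + i = k - 1 by omega, hp, mul_one, CharTwo.add_self_eq_zero]
    · rw [pS_addS, (hs a ha).1, hSv _ (by omega)]; simp
    · rw [pT_addS, (hs a ha).2, hSv _ (by omega)]; simp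
    · rw [q_addS_self ha, hqv (a + 2 * i) (by omega) (by omega)]; ring
  have hSv1 : ∀ a, k ≤ a → (σ.S ^ a) v₁ = 0 := fun a ha => Spow_eq_zero_mono σ ha hv10
  set ν := σ.B ((σ.S ^ l) v₁) w with hν
  refine ⟨v₁ + ν • σ.T ((σ.S ^ i) v₁), W.add_mem hv₁ (W.smul_mem _ (Inv.TSpow_mem hW hv₁ _)), ?_,
    fun a ha hka => ?_, ?_, fun a ha => ?_, fun a ha hla => ?_⟩
  · rw [map_add, map_smul, ← T_Spow σ, Spow_Spow σ, hv10, hSv1 _ (by omega)]; simp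
  · rw [q_addT_self ha, hqv1 a ha hka, hqv1 _ (by omega) (by omega), hqv1 _ (by omega) (by omega)]; ring
  · rw [pT_addT, hp1, hSv1 _ (by omega)]; simp
  · rcases eq_or_lt_of_le ha with rfl | hla
    · refine ⟨?_, ?_⟩
      · rw [pS_addT, show l + i = k - 1 by omega, hp1, mul_one, CharTwo.add_self_eq_zero]
      · rw [pT_addT, hl1, hSv1 _ (by omega)]; simp
    · refine ⟨?_, ?_⟩
      · rw [pS_addT, (hs1 a hla).1, hSv1 _ (by omega)]; simp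
      · rw [pT_addT, (hs1 a hla).2, hSv1 _ (by omega)]; simp
  · rw [q_addT_self ha, hqv1 (a + 2 * i + 1) (by omega) (by omega), hqv1 (a + i + 1) (by omega) (by omega),
      hq1 a ha hla]; ring

/-- Killing `q l` of the first vector. -/
theorem exists_clear_even (hW : Inv σ W) {k l i : ℕ} (hi : l + i + 1 = k) {v w : V} (hv : v ∈ W) (hw : w ∈ W)
    (hv0 : (σ.S ^ k) v = 0) (hw0 : (σ.S ^ k) w = 0) (hqw : ∀ a, d ≤ a → k ≤ a → σ.q a w = 0)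
    (hp : σ.B (σ.T ((σ.S ^ (k - 1)) v)) w = 1) :
    ∃ v' ∈ W, (σ.S ^ k) v' = 0 ∧ (d ≤ l → σ.q l v' = 0) ∧
      (∀ a, l ≤ a → σ.B ((σ.S ^ a) v') w = σ.B ((σ.S ^ a) v) w ∧
        σ.B (σ.T ((σ.S ^ a) v')) w = σ.B (σ.T ((σ.S ^ a) v)) w) ∧
      ∀ a, d ≤ a → l < a → σ.q a v' = σ.q a v := by
  have hSw : ∀ a, k ≤ a → (σ.S ^ a) w = 0 := fun a ha => Spow_eq_zero_mono σ ha hw0
  have hSv : ∀ a, k ≤ a → (σ.S ^ a) v = 0 := fun a ha => Spow_eq_zero_mono σ ha hv0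
  by_cases hdl : d ≤ l
  swap
  · exact ⟨v, hv, hv0, fun h => absurd h hdl, fun _ _ => ⟨rfl, rfl⟩, fun _ _ _ => rfl⟩
  refine ⟨v + σ.q l v • σ.T ((σ.S ^ i) w), W.add_mem hv (W.smul_mem _ (Inv.TSpow_mem hW hw _)), ?_, fun hl => ?_,
    fun a ha => ⟨?_, ?_⟩, fun a ha hla => ?_⟩
  · rw [map_add, map_smul, ← T_Spow σ, Spow_Spow σ, hv0, hSw _ (by omega)]; simp
  · rw [q_addT hl, hqw _ (by omega) (by omega), show l + i = k - 1 by omega, hp, hSv _ (by omega), map_zero,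
      LinearMap.zero_apply]
    linear_combination σ.q l v * CharTwo.two_eq_zero (R := F)
  · rw [pS_addT, ← q_succ σ, hqw _ (by omega) (by omega)]; ring
  · rw [pT_addT, B_Spow_self σ, ← q_succ σ, hqw _ (by omega) (by omega)]; ring
  · rw [q_addT ha, hqw _ (by omega) (by omega), hSv _ (by omega), hSv _ (by omega)]; simp

theorem exists_isWe (hW : Inv σ W) {k : ℕ} (hk : 1 ≤ k) (hd : d ≤ k) {v w : V} (hv : v ∈ W) (hw : w ∈ W)
    (hv0 : (σ.S ^ k) v = 0) (hw0 : (σ.S ^ k) w = 0) (hqv : σ.q k v = 0) (hqw : σ.q k w = 0)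
    (hp : σ.B (σ.T ((σ.S ^ (k - 1)) v)) w ≠ 0) : ∃ v' ∈ W, ∃ w' ∈ W, IsWe σ k v' w' := by
  have htail : ∀ x : V, (σ.S ^ k) x = 0 → σ.q k x = 0 → ∀ a, d ≤ a → k ≤ a → σ.q a x = 0 := fun x hx hq a _ ha => by
    rcases eq_or_lt_of_le ha with rfl | h
    · exact hq
    · exact q_eq_zero σ h (T_eq_zero_of_S σ hx)
  set c := (σ.B (σ.T ((σ.S ^ (k - 1)) v)) w)⁻¹
  have main : ∀ j, j ≤ k → ∃ v' ∈ W, ∃ w' ∈ W, (σ.S ^ k) v' = 0 ∧ (σ.S ^ k) w' = 0 ∧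
      (∀ a, d ≤ a → k ≤ a + j → σ.q a v' = 0 ∧ σ.q a w' = 0) ∧
      σ.B (σ.T ((σ.S ^ (k - 1)) v')) w' = 1 ∧
      ∀ a, k ≤ a + j → σ.B ((σ.S ^ a) v') w' = 0 ∧ σ.B (σ.T ((σ.S ^ a) v')) w' = if a + 1 = k then 1 else 0 := by
    intro j
    induction j with
    | zero =>
      intro _
      have hc : (σ.S ^ k) (c • w) = 0 := by rw [map_smul, hw0, smul_zero]
      refine ⟨v, hv, c • w, W.smul_mem _ hw, hv0, hc, fun a ha h => ⟨htail v hv0 hqv a ha h,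
        htail _ hc (by rw [q_smul σ hd, hqw, mul_zero]) a ha h⟩, ?_, fun a h => ?_⟩
      · rw [map_smul, smul_eq_mul, inv_mul_cancel₀ hp]
      · rw [if_neg (by omega), Spow_eq_zero_mono σ (show k ≤ a by omega) hv0]; simp
    | succ j ih =>
      intro hj
      obtain ⟨v₀, hv₀, w₀, hw₀, hv00, hw00, hq0, hp0, hst⟩ := ih (by omega)
      obtain ⟨l, hl⟩ : ∃ l, l + j + 1 = k := ⟨k - (j + 1), by omega⟩
      obtain ⟨v₁, hv₁, hv10, hqv1, hp1, hs1, hq1⟩ := exists_step_even hW hl hv₀ hv00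
        (fun a ha hka => (hq0 a ha (by omega)).1) hp0 fun a ha => hst a (by omega)
      obtain ⟨v₂, hv₂, hv20, hql2, hp2, hq2⟩ := exists_clear_even hW hl hv₁ hw₀ hv10 hw00
        (fun a ha hka => (hq0 a ha (by omega)).2) hp1
      have hsw : ∀ a, l ≤ a → σ.B ((σ.S ^ a) w₀) v₂ = 0 ∧
          σ.B (σ.T ((σ.S ^ a) w₀)) v₂ = if a + 1 = k then 1 else 0 := fun a ha => by
        refine ⟨by rw [B_swapS, (hp2 a ha).1, (hs1 a ha).1], ?_⟩
        rw [B_swapT, (hp2 a ha).2, (hp2 (a + 1) (by omega)).1, (hs1 a ha).2, (hs1 (a + 1) (by omega)).1, add_zero]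
      obtain ⟨w₁, hw₁, hw10, hql3, hp3, hq3⟩ := exists_clear_even hW hl hw₀ hv₂ hw00 hv20
        (fun a ha hka => by rw [hq2 a ha (by omega), hqv1 a ha hka])
        (by rw [(hsw (k - 1) (by omega)).2, if_pos (by omega)])
      have hfin : ∀ a, l ≤ a → σ.B ((σ.S ^ a) v₂) w₁ = 0 ∧
          σ.B (σ.T ((σ.S ^ a) v₂)) w₁ = if a + 1 = k then 1 else 0 := fun a ha => by
        refine ⟨by rw [← B_swapS, (hp3 a ha).1, (hsw a ha).1], ?_⟩
        have h := (hp3 a ha).2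
        rw [(hsw a ha).2, B_swapT, show σ.B ((σ.S ^ (a + 1)) v₂) w₁ = 0 by
          rw [← B_swapS, (hp3 _ (by omega)).1, (hsw _ (by omega)).1], add_zero] at h
        exact h
      refine ⟨v₂, hv₂, w₁, hw₁, hv20, hw10, fun a ha h => ?_, by rw [(hfin (k - 1) (by omega)).2, if_pos (by omega)],
        fun a h => hfin a (by omega)⟩
      rcases eq_or_lt_of_le (show l ≤ a by omega) with rfl | hla
      · exact ⟨hql2 ha, hql3 ha⟩
      · exact ⟨by rw [hq2 a ha hla, hq1 a ha hla, (hq0 a ha (by omega)).1],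
          by rw [hq3 a ha hla, (hq0 a ha (by omega)).2]⟩
  obtain ⟨v', hv', w', hw', hv'0, hw'0, hq, -, hst⟩ := main k le_rfl
  exact ⟨v', hv', w', hw', hk, hv'0, hw'0, fun a => (hst a (by omega)).1, fun a => (hst a (by omega)).2,
    fun i hi _ => (hq i hi (by omega)).1, fun i hi _ => (hq i hi (by omega)).2⟩

end Cfsg.Agent.UnipTwo
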