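/-
The ordered generators of a piece, their independence and the non-degeneracy of the pieces.
-/
import Cfsg.Agent.Lib.UnipTwo.Pieces

set_option autoImplicit false
set_option linter.unusedSectionVars false

namespace Cfsg.Agent.UnipTwo

variable {F : Type*} [Field F] [CharP F 2] [Finite F] {V : Type*} [AddCommGroup V] [Module F V] {d : ℕ}
  (σ : Sys F V d)

/-- The `N`-th generator above `v`: `S ^ a v` for `N = 2 a`, `T (S ^ a v)` for `N = 2 a + 1`. -/
def gen (N : ℕ) (v : V) : V := if N % 2 = 0 then (σ.S ^ (N / 2)) v else σ.T ((σ.S ^ (N / 2)) v)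

variable {σ}

theorem gen_two_mul (a : ℕ) (v : V) : gen σ (2 * a) v = (σ.S ^ a) v := by
  rw [gen, if_pos (by omega), show 2 * a / 2 = a by omega]

theorem gen_two_mul_add_one (a : ℕ) (v : V) : gen σ (2 * a + 1) v = σ.T ((σ.S ^ a) v) := by
  rw [gen, if_neg (by omega), show (2 * a + 1) / 2 = a by omega]

theorem gen_zero (v : V) : gen σ 0 v = v := by simpa using gen_two_mul (σ := σ) 0 v

theorem parity (N : ℕ) : ∃ a, N = 2 * a ∨ N = 2 * a + 1 := ⟨N / 2, by omega⟩

theorem gens_eq_range (v : V) : gens σ v = Set.range fun N => gen σ N v := by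
  ext x
  simp only [gens, Set.mem_union, Set.mem_range]
  constructor
  · rintro (⟨a, rfl⟩ | ⟨a, rfl⟩)
    · exact ⟨2 * a, gen_two_mul a v⟩
    · exact ⟨2 * a + 1, gen_two_mul_add_one a v⟩
  · rintro ⟨N, rfl⟩
    obtain ⟨a, rfl | rfl⟩ := parity N
    · exact Or.inl ⟨a, (gen_two_mul a v).symm⟩
    · exact Or.inr ⟨a, (gen_two_mul_add_one a v).symm⟩

theorem gen_mem_gspan (N : ℕ) (v : V) : gen σ N v ∈ gspan σ v :=
  Submodule.subset_span (by rw [gens_eq_range]; exact ⟨N, rfl⟩)

theorem q_gen {i : ℕ} (hi : d ≤ i) (N : ℕ) (v : V) : σ.q i (gen σ N v) = σ.q (i + N) v := by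
  obtain ⟨a, rfl | rfl⟩ := parity N
  · rw [gen_two_mul, q_Spow σ hi]
  · rw [gen_two_mul_add_one, q_TSpow σ hi, add_assoc]

theorem B_gen_self_even {N M s : ℕ} (h : N + M = 2 * s) (v : V) : σ.B (gen σ N v) (gen σ M v) = 0 := by
  obtain ⟨a, rfl | rfl⟩ := parity N <;> obtain ⟨b, rfl | rfl⟩ := parity M <;> first
    | omega
    | rw [gen_two_mul, gen_two_mul, B_S_S σ, B_Spow_self σ]
    | rw [gen_two_mul_add_one, gen_two_mul_add_one, B_TS_TS σ, B_Spow_self σ]

theorem B_gen_self_odd {N M s : ℕ} (h : N + M = 2 * s + 1) (v : V) :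
    σ.B (gen σ N v) (gen σ M v) = σ.q (s + 1) v := by
  obtain ⟨a, rfl | rfl⟩ := parity N <;> obtain ⟨b, rfl | rfl⟩ := parity M <;> first
    | omega
    | (obtain rfl : s = a + b := by omega
       rw [gen_two_mul, gen_two_mul_add_one, B_S_TS σ, B_Spow_self σ, add_zero, q_succ σ])
    | (obtain rfl : s = a + b := by omega
       rw [gen_two_mul, gen_two_mul_add_one, B_TS_S σ, q_succ σ])

/-- The pairing of two generators above different vectors. -/
theorem B_gen {N M : ℕ} (v w : V) :
    (∀ {s}, N + M = 2 * s → σ.B (gen σ N v) (gen σ M w) = σ.B ((σ.S ^ s) v) w) ∧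
    (∀ {s}, N + M = 2 * s + 1 → (N % 2 = 1 → σ.B (gen σ N v) (gen σ M w) = σ.B (σ.T ((σ.S ^ s) v)) w) ∧
      (N % 2 = 0 → σ.B (gen σ N v) (gen σ M w) = σ.B (σ.T ((σ.S ^ s) v)) w + σ.B ((σ.S ^ (s + 1)) v) w)) := by
  obtain ⟨a, rfl | rfl⟩ := parity N <;> obtain ⟨b, rfl | rfl⟩ := parity M
  · refine ⟨fun {s} h => ?_, fun {s} h => absurd h (by omega)⟩
    obtain rfl : s = a + b := by omega
    rw [gen_two_mul, gen_two_mul, B_S_S σ]
  · refine ⟨fun {s} h => absurd h (by omega), fun {s} h => ⟨fun h' => absurd h' (by omega), fun _ => ?_⟩⟩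
    obtain rfl : s = a + b := by omega
    rw [gen_two_mul, gen_two_mul_add_one, B_S_TS σ]
  · refine ⟨fun {s} h => absurd h (by omega), fun {s} h => ⟨fun _ => ?_, fun h' => absurd h' (by omega)⟩⟩
    obtain rfl : s = a + b := by omega
    rw [gen_two_mul_add_one, gen_two_mul, B_TS_S σ]
  · refine ⟨fun {s} h => ?_, fun {s} h => absurd h (by omega)⟩
    obtain rfl : s = a + b + 1 := by omega
    rw [gen_two_mul_add_one, gen_two_mul_add_one, B_TS_TS σ]

theorem gen_eq_zero_even {k : ℕ} {v : V} (hv : (σ.S ^ k) v = 0) {N : ℕ} (hN : 2 * k ≤ N) : gen σ N v = 0 := by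
  obtain ⟨a, rfl | rfl⟩ := parity N
  · rw [gen_two_mul, Spow_eq_zero_mono σ (by omega : k ≤ a) hv]
  · rw [gen_two_mul_add_one, Spow_eq_zero_mono σ (by omega : k ≤ a) hv, map_zero]

theorem gen_eq_zero_odd {k : ℕ} {v : V} (hv : σ.T ((σ.S ^ k) v) = 0) {N : ℕ} (hN : 2 * k + 1 ≤ N) :
    gen σ N v = 0 := by
  obtain ⟨a, rfl | rfl⟩ := parity N
  · rw [gen_two_mul, Spow_eq_zero_mono σ (by omega : k + 1 ≤ a) (Spow_succ_eq_zero hv)]
  · rcases eq_or_lt_of_le (show k ≤ a by omega) with rfl | h
    · rw [gen_two_mul_add_one, hv]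
    · rw [gen_two_mul_add_one, Spow_eq_zero_mono σ h (Spow_succ_eq_zero hv), map_zero]

/-! ### Non-degenerate subspaces -/

variable (σ)

/-- The restriction of `B` to `W` is non-degenerate. -/
def ND (W : Submodule F V) : Prop := ∀ x ∈ W, (∀ y ∈ W, σ.B x y = 0) → x = 0

/-- The span of the ordered generators above a family of vectors. -/
def gspans {r : ℕ} (x : Fin r → V) : Submodule F V := ⨆ i, gspan σ (x i)

/-- A triangular family of generators. -/
structure Tri {r : ℕ} (top : ℕ) (x : Fin r → V) (π : Fin r → Fin r) : Prop where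
  inj : Function.Injective π
  van : ∀ i N, top < N → gen σ N (x i) = 0
  hi : ∀ i j N M, top < N + M → σ.B (gen σ N (x i)) (gen σ M (x j)) = 0
  htop : ∀ i j N M, N + M = top → σ.B (gen σ N (x i)) (gen σ M (x j)) = if j = π i then 1 else 0

variable {σ} {r top : ℕ} {x : Fin r → V} {π : Fin r → Fin r}

theorem Tri.gspans_eq (h : Tri σ top x π) :
    gspans σ x = Submodule.span F (Set.range fun p : Fin r × Fin (top + 1) => gen σ p.2 (x p.1)) := by
  refine le_antisymm (iSup_le fun i => Submodule.span_le.2 ?_) (Submodule.span_le.2 ?_)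
  · rw [gens_eq_range]
    rintro _ ⟨N, rfl⟩
    rcases lt_or_ge top N with hN | hN
    · simp only [SetLike.mem_coe, h.van i N hN, Submodule.zero_mem]
    · exact Submodule.subset_span ⟨(i, ⟨N, by omega⟩), rfl⟩
  · rintro _ ⟨p, rfl⟩
    exact Submodule.mem_iSup_of_mem p.1 (gen_mem_gspan _ _)

theorem Tri.coeff_eq_zero (h : Tri σ top x π) (c : Fin r × Fin (top + 1) → F)
    (hc : ∀ j (M : Fin (top + 1)), σ.B (∑ p, c p • gen σ p.2 (x p.1)) (gen σ M (x j)) = 0) : c = 0 := by
  have key : ∀ N, ∀ hN : N < top + 1, ∀ i, c (i, ⟨N, hN⟩) = 0 := by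
    intro N
    induction N using Nat.strong_induction_on with
    | _ N ih =>
      intro hN i
      have := hc (π i) ⟨top - N, by omega⟩
      simp only [map_sum, map_smul, LinearMap.coe_sum, Finset.sum_apply, LinearMap.smul_apply, smul_eq_mul] at this
      rw [Finset.sum_eq_single (i, ⟨N, hN⟩)] at this
      · simp only at this
        rwa [h.htop i (π i) N (top - N) (by omega), if_pos rfl, mul_one] at this
      · rintro ⟨i', M, hM⟩ - hne
        simp only
        rcases lt_trichotomy M N with h1 | rfl | h1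
        · rw [ih M h1 hM i', zero_mul]
        · have hne' : i' ≠ i := fun e => hne (by subst e; rfl)
          rw [h.htop i' (π i) M (top - M) (by omega), if_neg fun e => hne' (h.inj e.symm), mul_zero]
        · rw [h.hi i' (π i) M (top - N) (by omega), mul_zero]
      · exact fun h' => absurd (Finset.mem_univ _) h'
  funext ⟨i, N, hN⟩
  exact key N hN i

theorem Tri.linearIndependent (h : Tri σ top x π) :
    LinearIndependent F fun p : Fin r × Fin (top + 1) => gen σ p.2 (x p.1) := by
  refine Fintype.linearIndependent_iff.2 fun c hc p => ?_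
  rw [h.coeff_eq_zero c fun j M => by rw [hc, map_zero, LinearMap.zero_apply]]
  rfl

theorem Tri.nd (h : Tri σ top x π) : ND σ (gspans σ x) := by
  intro y hy hortho
  rw [h.gspans_eq, Submodule.mem_span_range_iff_exists_fun] at hy
  obtain ⟨c, rfl⟩ := hy
  rw [h.coeff_eq_zero c fun j M => hortho _ (Submodule.mem_iSup_of_mem j (gen_mem_gspan _ _))]
  simp

theorem Tri.finrank_eq (h : Tri σ top x π) : Module.finrank F (gspans σ x) = r * (top + 1) := by
  rw [h.gspans_eq, finrank_span_eq_card h.linearIndependent, Fintype.card_prod, Fintype.card_fin, Fintype.card_fin]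

theorem inv_gspans {r : ℕ} (x : Fin r → V) : Inv σ (gspans σ x) := by
  intro y hy
  refine Submodule.iSup_induction _ (motive := fun y => σ.T y ∈ gspans σ x ∧ σ.S y ∈ gspans σ x) hy
    (fun i y hy => ⟨Submodule.mem_iSup_of_mem i (inv_gspan σ _ y hy).1,
      Submodule.mem_iSup_of_mem i (inv_gspan σ _ y hy).2⟩) (by simp) fun a b ha hb => ?_
  simp only [map_add]
  exact ⟨Submodule.add_mem _ ha.1 hb.1, Submodule.add_mem _ ha.2 hb.2⟩

theorem gspans_pair (v w : V) : gspans σ ![v, w] = gspan σ v ⊔ gspan σ w := by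
  refine le_antisymm (iSup_le fun i => ?_)
    (sup_le (le_iSup (fun i => gspan σ (![v, w] i)) 0) (le_iSup (fun i => gspan σ (![v, w] i)) 1))
  fin_cases i
  · exact le_sup_left
  · exact le_sup_right

theorem gspans_one (v : V) : gspans σ ![v] = gspan σ v := by
  rw [gspans, ciSup_unique] <;> rfl

/-! ### The pieces -/

variable {α : F} {k : ℕ} {b : Bool} {v w : V}

theorem IsV.tri (hd : d ≤ 1) (h : IsV σ α k b v) : Tri σ (2 * k - 1) ![v] (fun _ => 0) := by
  have hk := h.one_le
  have hq : ∀ i, k < i → σ.q i v = 0 := fun i hi => q_eq_zero σ hi (T_eq_zero_of_S σ h.hS)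
  refine ⟨fun i j _ => Subsingleton.elim i j, fun i N hN => ?_, fun i j N M hNM => ?_, fun i j N M hNM => ?_⟩
  · fin_cases i
    exact gen_eq_zero_even h.hS (by omega)
  · fin_cases i; fin_cases j
    obtain ⟨s, hs | hs⟩ := parity (N + M)
    · exact B_gen_self_even hs v
    · exact (B_gen_self_odd hs v).trans (hq _ (by omega))
  · fin_cases i; fin_cases j
    exact (B_gen_self_odd (s := k - 1) (by omega) v).trans (by rw [show k - 1 + 1 = k by omega, h.top]; simp)

theorem IsWo.qv_eq_zero (h : IsWo σ α k b v w) {i : ℕ} (hi : k < i) : σ.q i v = 0 ∧ σ.q i w = 0 :=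
  ⟨q_eq_zero σ hi h.hv, q_eq_zero σ hi h.hw⟩

theorem IsWe.qv_eq_zero (h : IsWe σ k v w) {i : ℕ} (hi : d ≤ i) : σ.q i v = 0 ∧ σ.q i w = 0 := by
  rcases le_or_gt i k with h' | h'
  · exact ⟨h.qv i hi h', h.qw i hi h'⟩
  · exact ⟨q_eq_zero σ h' (T_eq_zero_of_S σ h.hv), q_eq_zero σ h' (T_eq_zero_of_S σ h.hw)⟩

/-- The pairing of the two generators of two blocks of odd size. -/
theorem IsWo.B_cross (h : IsWo σ α k b v w) {N M : ℕ} (hNM : 2 * k ≤ N + M) :
    σ.B (gen σ N v) (gen σ M w) = if N + M = 2 * k then 1 else 0 := by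
  obtain ⟨e1, e2⟩ := B_gen (σ := σ) (N := N) (M := M) v w
  obtain ⟨s, hs | hs⟩ := parity (N + M)
  · rw [e1 hs, h.pS]
    exact if_congr (by omega) rfl rfl
  · rw [if_neg (by omega)]
    rcases Nat.mod_two_eq_zero_or_one N with hp | hp
    · rw [(e2 hs).2 hp, h.pT, h.pS, if_neg (by omega), add_zero]
    · rw [(e2 hs).1 hp, h.pT]

theorem IsWe.B_cross (h : IsWe σ k v w) {N M : ℕ} :
    σ.B (gen σ N v) (gen σ M w) = if N + M + 1 = 2 * k then 1 else 0 := by
  obtain ⟨e1, e2⟩ := B_gen (σ := σ) (N := N) (M := M) v w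
  obtain ⟨s, hs | hs⟩ := parity (N + M)
  · rw [e1 hs, h.pS, if_neg (by omega)]
  · rcases Nat.mod_two_eq_zero_or_one N with hp | hp
    · rw [(e2 hs).2 hp, h.pT, h.pS, add_zero]
      exact if_congr (by omega) rfl rfl
    · rw [(e2 hs).1 hp, h.pT]
      exact if_congr (by omega) rfl rfl

theorem IsWo.tri (hd : d ≤ 1) (h : IsWo σ α k b v w) : Tri σ (2 * k) ![v, w] ![1, 0] := by
  refine ⟨by decide, fun i N hN => ?_, fun i j N M hNM => ?_, fun i j N M hNM => ?_⟩
  · fin_cases i
    · exact gen_eq_zero_odd h.hv (by omega)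
    · exact gen_eq_zero_odd h.hw (by omega)
  · fin_cases i <;> fin_cases j
    · obtain ⟨s, hs | hs⟩ := parity (N + M)
      · exact B_gen_self_even hs v
      · exact (B_gen_self_odd hs v).trans (h.qv_eq_zero (by omega)).1
    · exact (h.B_cross hNM.le).trans (if_neg hNM.ne')
    · exact (B_comm σ _ _).trans ((h.B_cross (by omega)).trans (if_neg (by omega)))
    · obtain ⟨s, hs | hs⟩ := parity (N + M)
      · exact B_gen_self_even hs w
      · exact (B_gen_self_odd hs w).trans (h.qv_eq_zero (by omega)).2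
  · fin_cases i <;> fin_cases j
    · exact (B_gen_self_even hNM v).trans (by simp)
    · exact (h.B_cross hNM.ge).trans (by simp [hNM])
    · exact (B_comm σ _ _).trans ((h.B_cross (by omega)).trans (by rw [if_pos (by omega)]; simp))
    · exact (B_gen_self_even hNM w).trans (by simp)

theorem IsWe.tri (hd : d ≤ 1) (h : IsWe σ k v w) : Tri σ (2 * k - 1) ![v, w] ![1, 0] := by
  have hk := h.one_le
  refine ⟨by decide, fun i N hN => ?_, fun i j N M hNM => ?_, fun i j N M hNM => ?_⟩
  · fin_cases i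
    · exact gen_eq_zero_even h.hv (by omega)
    · exact gen_eq_zero_even h.hw (by omega)
  · fin_cases i <;> fin_cases j
    · obtain ⟨s, hs | hs⟩ := parity (N + M)
      · exact B_gen_self_even hs v
      · exact (B_gen_self_odd hs v).trans (h.qv_eq_zero (by omega)).1
    · exact h.B_cross.trans (if_neg (by omega))
    · exact (B_comm σ _ _).trans (h.B_cross.trans (if_neg (by omega)))
    · obtain ⟨s, hs | hs⟩ := parity (N + M)
      · exact B_gen_self_even hs w
      · exact (B_gen_self_odd hs w).trans (h.qv_eq_zero (by omega)).2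
  · fin_cases i <;> fin_cases j
    · exact (B_gen_self_odd (s := k - 1) (by omega) v).trans (by rw [(h.qv_eq_zero (by omega)).1]; simp)
    · exact h.B_cross.trans (by rw [if_pos (by omega)]; simp)
    · exact (B_comm σ _ _).trans (h.B_cross.trans (by rw [if_pos (by omega)]; simp))
    · exact (B_gen_self_odd (s := k - 1) (by omega) w).trans (by rw [(h.qv_eq_zero (by omega)).2]; simp)

/-- A piece is stable, non-degenerate and has the expected dimension. -/
theorem Real.props (hd : d ≤ 1) {K : Kind} {P : Submodule F V} (h : Real σ α K P) :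
    Inv σ P ∧ ND σ P ∧ Module.finrank F P = K.size ∧ 0 < K.size := by
  cases K with
  | V k b =>
    obtain ⟨v, hv, rfl⟩ := h
    rw [← gspans_one]
    refine ⟨inv_gspans _, (hv.tri hd).nd, (hv.tri hd).finrank_eq.trans ?_, ?_⟩ <;>
      · have := hv.one_le
        simp only [Kind.size]
        omega
  | Wo k b =>
    obtain ⟨v, w, hv, rfl⟩ := h
    rw [← gspans_pair]
    exact ⟨inv_gspans _, (hv.tri hd).nd, (hv.tri hd).finrank_eq, by simp only [Kind.size]; omega⟩
  | We k =>
    obtain ⟨v, w, hv, rfl⟩ := h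
    rw [← gspans_pair]
    refine ⟨inv_gspans _, (hv.tri hd).nd, (hv.tri hd).finrank_eq.trans ?_, ?_⟩ <;>
      · have := hv.one_le
        simp only [Kind.size]
        omega

end Cfsg.Agent.UnipTwo
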