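/-
Orthogonal decomposition of a unipotent isometry in characteristic two into pieces.
-/
import Cfsg.Agent.Lib.UnipTwo.Gen

set_option autoImplicit false
set_option linter.unusedSectionVars false

namespace Cfsg.Agent.UnipTwo

variable {F : Type*} [Field F] [CharP F 2] [Finite F] {V : Type*} [AddCommGroup V] [Module F V]
  [FiniteDimensional F V] {d : ℕ} {σ : Sys F V d} {α : F}

variable (σ) in
/-- The orthogonal of a subspace. -/
def perp (P : Submodule F V) : Submodule F V where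
  carrier := {x | ∀ y ∈ P, σ.B x y = 0}
  add_mem' := fun ha hb y hy => by rw [map_add, LinearMap.add_apply, ha y hy, hb y hy, add_zero]
  zero_mem' := fun y _ => by rw [map_zero, LinearMap.zero_apply]
  smul_mem' := fun c x hx y hy => by rw [map_smul, LinearMap.smul_apply, hx y hy, smul_zero]

theorem mem_perp {P : Submodule F V} {x : V} : x ∈ perp σ P ↔ ∀ y ∈ P, σ.B x y = 0 := Iff.rfl

theorem inv_perp {P : Submodule F V} (hP : Inv σ P) : Inv σ (perp σ P) := by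
  intro x hx
  refine ⟨fun y hy => ?_, fun y hy => ?_⟩
  · have e := B_T_right σ x y
    rw [hx _ (hP y hy).1, B_S, hx _ (hP y hy).2, add_zero] at e
    exact e.symm
  · rw [B_S, hx _ (hP y hy).2]

theorem inv_inf {W W' : Submodule F V} (h : Inv σ W) (h' : Inv σ W') : Inv σ (W ⊓ W') :=
  fun x hx => ⟨⟨(h x hx.1).1, (h' x hx.2).1⟩, (h x hx.1).2, (h' x hx.2).2⟩

theorem inv_top : Inv σ ⊤ := fun _ _ => ⟨trivial, trivial⟩

theorem nd_top : ND σ ⊤ := fun x _ h => σ.hnd x fun y => h y trivial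

/-- Every linear form on a non-degenerate subspace is a pairing. -/
theorem ND.exists_eq {P : Submodule F V} (hP : ND σ P) (x : V) :
    ∃ p ∈ P, ∀ y ∈ P, σ.B p y = σ.B x y := by
  let φ : P →ₗ[F] Module.Dual F P := σ.B.compl₁₂ P.subtype P.subtype
  have hinj : Function.Injective φ := (injective_iff_map_eq_zero φ).2 fun p hp => Subtype.ext <|
    hP p p.2 fun y hy => LinearMap.congr_fun hp ⟨y, hy⟩
  obtain ⟨p, hp⟩ := (LinearMap.injective_iff_surjective_of_finrank_eq_finrank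
    Subspace.dual_finrank_eq.symm).1 hinj ((σ.B x).comp P.subtype)
  exact ⟨p, p.2, fun y hy => LinearMap.congr_fun hp ⟨y, hy⟩⟩

/-- Splitting off a non-degenerate stable subspace. -/
theorem split {W P : Submodule F V} (hW : Inv σ W) (hWnd : ND σ W) (hle : P ≤ W) (hP : Inv σ P) (hPnd : ND σ P) :
    Inv σ (W ⊓ perp σ P) ∧ ND σ (W ⊓ perp σ P) ∧ W = P ⊔ (W ⊓ perp σ P) ∧
      (∀ x ∈ P, ∀ y ∈ W ⊓ perp σ P, σ.B x y = 0) ∧
      Module.finrank F W = Module.finrank F P + Module.finrank F ↥(W ⊓ perp σ P) := by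
  have ho : ∀ x ∈ P, ∀ y ∈ W ⊓ perp σ P, σ.B x y = 0 := fun x hx y hy => by rw [B_comm, hy.2 x hx]
  have hsup : W = P ⊔ (W ⊓ perp σ P) := by
    refine le_antisymm (fun x hx => ?_) (sup_le hle inf_le_left)
    obtain ⟨p, hp, hpe⟩ := hPnd.exists_eq x
    refine Submodule.mem_sup.2 ⟨p, hp, x - p, ⟨W.sub_mem hx (hle hp), fun y hy => ?_⟩, add_sub_cancel p x⟩
    rw [map_sub, LinearMap.sub_apply, hpe y hy, sub_self]
  refine ⟨inv_inf hW (inv_perp hP), fun x hx h => hWnd x hx.1 fun y hy => ?_, hsup, ho, ?_⟩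
  · obtain ⟨a, ha, c, hc, rfl⟩ := Submodule.mem_sup.1 (hsup ▸ hy : y ∈ P ⊔ (W ⊓ perp σ P))
    rw [map_add, h c hc, hx.2 a ha, add_zero]
  · have e := Submodule.finrank_sup_add_finrank_inf_eq P (W ⊓ perp σ P)
    have hbot : P ⊓ (W ⊓ perp σ P) = ⊥ :=
      (Submodule.eq_bot_iff _).2 fun x hx => hPnd x hx.1 fun y hy => hx.2.2 y hy
    rw [hbot, finrank_bot, add_zero, ← hsup] at e
    exact e

/-- Enough room for one piece. -/
theorem Real.eq_of_le (hd : d ≤ 1) {K : Kind} {P Q : Submodule F V} (h : Real σ α K P) (hle : P ≤ Q)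
    (hQ : Module.finrank F Q ≤ K.size) : Real σ α K Q := by
  have : P = Q := Submodule.eq_of_le_of_finrank_le hle (by rw [(h.props hd).2.2.1]; exact hQ)
  rwa [← this]

theorem gspan_pair_le {W : Submodule F V} (hW : Inv σ W) {v w : V} (hv : v ∈ W) (hw : w ∈ W) :
    gspan σ v ⊔ gspan σ w ≤ W := sup_le (gspan_le σ hW hv) (gspan_le σ hW hw)

/-- A non-zero stable non-degenerate subspace contains a piece. -/
theorem exists_piece (hd : d ≤ 1) (hα : ∀ x : F, x ^ 2 + x ≠ α) {W : Submodule F V} (hW : Inv σ W)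
    (hWnd : ND σ W) (hne : W ≠ ⊥) : ∃ K P, P ≤ W ∧ Real σ α K P := by
  classical
  obtain ⟨N₀, hN₀⟩ := σ.hnil
  have hex : ∃ N, ∀ x ∈ W, (σ.S ^ N) x = 0 := ⟨N₀, fun x _ => by rw [hN₀]; rfl⟩
  obtain ⟨N, hN⟩ : ∃ N, Nat.find hex = N := ⟨_, rfl⟩
  have hz : ∀ x ∈ W, (σ.S ^ N) x = 0 := hN ▸ Nat.find_spec hex
  have hpos : 1 ≤ N := Nat.one_le_iff_ne_zero.2 fun h0 => hne <| (Submodule.eq_bot_iff _).2 fun x hx => by
    simpa [h0] using hz x hx
  obtain ⟨x₀, hx₀, hx₀ne⟩ : ∃ x ∈ W, (σ.S ^ (N - 1)) x ≠ 0 := by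
    by_contra hcon
    push Not at hcon
    exact Nat.find_min hex (by omega : N - 1 < Nat.find hex) hcon
  have hpair : ∀ f : V → V, (∀ x ∈ W, f x ∈ W) → (∃ x ∈ W, f x ≠ 0) →
      ∃ v ∈ W, ∃ w ∈ W, σ.B (f v) w ≠ 0 := by
    rintro f hf ⟨x, hx, hfx⟩
    by_contra hcon
    push Not at hcon
    exact hfx (hWnd _ (hf x hx) fun y hy => hcon x hx y hy)
  by_cases hT : ∀ x ∈ W, σ.T ((σ.S ^ (N - 1)) x) = 0
  · obtain ⟨v, hv, w, hw, hp⟩ := hpair _ (fun x hx => Inv.Spow_mem σ hW hx (N - 1)) ⟨x₀, hx₀, hx₀ne⟩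
    obtain ⟨v', hv', w', hw', b, hb, -⟩ := exists_isWo hα hW hv hw (hT v hv) (hT w hw) hp
    exact ⟨.Wo (N - 1) b, _, gspan_pair_le hW hv' hw', v', w', hb, rfl⟩
  push Not at hT
  by_cases hq : ∃ v ∈ W, σ.q N v ≠ 0
  · obtain ⟨v, hv, hqv⟩ := hq
    obtain ⟨v', hv', b, hb⟩ := exists_isV hα hW hpos (hd.trans hpos) hv (hz v hv) hqv
    exact ⟨.V N b, _, gspan_le σ hW hv', v', hb, rfl⟩
  push Not at hq
  obtain ⟨v, hv, w, hw, hp⟩ := hpair _ (fun x hx => Inv.TSpow_mem hW hx (N - 1)) hT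
  obtain ⟨v', hv', w', hw', hb⟩ := exists_isWe hW hpos (hd.trans hpos) hv hw (hz v hv) (hz w hw) (hq v hv)
    (hq w hw) hp
  exact ⟨.We N, _, gspan_pair_le hW hv' hw', v', w', hb, rfl⟩

variable (σ α) in
/-- `W` is an orthogonal sum of pieces of the kinds in the list. -/
def Dec : List Kind → Submodule F V → Prop
  | [], W => W = ⊥
  | K :: L, W => ∃ P R, Real σ α K P ∧ (∀ x ∈ P, ∀ y ∈ R, σ.B x y = 0) ∧ W = P ⊔ R ∧ Dec L R

theorem Dec.props (hd : d ≤ 1) : ∀ {L : List Kind} {W : Submodule F V}, Dec σ α L W →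
    Inv σ W ∧ ND σ W ∧ Module.finrank F W = (L.map Kind.size).sum := by
  intro L
  induction L with
  | nil =>
    rintro W rfl
    exact ⟨fun x hx => by simp [(Submodule.mem_bot F).1 hx], fun x hx _ => (Submodule.mem_bot F).1 hx,
      by simp⟩
  | cons K L ih =>
    rintro W ⟨P, R, hP, ho, rfl, hR⟩
    obtain ⟨hPi, hPnd, hPf, -⟩ := hP.props hd
    obtain ⟨hRi, hRnd, hRf⟩ := ih hR
    refine ⟨inv_sup σ hPi hRi, fun x hx h => ?_, ?_⟩
    · obtain ⟨a, ha, c, hc, rfl⟩ := Submodule.mem_sup.1 hx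
      have h1 : a = 0 := hPnd a ha fun y hy => by
        have := h y (Submodule.mem_sup_left hy)
        rwa [map_add, LinearMap.add_apply, B_comm σ c, ho y hy c hc, add_zero] at this
      have h2 : c = 0 := hRnd c hc fun y hy => by
        have := h y (Submodule.mem_sup_right hy)
        rwa [map_add, LinearMap.add_apply, ho a ha y hy, zero_add] at this
      rw [h1, h2, add_zero]
    · have e := Submodule.finrank_sup_add_finrank_inf_eq P R
      have hbot : P ⊓ R = ⊥ :=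
        (Submodule.eq_bot_iff _).2 fun x hx => hPnd x hx.1 fun y hy => by rw [B_comm, ho y hy x hx.2]
      rw [hbot, finrank_bot, add_zero, hPf, hRf] at e
      simpa using e

theorem exists_dec (hd : d ≤ 1) (hα : ∀ x : F, x ^ 2 + x ≠ α) :
    ∀ (n : ℕ) (W : Submodule F V), Module.finrank F W = n → Inv σ W → ND σ W → ∃ L, Dec σ α L W := by
  intro n
  induction n using Nat.strong_induction_on with
  | _ n ih =>
    intro W hn hW hWnd
    by_cases hne : W = ⊥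
    · exact ⟨[], hne⟩
    obtain ⟨K, P, hle, hP⟩ := exists_piece hd hα hW hWnd hne
    obtain ⟨hPi, hPnd, hPf, hpos⟩ := hP.props hd
    obtain ⟨hRi, hRnd, hsup, ho, hf⟩ := split hW hWnd hle hPi hPnd
    obtain ⟨L, hL⟩ := ih _ (by omega) _ rfl hRi hRnd
    exact ⟨K :: L, P, _, hP, ho, hsup, hL⟩

theorem Dec.cons_swap {K K' : Kind} {L : List Kind} {W : Submodule F V} (h : Dec σ α (K :: K' :: L) W) :
    Dec σ α (K' :: K :: L) W := by
  obtain ⟨P, R, hP, ho, rfl, P', R', hP', ho', rfl, hR'⟩ := h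
  refine ⟨P', P ⊔ R', hP', fun x hx y hy => ?_, sup_left_comm _ _ _, P, R', hP,
    fun x hx y hy => ho x hx y (Submodule.mem_sup_right hy), rfl, hR'⟩
  obtain ⟨a, ha, c, hc, rfl⟩ := Submodule.mem_sup.1 hy
  rw [map_add, ho' x hx c hc, B_comm σ x a, ho a ha x (Submodule.mem_sup_left hx), add_zero]

theorem Dec.perm {L L' : List Kind} (hp : L.Perm L') :
    ∀ {W : Submodule F V}, Dec σ α L W → Dec σ α L' W := by
  induction hp with
  | nil => exact fun h => h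
  | cons K _ ih => exact fun ⟨P, R, h1, h2, h3, h4⟩ => ⟨P, R, h1, h2, h3, ih h4⟩
  | swap K K' L => exact fun h => h.cons_swap
  | trans _ _ ih₁ ih₂ => exact fun h => ih₂ (ih₁ h)

theorem Dec.append : ∀ {L : List Kind} {L' : List Kind} {W W' : Submodule F V}, Dec σ α L W →
    Dec σ α L' W' → (∀ x ∈ W, ∀ y ∈ W', σ.B x y = 0) → Dec σ α (L ++ L') (W ⊔ W') := by
  intro L
  induction L with
  | nil =>
    rintro L' W W' rfl h' -
    rwa [List.nil_append, bot_sup_eq]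
  | cons K L ih =>
    rintro L' W W' ⟨P, R, hP, ho, rfl, hR⟩ h' hWW
    refine ⟨P, R ⊔ W', hP, fun x hx y hy => ?_, sup_assoc _ _ _,
      ih hR h' fun x hx => hWW x (Submodule.mem_sup_right hx)⟩
    obtain ⟨a, ha, c, hc, rfl⟩ := Submodule.mem_sup.1 hy
    rw [map_add, ho x hx a ha, hWW x (Submodule.mem_sup_left hx) c hc, add_zero]

theorem Dec.of_append : ∀ {L L' : List Kind} {W : Submodule F V}, Dec σ α (L ++ L') W →
    ∃ W₁ W₂, Dec σ α L W₁ ∧ Dec σ α L' W₂ ∧ (∀ x ∈ W₁, ∀ y ∈ W₂, σ.B x y = 0) ∧ W = W₁ ⊔ W₂ := by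
  intro L
  induction L with
  | nil =>
    intro L' W h
    exact ⟨⊥, W, rfl, h, fun x hx y _ => by simp [(Submodule.mem_bot F).1 hx], (bot_sup_eq _).symm⟩
  | cons K L ih =>
    rintro L' W ⟨P, R, hP, ho, rfl, hR⟩
    obtain ⟨W₁, W₂, h1, h2, ho', rfl⟩ := ih hR
    refine ⟨P ⊔ W₁, W₂, ⟨P, W₁, hP, fun x hx y hy => ho x hx y (Submodule.mem_sup_left hy), rfl, h1⟩, h2,
      fun x hx y hy => ?_, (sup_assoc _ _ _).symm⟩
    obtain ⟨a, ha, c, hc, rfl⟩ := Submodule.mem_sup.1 hx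
    rw [map_add, LinearMap.add_apply, ho a ha y (Submodule.mem_sup_right hy), ho' c hc y hy, add_zero]

/-- A piece together with one that fills its orthogonal. -/
theorem dec_pair (hd : d ≤ 1) {U : Submodule F V} (hU : Inv σ U) (hUnd : ND σ U) {K K' : Kind}
    {P : Submodule F V} (hP : Real σ α K P) (hle : P ≤ U) (hf : Module.finrank F U = K.size + K'.size)
    (hfill : Inv σ (U ⊓ perp σ P) → ND σ (U ⊓ perp σ P) → ∃ P' ≤ U ⊓ perp σ P, Real σ α K' P') :
    Dec σ α [K, K'] U := by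
  obtain ⟨hPi, hPnd, hPf, -⟩ := hP.props hd
  obtain ⟨hRi, hRnd, hsup, ho, hfR⟩ := split hU hUnd hle hPi hPnd
  obtain ⟨P', hle', hP'⟩ := hfill hRi hRnd
  have hQ := hP'.eq_of_le hd hle' (by omega)
  exact ⟨P, _, hP, ho, hsup, _, ⊥, hQ, fun x _ y hy => by simp [(Submodule.mem_bot F).1 hy],
    (sup_bot_eq _).symm, rfl⟩

end Cfsg.Agent.UnipTwo
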