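/-
The relations between sums of pieces and the resulting normal forms.
-/
import Cfsg.Agent.Lib.UnipTwo.Decomp

set_option autoImplicit false
set_option linter.unusedSectionVars false

namespace Cfsg.Agent.UnipTwo

variable {F : Type*} [Field F] [CharP F 2] [Finite F] {V : Type*} [AddCommGroup V] [Module F V]
  [FiniteDimensional F V] {d : ℕ} {σ : Sys F V d} {α : F}

variable (σ) in
/-- The span of the generators of index at least `L`. -/
def tail (L : ℕ) (v : V) : Submodule F V := Submodule.span F ((fun N => gen σ N v) '' {N | L ≤ N})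

theorem gspan_le_tail (v : V) : gspan σ v ≤ Submodule.span F {v} ⊔ tail σ 1 v := by
  refine Submodule.span_le.2 ?_
  rw [gens_eq_range]
  rintro _ ⟨N, rfl⟩
  rcases Nat.eq_zero_or_pos N with rfl | h
  · exact Submodule.mem_sup_left (by simp only [gen_zero]; exact Submodule.mem_span_singleton_self v)
  · exact Submodule.mem_sup_right (Submodule.subset_span ⟨N, h, rfl⟩)

theorem tail_le_tail (L : ℕ) (v : V) : tail σ L v ≤ Submodule.span F {gen σ L v} ⊔ tail σ (L + 1) v := by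
  refine Submodule.span_le.2 ?_
  rintro _ ⟨N, hN, rfl⟩
  rcases eq_or_lt_of_le (show L ≤ N from hN) with rfl | h
  · exact Submodule.mem_sup_left (Submodule.mem_span_singleton_self _)
  · exact Submodule.mem_sup_right (Submodule.subset_span ⟨N, h, rfl⟩)

theorem Spow_gen (a N : ℕ) (v : V) : (σ.S ^ a) (gen σ N v) = gen σ (N + 2 * a) v := by
  obtain ⟨b, rfl | rfl⟩ := parity N
  · rw [gen_two_mul, show 2 * b + 2 * a = 2 * (a + b) by omega, gen_two_mul, Spow_Spow σ]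
  · rw [gen_two_mul_add_one, show 2 * b + 1 + 2 * a = 2 * (a + b) + 1 by omega, gen_two_mul_add_one,
      ← T_Spow σ, Spow_Spow σ]

/-- A quadratic map vanishing on orthogonal generators vanishes on their span. -/
theorem q_zero_span {s : Set V} {i : ℕ} (hi : d ≤ i) (hg : ∀ g ∈ s, σ.q i g = 0)
    (hc : ∀ g ∈ s, ∀ h ∈ s, σ.B ((σ.S ^ i) g) h = 0) {x : V} (hx : x ∈ Submodule.span F s) : σ.q i x = 0 := by
  have hB : ∀ y ∈ Submodule.span F s, ∀ z ∈ Submodule.span F s, σ.B ((σ.S ^ i) y) z = 0 := fun y hy z hz => by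
    induction hy using Submodule.span_induction with
    | mem g hg' =>
      induction hz using Submodule.span_induction with
      | mem h hh => exact hc g hg' h hh
      | zero => rw [map_zero]
      | add a b _ _ ha hb => rw [map_add, ha, hb, add_zero]
      | smul c a _ ha => rw [map_smul, ha, smul_zero]
    | zero => rw [map_zero, map_zero, LinearMap.zero_apply]
    | add a b _ _ ha hb => rw [map_add, map_add, LinearMap.add_apply, ha, hb, add_zero]
    | smul c a _ ha => rw [map_smul, map_smul, LinearMap.smul_apply, ha, smul_zero]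
  induction hx using Submodule.span_induction with
  | mem g hg' => exact hg g hg'
  | zero => exact q_zero σ hi
  | add a b ha hb ia ib => rw [q_add σ hi, ia, ib, hB a ha b hb, add_zero, add_zero]
  | smul c a _ ia => rw [q_smul σ hi, ia, mul_zero]

theorem q_tail {i : ℕ} (hi : d ≤ i) {L : ℕ} {v : V} (hq : ∀ j, i + L ≤ j → σ.q j v = 0) {x : V}
    (hx : x ∈ tail σ L v) : σ.q i x = 0 := by
  refine q_zero_span hi ?_ ?_ hx
  · rintro _ ⟨N, hN, rfl⟩
    have hN : L ≤ N := hN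
    rw [q_gen hi, hq _ (by omega)]
  · rintro _ ⟨N, hN, rfl⟩ _ ⟨M, hM, rfl⟩
    have hN : L ≤ N := hN
    have hM : L ≤ M := hM
    rw [Spow_gen]
    obtain ⟨s, hs | hs⟩ := parity (N + 2 * i + M)
    · exact B_gen_self_even hs v
    · exact (B_gen_self_odd hs v).trans (hq _ (by omega))

theorem apply_eq_zero_of_gspan {v : V} {f : Module.End F V} (hS : Commute f σ.S) (hT : Commute f σ.T)
    (hv : f v = 0) {x : V} (hx : x ∈ gspan σ v) : f x = 0 := by
  refine LinearMap.mem_ker.1 (gspan_le σ (fun y hy => ⟨?_, ?_⟩) (LinearMap.mem_ker.2 hv) hx)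
  · rw [LinearMap.mem_ker, ← Module.End.mul_apply, hT.eq, Module.End.mul_apply, LinearMap.mem_ker.1 hy, map_zero]
  · rw [LinearMap.mem_ker, ← Module.End.mul_apply, hS.eq, Module.End.mul_apply, LinearMap.mem_ker.1 hy, map_zero]

theorem commute_Spow (a : ℕ) : Commute (σ.S ^ a) σ.S ∧ Commute (σ.S ^ a) σ.T :=
  ⟨(Commute.refl _).pow_left a, σ.hST.pow_left a⟩

theorem commute_TSpow (a : ℕ) : Commute (σ.T * σ.S ^ a) σ.S ∧ Commute (σ.T * σ.S ^ a) σ.T :=
  ⟨σ.hST.symm.mul_left (commute_Spow a).1, (Commute.refl _).mul_left (commute_Spow a).2⟩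

theorem Spow_zero_sup {v w : V} {a : ℕ} (hv : (σ.S ^ a) v = 0) (hw : (σ.S ^ a) w = 0) {x : V}
    (hx : x ∈ gspan σ v ⊔ gspan σ w) : (σ.S ^ a) x = 0 := by
  obtain ⟨b, hb, c, hc, rfl⟩ := Submodule.mem_sup.1 hx
  rw [map_add, apply_eq_zero_of_gspan (commute_Spow a).1 (commute_Spow a).2 hv hb,
    apply_eq_zero_of_gspan (commute_Spow a).1 (commute_Spow a).2 hw hc, add_zero]

theorem TSpow_zero_sup {v w : V} {a : ℕ} (hv : σ.T ((σ.S ^ a) v) = 0) (hw : σ.T ((σ.S ^ a) w) = 0) {x : V}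
    (hx : x ∈ gspan σ v ⊔ gspan σ w) : σ.T ((σ.S ^ a) x) = 0 := by
  obtain ⟨b, hb, c, hc, rfl⟩ := Submodule.mem_sup.1 hx
  rw [map_add, map_add]
  have h1 := apply_eq_zero_of_gspan (f := σ.T * σ.S ^ a) (commute_TSpow a).1 (commute_TSpow a).2 hv hb
  have h2 := apply_eq_zero_of_gspan (f := σ.T * σ.S ^ a) (commute_TSpow a).1 (commute_TSpow a).2 hw hc
  rw [Module.End.mul_apply] at h1 h2
  rw [h1, h2, add_zero]

theorem exists_comp {U P : Submodule F V} (hle : P ≤ U) (hP : ND σ P) {x : V} (hx : x ∈ U) :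
    ∃ p ∈ P, x + p ∈ U ⊓ perp σ P ∧ ∀ y ∈ P, σ.B p y = σ.B x y := by
  obtain ⟨p, hp, hpe⟩ := hP.exists_eq x
  refine ⟨p, hp, ⟨U.add_mem hx (hle hp), fun y hy => ?_⟩, hpe⟩
  rw [map_add, LinearMap.add_apply, hpe y hy, CharTwo.add_self_eq_zero]

theorem Dec.pair_inv {K K' : Kind} {U : Submodule F V} (h : Dec σ α [K, K'] U) :
    ∃ P P', Real σ α K P ∧ Real σ α K' P' ∧ (∀ x ∈ P, ∀ y ∈ P', σ.B x y = 0) ∧ U = P ⊔ P' := by
  obtain ⟨P, R, hP, ho, rfl, P', R', hP', -, rfl, hR'⟩ := h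
  obtain rfl : R' = ⊥ := hR'
  exact ⟨P, P', hP, hP', fun x hx y hy => ho x hx y (Submodule.mem_sup_left hy), by rw [sup_bot_eq]⟩

theorem Dec.triple_inv {K K' K'' : Kind} {U : Submodule F V} (h : Dec σ α [K, K', K''] U) :
    ∃ P P' P'', Real σ α K P ∧ Real σ α K' P' ∧ Real σ α K'' P'' ∧ (∀ x ∈ P, ∀ y ∈ P', σ.B x y = 0) ∧
      (∀ x ∈ P, ∀ y ∈ P'', σ.B x y = 0) ∧ (∀ x ∈ P', ∀ y ∈ P'', σ.B x y = 0) ∧ U = P ⊔ (P' ⊔ P'') := by
  obtain ⟨P, R, hP, ho, rfl, hR⟩ := h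
  obtain ⟨P', P'', hP', hP'', ho', rfl⟩ := Dec.pair_inv hR
  exact ⟨P, P', P'', hP, hP', hP'', fun x hx y hy => ho x hx y (Submodule.mem_sup_left hy),
    fun x hx y hy => ho x hx y (Submodule.mem_sup_right hy), ho', rfl⟩

/-! ### The relations -/

theorem rel_VVV (hd : d ≤ 1) (hα : ∀ x : F, x ^ 2 + x ≠ α) {k : ℕ} {a b c : Bool} {U : Submodule F V}
    (h : Dec σ α [.V k a, .V k b, .V k c] U) : ∃ e, Dec σ α [.We k, .V k e] U := by
  obtain ⟨hU, hUnd, hf⟩ := h.props hd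
  obtain ⟨P₁, P₂, P₃, ⟨v₁, h1, rfl⟩, ⟨v₂, h2, rfl⟩, ⟨v₃, h3, rfl⟩, o12, o13, o23, hsup⟩ := h.triple_inv
  have hk := h1.one_le
  have hdk : d ≤ k := hd.trans hk
  have m1 : v₁ ∈ U := hsup ▸ Submodule.mem_sup_left (self_mem_gspan σ v₁)
  have m2 : v₂ ∈ U := hsup ▸ Submodule.mem_sup_right (Submodule.mem_sup_left (self_mem_gspan σ v₂))
  have m3 : v₃ ∈ U := hsup ▸ Submodule.mem_sup_right (Submodule.mem_sup_right (self_mem_gspan σ v₃))
  have hzero : ∀ x ∈ U, (σ.S ^ k) x = 0 := fun x hx => by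
    obtain ⟨u, hu, w, hw, rfl⟩ := Submodule.mem_sup.1 (hsup ▸ hx)
    rw [map_add, apply_eq_zero_of_gspan (commute_Spow k).1 (commute_Spow k).2 h1.hS hu,
      Spow_zero_sup h2.hS h3.hS hw, add_zero]
  have hq : ∀ x y : V, x ∈ U → σ.q k (x + y) = σ.q k x + σ.q k y := fun x y hx => by
    rw [q_add σ hdk, hzero x hx, map_zero, LinearMap.zero_apply, add_zero]
  have hx : v₁ + v₂ ∈ U := U.add_mem m1 m2
  have hy : v₁ + v₃ ∈ U := U.add_mem m1 m3
  have e21 : σ.B (σ.T ((σ.S ^ (k - 1)) v₂)) v₁ = 0 := by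
    rw [B_comm σ]; exact o12 _ (self_mem_gspan σ v₁) _ (TSpow_mem_gspan σ _ v₂)
  have e13 : σ.B (σ.T ((σ.S ^ (k - 1)) v₁)) v₃ = 0 :=
    o13 _ (TSpow_mem_gspan σ _ v₁) _ (self_mem_gspan σ v₃)
  have e23 : σ.B (σ.T ((σ.S ^ (k - 1)) v₂)) v₃ = 0 :=
    o23 _ (TSpow_mem_gspan σ _ v₂) _ (self_mem_gspan σ v₃)
  have e11 : σ.B (σ.T ((σ.S ^ (k - 1)) v₁)) v₁ = 1 := by
    rw [← q_succ σ, show k - 1 + 1 = k by omega, h1.top]
  obtain ⟨v', hv', w', hw', hb⟩ := exists_isWe hU hk hdk hx hy (hzero _ hx) (hzero _ hy)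
    (by rw [hq _ _ m1, h1.top, h2.top, CharTwo.add_self_eq_zero])
    (by rw [hq _ _ m1, h1.top, h3.top, CharTwo.add_self_eq_zero])
    (by simp only [map_add, LinearMap.add_apply, e11, e13, e21, e23, add_zero]; exact one_ne_zero)
  have hreal : Real σ α (.We k) (gspan σ v' ⊔ gspan σ w') := ⟨v', w', hb, rfl⟩
  have hle := gspan_pair_le hU hv' hw'
  obtain ⟨p, hp, hr, -⟩ := exists_comp hle (hreal.props hd).2.1 m1
  have hqp : σ.q k p = 0 := by
    refine q_zero_span hdk (s := gens σ v' ∪ gens σ w') ?_ ?_ (by rw [Submodule.span_union]; exact hp)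
    · rw [gens_eq_range, gens_eq_range]
      rintro _ (⟨N, rfl⟩ | ⟨N, rfl⟩) <;> rw [q_gen hdk]
      · exact (hb.qv_eq_zero (by omega)).1
      · exact (hb.qv_eq_zero (by omega)).2
    · intro g hg g' _
      have hgU : g ∈ U := by
        refine hle ?_
        rcases hg with hg | hg
        · exact Submodule.mem_sup_left (Submodule.subset_span hg)
        · exact Submodule.mem_sup_right (Submodule.subset_span hg)
      rw [hzero g hgU, map_zero, LinearMap.zero_apply]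
  obtain ⟨u, hu, e, he⟩ := exists_isV hα (inv_inf hU (inv_perp (hreal.props hd).1)) hk hdk hr
    (hzero _ hr.1) (by rw [hq _ _ m1, h1.top, hqp, add_zero]; exact one_ne_zero)
  refine ⟨e, dec_pair hd hU hUnd hreal hle ?_ fun hi _ => ⟨_, gspan_le σ hi hu, u, he, rfl⟩⟩
  rw [hf]; simp [Kind.size]; omega

theorem rel_VV (hd : d ≤ 1) (hα : ∀ x : F, x ^ 2 + x ≠ α) {k : ℕ} {U : Submodule F V}
    (h : Dec σ α [.V k true, .V k true] U) : ∃ e, Dec σ α [.V k false, .V k e] U := by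
  obtain ⟨hU, hUnd, hf⟩ := h.props hd
  obtain ⟨P₁, P₂, ⟨v, h1, rfl⟩, ⟨w, h2, rfl⟩, ho, hsup⟩ := h.pair_inv
  have hk := h1.one_le
  have hbit := h1.bit rfl
  have hdk : d ≤ k := hd.trans hk
  have mv : v ∈ U := hsup ▸ Submodule.mem_sup_left (self_mem_gspan σ v)
  have mw : w ∈ U := hsup ▸ Submodule.mem_sup_right (self_mem_gspan σ w)
  have hzero : ∀ x ∈ U, (σ.S ^ k) x = 0 := fun x hx => Spow_zero_sup h1.hS h2.hS (hsup ▸ hx)
  have hq : ∀ x y : V, x ∈ U → σ.q k (x + y) = σ.q k x + σ.q k y := fun x y hx => by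
    rw [q_add σ hdk, hzero x hx, map_zero, LinearMap.zero_apply, add_zero]
  obtain ⟨c, hc⟩ := exists_sqrt α
  set x := v + c • σ.T ((σ.S ^ 0) w) with hx
  have mx : x ∈ U := U.add_mem mv (U.smul_mem _ (Inv.TSpow_mem hU mw 0))
  have hqk : σ.q k x = 1 := by
    rw [hx, hq _ _ mv, h1.top, q_smul σ hdk, q_TSpow σ hdk, q_eq_zero σ (by omega) (T_eq_zero_of_S σ h2.hS),
      mul_zero, add_zero]
  have hqj : σ.q (k - 1) x = 0 := by
    rw [hx, q_addT (by omega), show k - 1 + 2 * 0 + 1 = k by omega, h2.top,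
      ho _ (TSpow_mem_gspan σ _ v) _ (self_mem_gspan σ w), ho _ (Spow_mem_gspan σ _ v) _ (self_mem_gspan σ w),
      h1.low (k - 1) (by omega) (by omega), if_pos ⟨rfl, by omega⟩, hc]
    linear_combination α * CharTwo.two_eq_zero (R := F)
  obtain ⟨v', hv', hb, hT⟩ := exists_isV_zero α hU hk mx (hzero x mx) hqk fun _ => hqj
  have hreal : Real σ α (.V k false) (gspan σ v') := ⟨v', hb, rfl⟩
  have hle := gspan_le σ hU hv'
  obtain ⟨p, hp, hr, hpe⟩ := exists_comp hle (hreal.props hd).2.1 mw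
  have hBw : σ.B p (σ.T ((σ.S ^ (k - 1)) v')) = 0 := by
    have e1 : σ.B (σ.T ((σ.S ^ (k - 1)) v)) w = 0 := ho _ (TSpow_mem_gspan σ _ v) _ (self_mem_gspan σ w)
    rw [hpe _ (TSpow_mem_gspan σ _ v'), hT, B_comm σ, hx, pT_addT, e1, hzero w mw |> Spow_eq_zero_mono σ
      (show k ≤ k - 1 + 0 + 1 by omega)]
    simp
  have hqp : σ.q k p = 0 := by
    obtain ⟨y, hy, m, hm, rfl⟩ := Submodule.mem_sup.1 (gspan_le_tail v' hp)
    obtain ⟨e, rfl⟩ := Submodule.mem_span_singleton.1 hy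
    have hqm : σ.q k m = 0 := q_tail hdk (fun j hj => q_eq_zero σ (by omega) (T_eq_zero_of_S σ hb.hS)) hm
    have hBm : σ.B m (σ.T ((σ.S ^ (k - 1)) v')) = 0 := by
      refine LinearMap.mem_ker.1 (Submodule.span_le.2 ?_ hm : m ∈ LinearMap.ker (σ.B.flip _))
      rintro _ ⟨N, hN, rfl⟩
      have hN : 1 ≤ N := hN
      rw [SetLike.mem_coe, LinearMap.mem_ker]
      show σ.B (gen σ N v') (σ.T ((σ.S ^ (k - 1)) v')) = 0
      rw [← gen_two_mul_add_one]
      exact (hb.tri hd).hi 0 0 N (2 * (k - 1) + 1) (by omega)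
    have he : σ.B v' (σ.T ((σ.S ^ (k - 1)) v')) = 1 := by
      rw [B_comm σ, ← q_succ σ, show k - 1 + 1 = k by omega, hb.top]
    rw [map_add, map_smul, LinearMap.add_apply, LinearMap.smul_apply, hBm, he, smul_eq_mul, mul_one,
      add_zero] at hBw
    rw [hBw, zero_smul, zero_add, hqm]
  obtain ⟨u, hu, e, he⟩ := exists_isV hα (inv_inf hU (inv_perp (hreal.props hd).1)) hk hdk hr
    (hzero _ hr.1) (by rw [hq _ _ mw, h2.top, hqp, add_zero]; exact one_ne_zero)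
  refine ⟨e, dec_pair hd hU hUnd hreal hle ?_ fun hi _ => ⟨_, gspan_le σ hi hu, u, he, rfl⟩⟩
  rw [hf]; simp [Kind.size]

theorem rel_WW (hd : d ≤ 1) (hα : ∀ x : F, x ^ 2 + x ≠ α) {k : ℕ} {U : Submodule F V}
    (h : Dec σ α [.Wo k true, .Wo k true] U) : ∃ e, Dec σ α [.Wo k false, .Wo k e] U := by
  obtain ⟨hU, hUnd, hf⟩ := h.props hd
  obtain ⟨P₁, P₂, ⟨v, w, h1, rfl⟩, ⟨v₂, w₂, h2, rfl⟩, ho, hsup⟩ := h.pair_inv
  have hdk := h1.bit rfl
  have iv : v ∈ gspan σ v ⊔ gspan σ w := Submodule.mem_sup_left (self_mem_gspan σ v)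
  have iw : w ∈ gspan σ v ⊔ gspan σ w := Submodule.mem_sup_right (self_mem_gspan σ w)
  have iv₂ : v₂ ∈ gspan σ v₂ ⊔ gspan σ w₂ := Submodule.mem_sup_left (self_mem_gspan σ v₂)
  have iw₂ : w₂ ∈ gspan σ v₂ ⊔ gspan σ w₂ := Submodule.mem_sup_right (self_mem_gspan σ w₂)
  have i1 : Inv σ (gspan σ v ⊔ gspan σ w) := inv_sup σ (inv_gspan σ v) (inv_gspan σ w)
  have mv : v ∈ U := hsup ▸ Submodule.mem_sup_left iv
  have mw : w ∈ U := hsup ▸ Submodule.mem_sup_left iw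
  have mv₂ : v₂ ∈ U := hsup ▸ Submodule.mem_sup_right iv₂
  have hTS : ∀ x ∈ U, σ.T ((σ.S ^ k) x) = 0 := fun x hx => by
    obtain ⟨u, hu, u', hu', rfl⟩ := Submodule.mem_sup.1 (hsup ▸ hx)
    rw [map_add, map_add, TSpow_zero_sup h1.hv h1.hw hu, TSpow_zero_sup h2.hv h2.hw hu', add_zero]
  have ho' : ∀ x ∈ gspan σ v ⊔ gspan σ w, ∀ y ∈ gspan σ v₂ ⊔ gspan σ w₂, σ.B ((σ.S ^ k) x) y = 0 :=
    fun x hx y hy => ho _ (Inv.Spow_mem σ i1 hx k) y hy
  have c1 : σ.B ((σ.S ^ k) v) w = 1 := by rw [h1.pS, if_pos rfl]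
  have c2 : σ.B ((σ.S ^ k) v₂) w₂ = 1 := by rw [h2.pS, if_pos rfl]
  have hxw : σ.B ((σ.S ^ k) (v + v₂)) w = 1 := by
    rw [map_add, map_add, LinearMap.add_apply, c1, B_swapS, ho' w iw v₂ iv₂, add_zero]
  obtain ⟨v', hv', w', hw', e', hb, he'⟩ := exists_isWo hα hU (U.add_mem mv mv₂) mw
    (hTS _ (U.add_mem mv mv₂)) (hTS _ mw) (by rw [hxw]; exact one_ne_zero)
  obtain rfl : e' = false := he' hdk (by
    rw [q_add σ hdk, h1.qv k hdk le_rfl, h2.qv k hdk le_rfl, ho' v iv v₂ iv₂]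
    simp [CharTwo.add_self_eq_zero])
  have hreal : Real σ α (.Wo k false) (gspan σ v' ⊔ gspan σ w') := ⟨v', w', hb, rfl⟩
  have hle := gspan_pair_le hU hv' hw'
  let φ : (Fin 3 → F) →ₗ[F] V := Fintype.linearCombination F ![v, w, v₂]
  let f : (Fin 3 → F) →ₗ[F] F × F :=
    ((σ.B.flip v').comp ((σ.S ^ k).comp φ)).prod ((σ.B.flip w').comp ((σ.S ^ k).comp φ))
  obtain ⟨c, hc, hcne⟩ := Submodule.exists_mem_ne_zero_of_ne_bot
    (LinearMap.ker_ne_bot_of_finrank_lt (f := f) (by simp))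
  rw [LinearMap.mem_ker] at hc
  obtain ⟨hcv, hcw⟩ := Prod.mk.injEq .. |>.mp hc
  simp only [LinearMap.coe_comp, Function.comp_apply, LinearMap.flip_apply] at hcv hcw
  have hφ : φ c = c 0 • v + c 1 • w + c 2 • v₂ := by
    simp [φ, Fintype.linearCombination_apply, Fin.sum_univ_three]
  have mz : φ c ∈ U := hφ ▸ U.add_mem (U.add_mem (U.smul_mem _ mv) (U.smul_mem _ mw)) (U.smul_mem _ mv₂)
  have hz : (σ.S ^ k) (φ c) ≠ 0 := fun hz0 => hcne <| by
    have e0 : σ.B ((σ.S ^ k) (φ c)) w = c 0 := by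
      simp only [hφ, map_add, map_smul, LinearMap.add_apply, LinearMap.smul_apply, smul_eq_mul, c1,
        B_Spow_self σ, B_swapS k w v₂, ho' w iw v₂ iv₂]
      ring
    have e1 : σ.B ((σ.S ^ k) (φ c)) v = c 1 := by
      simp only [hφ, map_add, map_smul, LinearMap.add_apply, LinearMap.smul_apply, smul_eq_mul, B_swapS k v w, c1,
        B_Spow_self σ, B_swapS k v v₂, ho' v iv v₂ iv₂]
      ring
    have e2 : σ.B ((σ.S ^ k) (φ c)) w₂ = c 2 := by
      simp only [hφ, map_add, map_smul, LinearMap.add_apply, LinearMap.smul_apply, smul_eq_mul, c2,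
        ho' v iv w₂ iw₂, ho' w iw w₂ iw₂]
      ring
    rw [hz0, map_zero, LinearMap.zero_apply] at e0 e1 e2
    funext i
    fin_cases i
    exacts [e0.symm, e1.symm, e2.symm]
  obtain ⟨p, hp, hr, hpe⟩ := exists_comp hle (hreal.props hd).2.1 mz
  have hSp : (σ.S ^ k) p = 0 := by
    refine (hreal.props hd).2.1 _ (Inv.Spow_mem σ (hreal.props hd).1 hp k) fun y hy => ?_
    rw [B_Spow, hpe _ (Inv.Spow_mem σ (hreal.props hd).1 hy k)]
    have : gspan σ v' ⊔ gspan σ w' ≤ LinearMap.ker ((σ.B (φ c)).comp (σ.S ^ k)) := by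
      refine sup_le (Submodule.span_le.2 ?_) (Submodule.span_le.2 ?_) <;> rw [gens_eq_range] <;>
        rintro _ ⟨N, rfl⟩ <;> rw [SetLike.mem_coe, LinearMap.mem_ker, LinearMap.comp_apply]
      · rcases Nat.eq_zero_or_pos N with rfl | h'
        · simp only [gen_zero]; rw [← B_Spow]; exact hcv
        · rw [Spow_gen, gen_eq_zero_odd hb.hv (by omega), map_zero]
      · rcases Nat.eq_zero_or_pos N with rfl | h'
        · simp only [gen_zero]; rw [← B_Spow]; exact hcw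
        · rw [Spow_gen, gen_eq_zero_odd hb.hw (by omega), map_zero]
    exact LinearMap.mem_ker.1 (this hy)
  obtain ⟨hQi, hQnd, -, -, -⟩ := split hU hUnd hle (hreal.props hd).1 (hreal.props hd).2.1
  obtain ⟨y, hy, hy0⟩ : ∃ y ∈ U ⊓ perp σ (gspan σ v' ⊔ gspan σ w'), σ.B ((σ.S ^ k) (φ c + p)) y ≠ 0 := by
    by_contra hcon
    push Not at hcon
    apply hz
    have := hQnd _ (Inv.Spow_mem σ hQi hr k) hcon
    rwa [map_add, hSp, add_zero] at this
  obtain ⟨u, hu, u', hu', e, he, -⟩ := exists_isWo hα hQi hr hy (hTS _ hr.1) (hTS _ hy.1) hy0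
  refine ⟨e, dec_pair hd hU hUnd hreal hle ?_ fun hi _ => ⟨_, gspan_pair_le hi hu hu', u, u', he, rfl⟩⟩
  rw [hf]; simp [Kind.size]

theorem rel_WV (hd : d ≤ 1) (hα : ∀ x : F, x ^ 2 + x ≠ α) {k : ℕ} {c : Bool} {U : Submodule F V}
    (h : Dec σ α [.Wo k true, .V k c] U) : ∃ e, Dec σ α [.Wo k false, .V k e] U := by
  obtain ⟨hU, hUnd, hf⟩ := h.props hd
  obtain ⟨P₁, P₂, ⟨v, w, h1, rfl⟩, ⟨z, h2, rfl⟩, ho, hsup⟩ := h.pair_inv
  have hdk := h1.bit rfl
  have iv : v ∈ gspan σ v ⊔ gspan σ w := Submodule.mem_sup_left (self_mem_gspan σ v)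
  have iw : w ∈ gspan σ v ⊔ gspan σ w := Submodule.mem_sup_right (self_mem_gspan σ w)
  have mv : v ∈ U := hsup ▸ Submodule.mem_sup_left iv
  have mw : w ∈ U := hsup ▸ Submodule.mem_sup_left iw
  have mz : z ∈ U := hsup ▸ Submodule.mem_sup_right (self_mem_gspan σ z)
  obtain ⟨v', hv', w', hw', e', hb, he'⟩ := exists_isWo hα hU (k := k) (U.add_mem mv mz) mw
    (by rw [map_add, map_add, h1.hv, h2.hS, map_zero, add_zero]) h1.hw
    (by rw [map_add, h2.hS, add_zero, h1.pS, if_pos rfl]; exact one_ne_zero)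
  obtain rfl : e' = false := he' hdk (by
    rw [q_add σ hdk, h1.qv k hdk le_rfl, h2.top, B_Spow σ, h2.hS, map_zero]
    simp [CharTwo.add_self_eq_zero])
  have hreal : Real σ α (.Wo k false) (gspan σ v' ⊔ gspan σ w') := ⟨v', w', hb, rfl⟩
  have hle := gspan_pair_le hU hv' hw'
  obtain ⟨hPi, hPnd, -, -⟩ := hreal.props hd
  obtain ⟨p, hp, hr, hpe⟩ := exists_comp hle hPnd mz
  have hSp : (σ.S ^ k) p = 0 := by
    refine hPnd _ (Inv.Spow_mem σ hPi hp k) fun y hy => ?_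
    rw [B_Spow, hpe _ (Inv.Spow_mem σ hPi hy k), ← B_Spow, h2.hS, map_zero, LinearMap.zero_apply]
  have hqp : σ.q k p = 0 := by
    obtain ⟨p₁, hp₁, p₂, hp₂, rfl⟩ := Submodule.mem_sup.1 hp
    obtain ⟨y, hy, m, hm, rfl⟩ := Submodule.mem_sup.1 (gspan_le_tail v' hp₁)
    obtain ⟨y', hy', m', hm', rfl⟩ := Submodule.mem_sup.1 (gspan_le_tail w' hp₂)
    obtain ⟨a, rfl⟩ := Submodule.mem_span_singleton.1 hy
    obtain ⟨a', rfl⟩ := Submodule.mem_span_singleton.1 hy'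
    have hkill : ∀ u : V, σ.T ((σ.S ^ k) u) = 0 → tail σ 1 u ≤ LinearMap.ker (σ.S ^ k) := fun u hu => by
      refine Submodule.span_le.2 ?_
      rintro _ ⟨N, hN, rfl⟩
      have hN : 1 ≤ N := hN
      rw [SetLike.mem_coe, LinearMap.mem_ker, Spow_gen, gen_eq_zero_odd hu (by omega)]
    have hSm : (σ.S ^ k) m = 0 := LinearMap.mem_ker.1 (hkill v' hb.hv hm)
    have hSm' : (σ.S ^ k) m' = 0 := LinearMap.mem_ker.1 (hkill w' hb.hw hm')
    simp only [map_add, map_smul, hSm, hSm', add_zero] at hSp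
    have hc : σ.B ((σ.S ^ k) v') w' = 1 := by rw [hb.pS, if_pos rfl]
    have ea := congrArg (fun u => σ.B u w') hSp
    simp only [map_add, map_smul, LinearMap.add_apply, LinearMap.smul_apply, hc, B_Spow_self σ, smul_eq_mul,
      mul_one, mul_zero, add_zero, map_zero, LinearMap.zero_apply] at ea
    subst ea
    have ea := congrArg (fun u => σ.B u v') hSp
    simp only [map_add, map_smul, LinearMap.add_apply, LinearMap.smul_apply, B_swapS k v' w', hc, B_Spow_self σ,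
      smul_eq_mul, mul_one, zero_smul, zero_add, map_zero, LinearMap.zero_apply] at ea
    subst ea
    rw [zero_smul, zero_smul, zero_add, zero_add, q_add σ hdk, hSm,
      q_tail hdk (fun j hj => q_eq_zero σ (by omega) hb.hv) hm,
      q_tail hdk (fun j hj => q_eq_zero σ (by omega) hb.hw) hm', map_zero, LinearMap.zero_apply, add_zero, add_zero]
  obtain ⟨u, hu, e, he⟩ := exists_isV hα (inv_inf hU (inv_perp hPi)) h2.one_le hdk hr
    (by rw [map_add, h2.hS, hSp, add_zero])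
    (by rw [q_add σ hdk, h2.top, hqp, h2.hS, map_zero, LinearMap.zero_apply, add_zero, add_zero]; exact one_ne_zero)
  refine ⟨e, dec_pair hd hU hUnd hreal hle ?_ fun hi _ => ⟨_, gspan_le σ hi hu, u, he, rfl⟩⟩
  rw [hf]; simp [Kind.size]

theorem rel_WV_succ (hd : d ≤ 1) (hα : ∀ x : F, x ^ 2 + x ≠ α) {k : ℕ} {c : Bool} {U : Submodule F V}
    (h : Dec σ α [.Wo k true, .V (k + 1) c] U) : ∃ e, Dec σ α [.Wo k false, .V (k + 1) e] U := by
  obtain ⟨hU, hUnd, hf⟩ := h.props hd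
  obtain ⟨P₁, P₂, ⟨v, w, h1, rfl⟩, ⟨z, h2, rfl⟩, ho, hsup⟩ := h.pair_inv
  have hdk := h1.bit rfl
  have iv : v ∈ gspan σ v ⊔ gspan σ w := Submodule.mem_sup_left (self_mem_gspan σ v)
  have iw : w ∈ gspan σ v ⊔ gspan σ w := Submodule.mem_sup_right (self_mem_gspan σ w)
  have mv : v ∈ U := hsup ▸ Submodule.mem_sup_left iv
  have mw : w ∈ U := hsup ▸ Submodule.mem_sup_left iw
  have mz : z ∈ U := hsup ▸ Submodule.mem_sup_right (self_mem_gspan σ z)
  have mTz : σ.T z ∈ gspan σ z := (inv_gspan σ z _ (self_mem_gspan σ z)).1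
  have i1 : Inv σ (gspan σ v ⊔ gspan σ w) := inv_sup σ (inv_gspan σ v) (inv_gspan σ w)
  have hzero : ∀ x ∈ U, (σ.S ^ (k + 1)) x = 0 := fun x hx => by
    obtain ⟨u, hu, u', hu', rfl⟩ := Submodule.mem_sup.1 (hsup ▸ hx)
    rw [map_add, Spow_zero_sup (Spow_succ_eq_zero h1.hv) (Spow_succ_eq_zero h1.hw) hu,
      apply_eq_zero_of_gspan (commute_Spow (k + 1)).1 (commute_Spow (k + 1)).2 h2.hS hu', add_zero]
  obtain ⟨v', hv', w', hw', e', hb, he'⟩ := exists_isWo hα hU (k := k) (U.add_mem mv (hU z mz).1) mw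
    (by rw [map_add, map_add, h1.hv, ← T_Spow σ, T_T σ, ← T_S σ, S_Spow σ, h2.hS, map_zero, add_zero, add_zero])
    h1.hw
    (by rw [map_add, map_add, LinearMap.add_apply, h1.pS, if_pos rfl, B_swapS k w (σ.T z),
      ho _ (Inv.Spow_mem σ i1 iw k) _ mTz, add_zero]; exact one_ne_zero)
  obtain rfl : e' = false := he' hdk (by
    rw [q_add σ hdk, h1.qv k hdk le_rfl, q_T σ hdk, h2.top, ho _ (Inv.Spow_mem σ i1 iv k) _ mTz]
    simp [CharTwo.add_self_eq_zero])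
  have hreal : Real σ α (.Wo k false) (gspan σ v' ⊔ gspan σ w') := ⟨v', w', hb, rfl⟩
  have hle := gspan_pair_le hU hv' hw'
  obtain ⟨p, hp, hr, -⟩ := exists_comp hle (hreal.props hd).2.1 mz
  have hdk1 : d ≤ k + 1 := by omega
  have hqp : σ.q (k + 1) p = 0 := by
    refine q_zero_span hdk1 (s := gens σ v' ∪ gens σ w') ?_ ?_ (by rw [Submodule.span_union]; exact hp)
    · rw [gens_eq_range, gens_eq_range]
      rintro _ (⟨N, rfl⟩ | ⟨N, rfl⟩) <;> rw [q_gen hdk1]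
      · exact q_eq_zero σ (by omega) hb.hv
      · exact q_eq_zero σ (by omega) hb.hw
    · intro g hg g' _
      have hgU : g ∈ U := by
        refine hle ?_
        rcases hg with hg | hg
        · exact Submodule.mem_sup_left (Submodule.subset_span hg)
        · exact Submodule.mem_sup_right (Submodule.subset_span hg)
      rw [hzero g hgU, map_zero, LinearMap.zero_apply]
  obtain ⟨u, hu, e, he⟩ := exists_isV hα (inv_inf hU (inv_perp (hreal.props hd).1)) h2.one_le hdk1 hr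
    (hzero _ hr.1)
    (by rw [q_add σ hdk1, h2.top, hqp, h2.hS, map_zero, LinearMap.zero_apply, add_zero, add_zero]; exact one_ne_zero)
  refine ⟨e, dec_pair hd hU hUnd hreal hle ?_ fun hi _ => ⟨_, gspan_le σ hi hu, u, he, rfl⟩⟩
  rw [hf]; simp [Kind.size]

theorem rel_VV_succ (hd : d ≤ 1) (hα : ∀ x : F, x ^ 2 + x ≠ α) {j : ℕ} {c : Bool} {U : Submodule F V}
    (h : Dec σ α [.V (j + 1) true, .V j c] U) : ∃ e, Dec σ α [.V (j + 1) false, .V j e] U := by
  obtain ⟨hU, hUnd, hf⟩ := h.props hd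
  obtain ⟨P₁, P₂, ⟨v, h1, rfl⟩, ⟨w, h2, rfl⟩, ho, hsup⟩ := h.pair_inv
  have hdj : d ≤ j := by have := h1.bit rfl; omega
  have hj := h2.one_le
  have mv : v ∈ U := hsup ▸ Submodule.mem_sup_left (self_mem_gspan σ v)
  have mw : w ∈ U := hsup ▸ Submodule.mem_sup_right (self_mem_gspan σ w)
  have hSw : (σ.S ^ (j + 1)) w = 0 := Spow_eq_zero_mono σ (by omega) h2.hS
  have hzero : ∀ x ∈ U, (σ.S ^ (j + 1)) x = 0 := fun x hx => Spow_zero_sup h1.hS hSw (hsup ▸ hx)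
  obtain ⟨μ, hμ⟩ := exists_sqrt α
  have mx : v + μ • (σ.S ^ 0) w ∈ U := U.add_mem mv (U.smul_mem _ (Inv.Spow_mem σ hU mw 0))
  have hqk : σ.q (j + 1) (v + μ • (σ.S ^ 0) w) = 1 := by
    rw [q_addS (by omega), h1.top, q_eq_zero σ (by omega : j < j + 1 + 2 * 0) (T_eq_zero_of_S σ h2.hS), add_zero,
      h1.hS, map_zero, LinearMap.zero_apply]
    ring
  have hqj : σ.q j (v + μ • (σ.S ^ 0) w) = 0 := by
    rw [q_addS hdj, h1.low j hdj (by omega), if_pos ⟨rfl, rfl⟩, show j + 2 * 0 = j by omega, h2.top,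
      ho _ (Spow_mem_gspan σ _ v) _ (self_mem_gspan σ w), hμ]
    linear_combination α * CharTwo.two_eq_zero (R := F)
  obtain ⟨v', hv', hb, -⟩ := exists_isV_zero α hU (Nat.le_add_left 1 j) mx (hzero _ mx) hqk
    (fun _ => by simpa using hqj)
  have hreal : Real σ α (.V (j + 1) false) (gspan σ v') := ⟨v', hb, rfl⟩
  have hle := gspan_le σ hU hv'
  obtain ⟨hPi, hPnd, -, -⟩ := hreal.props hd
  obtain ⟨p, hp, hr, hpe⟩ := exists_comp hle hPnd mw
  have hSp : (σ.S ^ j) p = 0 := by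
    refine hPnd _ (Inv.Spow_mem σ hPi hp j) fun y hy => ?_
    rw [B_Spow, hpe _ (Inv.Spow_mem σ hPi hy j), ← B_Spow, h2.hS, map_zero, LinearMap.zero_apply]
  have hqp : σ.q j p = 0 := by
    obtain ⟨y, hy, m, hm, rfl⟩ := Submodule.mem_sup.1 (gspan_le_tail v' hp)
    obtain ⟨y', hy', m', hm', rfl⟩ := Submodule.mem_sup.1 (tail_le_tail 1 v' hm)
    obtain ⟨a, rfl⟩ := Submodule.mem_span_singleton.1 hy
    obtain ⟨a', rfl⟩ := Submodule.mem_span_singleton.1 hy'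
    have hSm : (σ.S ^ j) m' = 0 := by
      refine LinearMap.mem_ker.1 ((Submodule.span_le.2 ?_ : tail σ 2 v' ≤ LinearMap.ker (σ.S ^ j)) hm')
      rintro _ ⟨N, hN, rfl⟩
      have hN : 2 ≤ N := hN
      rw [SetLike.mem_coe, LinearMap.mem_ker, Spow_gen, gen_eq_zero_even hb.hS (by omega)]
    simp only [map_add, map_smul, hSm, add_zero, Spow_gen] at hSp
    rw [← gen_two_mul (σ := σ) j v'] at hSp
    have t := hb.tri hd
    have e00 : σ.B (gen σ (2 * j) v') (gen σ 1 v') = 1 :=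
      (t.htop 0 0 (2 * j) 1 (by omega)).trans (if_pos rfl)
    have e11 : σ.B (gen σ (1 + 2 * j) v') (gen σ 1 v') = 0 :=
      t.hi 0 0 (1 + 2 * j) 1 (by omega)
    have ea := congrArg (fun u => σ.B u (gen σ 1 v')) hSp
    simp only [map_add, map_smul, LinearMap.add_apply, LinearMap.smul_apply, e00, e11, smul_eq_mul, mul_one,
      mul_zero, add_zero, map_zero, LinearMap.zero_apply] at ea
    subst ea
    have e10 : σ.B (gen σ (1 + 2 * j) v') (gen σ 0 v') = 1 :=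
      (t.htop 0 0 (1 + 2 * j) 0 (by omega)).trans (if_pos rfl)
    have ea := congrArg (fun u => σ.B u (gen σ 0 v')) hSp
    simp only [zero_smul, zero_add, map_smul, LinearMap.smul_apply, e10, smul_eq_mul, mul_one, map_zero,
      LinearMap.zero_apply] at ea
    subst ea
    rw [zero_smul, zero_smul, zero_add, zero_add]
    exact q_tail hdj (fun i hi => q_eq_zero σ (by omega) (T_eq_zero_of_S σ hb.hS)) hm'
  obtain ⟨u, hu, e, he⟩ := exists_isV hα (inv_inf hU (inv_perp hPi)) hj hdj hr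
    (by rw [map_add, h2.hS, hSp, add_zero])
    (by rw [q_add σ hdj, h2.top, hqp, h2.hS, map_zero, LinearMap.zero_apply, add_zero, add_zero]; exact one_ne_zero)
  refine ⟨e, dec_pair hd hU hUnd hreal hle ?_ fun hi _ => ⟨_, gspan_le σ hi hu, u, he, rfl⟩⟩
  rw [hf]; simp [Kind.size]

end Cfsg.Agent.UnipTwo
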