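/-
Normal forms of unipotent isometries in characteristic two.
-/
import Cfsg.Agent.Lib.UnipTwo.Relations

set_option autoImplicit false
set_option linter.unusedSectionVars false

namespace Cfsg.Agent.UnipTwo

/-- The admissible kinds. -/
def Kind.Ok (d : ℕ) : Kind → Prop
  | .V k b => 1 ≤ k ∧ (b = true → d + 1 ≤ k)
  | .Wo k b => b = true → d ≤ k
  | .We k => 1 ≤ k

/-- Is it a single block of size `2 k`? -/
def Kind.isV (k : ℕ) : Kind → Bool
  | .V j _ => j == k
  | _ => false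

/-- Is it a single block? -/
def Kind.anyV : Kind → Bool
  | .V _ _ => true
  | _ => false

/-- Is it a marked pair of blocks of odd size? -/
def Kind.woBit : Kind → Bool
  | .Wo _ b => b
  | _ => false

/-- The weight of the marks of the single blocks. -/
def Kind.vBitWeight : Kind → ℕ
  | .V k true => 4 ^ k
  | _ => 0

/-- The mark of a piece. -/
def Kind.bit : Kind → Bool
  | .V _ b => b
  | .Wo _ b => b
  | .We _ => false

/-- The termination measure of the reduction. -/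
def measureOf (L : List Kind) : ℕ ×ₗ (ℕ ×ₗ ℕ) :=
  toLex (L.countP Kind.anyV, toLex (L.countP Kind.woBit, (L.map Kind.vBitWeight).sum))

theorem measureOf_perm {L L' : List Kind} (h : L.Perm L') : measureOf L = measureOf L' := by
  rw [measureOf, measureOf, h.countP_eq, h.countP_eq, (h.map _).sum_eq]

theorem measureOf_lt {A A' : List Kind} (h : measureOf A' < measureOf A) (R : List Kind) :
    measureOf (A' ++ R) < measureOf (A ++ R) := by
  simp only [measureOf, List.countP_append, List.map_append, List.sum_append, Prod.Lex.toLex_lt_toLex,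
    Prod.mk.injEq] at h ⊢
  omega

/-- Normal form. -/
structure NF (L : List Kind) : Prop where
  vv : ∀ k, L.countP (Kind.isV k) ≤ 2
  vbit : ∀ k, L.count (.V k true) ≤ 1
  vadj : ∀ j c, Kind.V (j + 1) true ∈ L → Kind.V j c ∉ L
  wbit : ∀ k, L.count (.Wo k true) ≤ 1
  wadj : ∀ k c, Kind.Wo k true ∈ L → Kind.V k c ∉ L
  wadj' : ∀ k c, Kind.Wo k true ∈ L → Kind.V (k + 1) c ∉ L

theorem exists_perm_of_countP {L : List Kind} {p : Kind → Bool} {n : ℕ} (h : n + 1 ≤ L.countP p) :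
    ∃ K R, p K = true ∧ L.Perm (K :: R) ∧ n ≤ R.countP p := by
  obtain ⟨K, hK, hp⟩ := List.countP_pos_iff.1 (Nat.lt_of_lt_of_le (Nat.succ_pos n) h)
  have e := (List.perm_cons_erase hK).countP_eq p
  rw [List.countP_cons, if_pos hp] at e
  exact ⟨K, L.erase K, hp, List.perm_cons_erase hK, by omega⟩

theorem Kind.eq_V_of_isV {k : ℕ} {K : Kind} (h : K.isV k = true) : ∃ c, K = .V k c := by
  cases K <;> simp_all [Kind.isV]

theorem exists_perm_pair {L : List Kind} {K K' : Kind} (hK : K ∈ L) (hK' : K' ∈ L) (hne : K' ≠ K) :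
    ∃ R, L.Perm (K :: K' :: R) :=
  ⟨(L.erase K).erase K', (List.perm_cons_erase hK).trans
    ((List.perm_cons_erase ((List.mem_erase_of_ne hne).2 hK')).cons K)⟩

theorem exists_perm_double {L : List Kind} {K : Kind} (h : 2 ≤ L.count K) : ∃ R, L.Perm (K :: K :: R) := by
  have h1 : K ∈ L := List.count_pos_iff.1 (by omega)
  have h2 : K ∈ L.erase K := List.count_pos_iff.1 (by rw [List.count_erase_self]; omega)
  exact ⟨(L.erase K).erase K, (List.perm_cons_erase h1).trans ((List.perm_cons_erase h2).cons K)⟩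

variable {F : Type*} [Field F] [CharP F 2] [Finite F] {V : Type*} [AddCommGroup V] [Module F V]
  [FiniteDimensional F V] {d : ℕ} {σ : Sys F V d} {α : F}

theorem Real.ok {K : Kind} {P : Submodule F V} (h : Real σ α K P) : K.Ok d := by
  cases K with
  | V k b => obtain ⟨v, hv, -⟩ := h; exact ⟨hv.one_le, hv.bit⟩
  | Wo k b => obtain ⟨v, w, hv, -⟩ := h; exact hv.bit
  | We k => obtain ⟨v, w, hv, -⟩ := h; exact hv.one_le

theorem Dec.ok : ∀ {L : List Kind} {W : Submodule F V}, Dec σ α L W → ∀ K ∈ L, K.Ok d := by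
  intro L
  induction L with
  | nil => intro W _ K hK; exact absurd hK List.not_mem_nil
  | cons K L ih =>
    rintro W ⟨P, R, hP, -, -, hR⟩ K' hK'
    rcases List.mem_cons.1 hK' with rfl | h
    · exact hP.ok
    · exact ih hR _ h

theorem Dec.replace {A R L : List Kind} {W : Submodule F V} (h : Dec σ α L W) (hp : L.Perm (A ++ R))
    (hrel : ∀ U, Dec σ α A U → ∃ A', Dec σ α A' U ∧ measureOf A' < measureOf A) :
    ∃ L', Dec σ α L' W ∧ measureOf L' < measureOf L := by
  obtain ⟨U, U', h1, h2, ho, rfl⟩ := Dec.of_append (h.perm hp)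
  obtain ⟨A', hA', hlt⟩ := hrel U h1
  exact ⟨A' ++ R, hA'.append h2 ho, measureOf_perm hp ▸ measureOf_lt hlt R⟩

theorem four_pow_pred_lt (j : ℕ) : 4 ^ j < 4 ^ (j + 1) := Nat.pow_lt_pow_succ (by norm_num)

theorem Dec.exists_smaller (hd : d ≤ 1) (hα : ∀ x : F, x ^ 2 + x ≠ α) {L : List Kind} {W : Submodule F V}
    (h : Dec σ α L W) (hnf : ¬ NF L) : ∃ L', Dec σ α L' W ∧ measureOf L' < measureOf L := by
  by_cases h1 : ∀ k, L.countP (Kind.isV k) ≤ 2
  swap
  · push Not at h1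
    obtain ⟨k, hk⟩ := h1
    obtain ⟨K₁, R₁, hp₁, hq₁, hc₁⟩ := exists_perm_of_countP (n := 2) hk
    obtain ⟨K₂, R₂, hp₂, hq₂, hc₂⟩ := exists_perm_of_countP (n := 1) hc₁
    obtain ⟨K₃, R₃, hp₃, hq₃, -⟩ := exists_perm_of_countP (n := 0) hc₂
    obtain ⟨a, rfl⟩ := Kind.eq_V_of_isV hp₁
    obtain ⟨b, rfl⟩ := Kind.eq_V_of_isV hp₂
    obtain ⟨c, rfl⟩ := Kind.eq_V_of_isV hp₃
    refine h.replace (A := [.V k a, .V k b, .V k c]) (R := R₃) (hq₁.trans ((hq₂.trans (hq₃.cons _)).cons _))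
      fun U hU => ?_
    obtain ⟨e, he⟩ := rel_VVV hd hα hU
    exact ⟨_, he, by simp [measureOf, List.countP_cons, Kind.anyV, Prod.Lex.toLex_lt_toLex]⟩
  by_cases h2 : ∀ k, L.count (.V k true) ≤ 1
  swap
  · push Not at h2
    obtain ⟨k, hk⟩ := h2
    obtain ⟨R, hR⟩ := exists_perm_double hk
    refine h.replace (A := [.V k true, .V k true]) (R := R) hR fun U hU => ?_
    obtain ⟨e, he⟩ := rel_VV hd hα hU
    refine ⟨_, he, ?_⟩
    have : 0 < 4 ^ k := Nat.pow_pos (by norm_num)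
    cases e <;> simp [measureOf, List.countP_cons, Kind.anyV, Kind.woBit, Kind.vBitWeight, Prod.Lex.toLex_lt_toLex] <;> omega
  by_cases h3 : ∀ j c, Kind.V (j + 1) true ∈ L → Kind.V j c ∉ L
  swap
  · push Not at h3
    obtain ⟨j, c, hj, hc⟩ := h3
    obtain ⟨R, hR⟩ := exists_perm_pair hj hc (by simp)
    refine h.replace (A := [.V (j + 1) true, .V j c]) (R := R) hR fun U hU => ?_
    obtain ⟨e, he⟩ := rel_VV_succ hd hα hU
    refine ⟨_, he, ?_⟩
    have := four_pow_pred_lt j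
    cases e <;> cases c <;>
      simp [measureOf, List.countP_cons, Kind.anyV, Kind.woBit, Kind.vBitWeight, Prod.Lex.toLex_lt_toLex] <;> omega
  by_cases h4 : ∀ k, L.count (.Wo k true) ≤ 1
  swap
  · push Not at h4
    obtain ⟨k, hk⟩ := h4
    obtain ⟨R, hR⟩ := exists_perm_double hk
    refine h.replace (A := [.Wo k true, .Wo k true]) (R := R) hR fun U hU => ?_
    obtain ⟨e, he⟩ := rel_WW hd hα hU
    refine ⟨_, he, ?_⟩
    cases e <;> simp [measureOf, List.countP_cons, Kind.anyV, Kind.woBit, Prod.Lex.toLex_lt_toLex]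
  by_cases h5 : ∀ k c, Kind.Wo k true ∈ L → Kind.V k c ∉ L
  swap
  · push Not at h5
    obtain ⟨k, c, hk, hc⟩ := h5
    obtain ⟨R, hR⟩ := exists_perm_pair hk hc (by simp)
    refine h.replace (A := [.Wo k true, .V k c]) (R := R) hR fun U hU => ?_
    obtain ⟨e, he⟩ := rel_WV hd hα hU
    exact ⟨_, he, by simp [measureOf, List.countP_cons, Kind.anyV, Kind.woBit, Prod.Lex.toLex_lt_toLex]⟩
  by_cases h6 : ∀ k c, Kind.Wo k true ∈ L → Kind.V (k + 1) c ∉ L
  swap
  · push Not at h6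
    obtain ⟨k, c, hk, hc⟩ := h6
    obtain ⟨R, hR⟩ := exists_perm_pair hk hc (by simp)
    refine h.replace (A := [.Wo k true, .V (k + 1) c]) (R := R) hR fun U hU => ?_
    obtain ⟨e, he⟩ := rel_WV_succ hd hα hU
    exact ⟨_, he, by simp [measureOf, List.countP_cons, Kind.anyV, Kind.woBit, Prod.Lex.toLex_lt_toLex]⟩
  exact absurd ⟨h1, h2, h3, h4, h5, h6⟩ hnf

/-- Every unipotent isometry has a decomposition in normal form. -/
theorem exists_nf (hd : d ≤ 1) (hα : ∀ x : F, x ^ 2 + x ≠ α) :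
    ∃ L, Dec σ α L ⊤ ∧ NF L ∧ (L.map Kind.size).sum = Module.finrank F V := by
  obtain ⟨L₀, h₀⟩ := exists_dec (σ := σ) hd hα _ ⊤ rfl inv_top nd_top
  have main : ∀ m : ℕ ×ₗ (ℕ ×ₗ ℕ), ∀ L, measureOf L = m → Dec σ α L ⊤ → ∃ L', Dec σ α L' ⊤ ∧ NF L' := by
    intro m
    induction m using WellFoundedLT.induction with
    | _ m ih =>
      rintro L rfl hL
      by_cases hnf : NF L
      · exact ⟨L, hL, hnf⟩
      obtain ⟨L', hL', hlt⟩ := hL.exists_smaller hd hα hnf
      exact ih _ hlt L' rfl hL'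
  obtain ⟨L, hL, hnf⟩ := main _ L₀ rfl h₀
  exact ⟨L, hL, hnf, by rw [← (hL.props hd).2.2, finrank_top]⟩

end Cfsg.Agent.UnipTwo
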