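/-
The parity of the number of marks is an invariant of the quadratic form.
-/
import Cfsg.Agent.Lib.UnipTwo.Decomp
import Cfsg.Agent.Lib.UnipTwo.Normal

set_option autoImplicit false
set_option linter.unusedSectionVars false

namespace Cfsg.Agent.UnipTwo

variable {F : Type*} [Field F] [CharP F 2] [Finite F]

open Classical in
/-- The additive character with values `±1`. -/
noncomputable def chi (a : F) : ℤ := if ∃ x : F, x ^ 2 + x = a then 1 else -1

theorem exists_nonAS : ∃ α : F, ∀ x : F, x ^ 2 + x ≠ α := by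
  by_contra hcon
  push Not at hcon
  have hs : Function.Surjective fun x : F => x ^ 2 + x := hcon
  have h := (Finite.injective_iff_surjective).2 hs
  exact zero_ne_one (h (show (0 : F) ^ 2 + 0 = 1 ^ 2 + 1 by
    rw [one_pow, CharTwo.add_self_eq_zero]; simp))

theorem chi_zero : chi (0 : F) = 1 := if_pos ⟨0, by simp⟩

theorem chi_alpha {α : F} (hα : ∀ x : F, x ^ 2 + x ≠ α) : chi α = -1 := if_neg fun ⟨x, hx⟩ => hα x hx

theorem chi_eq_one_or {α : F} (hα : ∀ x : F, x ^ 2 + x ≠ α) (a : F) :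
    (chi a = 1 ∧ ∃ x : F, x ^ 2 + x = a) ∨ (chi a = -1 ∧ ∃ x : F, x ^ 2 + x = a + α) := by
  by_cases h : ∃ x : F, x ^ 2 + x = a
  · exact Or.inl ⟨if_pos h, h⟩
  obtain ⟨x, hx | hx⟩ := exists_as hα a
  · exact absurd ⟨x, (CharTwo.add_eq_zero.1 hx).symm⟩ h
  · refine Or.inr ⟨if_neg h, x, ?_⟩
    linear_combination hx - a * CharTwo.two_eq_zero (R := F)

theorem chi_add (a b : F) : chi (a + b) = chi a * chi b := by
  obtain ⟨α, hα⟩ := exists_nonAS (F := F)
  have hsum : ∀ x y : F, (x + y) ^ 2 + (x + y) = x ^ 2 + x + (y ^ 2 + y) := fun x y => by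
    linear_combination x * y * CharTwo.two_eq_zero (R := F)
  have hneg : ∀ c : F, (∃ x : F, x ^ 2 + x = c + α) → chi c = -1 := fun c ⟨x, hx⟩ => if_neg fun ⟨y, hy⟩ =>
    hα (x + y) (by linear_combination hsum x y + hx + hy + c * CharTwo.two_eq_zero (R := F))
  rcases chi_eq_one_or hα a with ⟨ha, x, hx⟩ | ⟨ha, x, hx⟩ <;>
    rcases chi_eq_one_or hα b with ⟨hb, y, hy⟩ | ⟨hb, y, hy⟩ <;> rw [ha, hb]
  · rw [chi, if_pos ⟨x + y, by rw [hsum, hx, hy]⟩]; rfl
  · rw [hneg _ ⟨x + y, by rw [hsum, hx, hy]; ring⟩]; rfl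
  · rw [hneg _ ⟨x + y, by rw [hsum, hx, hy]; ring⟩]; rfl
  · rw [chi, if_pos ⟨x + y, by rw [hsum, hx, hy]; linear_combination α * CharTwo.two_eq_zero (R := F)⟩]; rfl

theorem chi_sq_self (a : F) : chi (a ^ 2) = chi a := by
  have h := chi_add a (a ^ 2 + a)
  rw [show a + (a ^ 2 + a) = a ^ 2 by linear_combination a * CharTwo.two_eq_zero (R := F),
    show chi (a ^ 2 + a) = 1 from if_pos ⟨a, rfl⟩, mul_one] at h
  exact h

section Sums

variable [Fintype F]

theorem sum_chi : ∑ z : F, chi z = 0 := by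
  obtain ⟨α, hα⟩ := exists_nonAS (F := F)
  have h : ∑ z : F, chi z = ∑ z : F, chi (z + α) := (Equiv.sum_comp (Equiv.addRight α) _).symm
  simp only [chi_add, chi_alpha hα, mul_neg, mul_one, Finset.sum_neg_distrib] at h
  omega

theorem sum_chi_mul (a : F) [DecidableEq F] :
    ∑ z : F, chi (z * a) = if a = 0 then (Fintype.card F : ℤ) else 0 := by
  split
  · simp [*, chi_zero]
  · rename_i h
    exact (Equiv.sum_comp (Equiv.mulRight₀ a h) chi).trans sum_chi

/-- The character sum of a non-trivial additive map vanishes. -/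
theorem sum_chi_additive {G : Type*} [Fintype G] [AddCommGroup G] {f : G → F} {α : F}
    (hα : ∀ x : F, x ^ 2 + x ≠ α) {g₀ : G} (hf : ∀ g, f (g + g₀) = f g + α) : ∑ g, chi (f g) = 0 := by
  have hs : ∑ g, chi (f g) = ∑ g, chi (f (g + g₀)) :=
    (Equiv.sum_comp (Equiv.addRight g₀) fun g => chi (f g)).symm
  simp only [hf, chi_add, chi_alpha hα, mul_neg, mul_one, Finset.sum_neg_distrib] at hs
  omega

/-- The plane sum. -/
noncomputable def plane (a b : F) : ℤ := ∑ x : F, ∑ y : F, chi (x ^ 2 * a + x * y + y ^ 2 * b)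

theorem plane_comm (a b : F) : plane a b = plane b a := by
  rw [plane, Finset.sum_comm]
  exact Finset.sum_congr rfl fun x _ => Finset.sum_congr rfl fun y _ => by congr 1; ring

theorem plane_zero (b : F) : plane 0 b = Fintype.card F := by
  classical
  have : ∀ y : F, ∑ x : F, chi (x ^ 2 * 0 + x * y + y ^ 2 * b) = if y = 0 then (Fintype.card F : ℤ) else 0 := by
    intro y
    simp only [mul_zero, zero_add, chi_add, ← Finset.sum_mul, sum_chi_mul]
    split
    · simp [*, chi_zero]
    · simp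
  rw [plane, Finset.sum_comm, Finset.sum_congr rfl fun y _ => this y]
  simp

theorem plane_aniso {α : F} (hα : ∀ x : F, x ^ 2 + x ≠ α) : plane 1 α = -(Fintype.card F : ℤ) := by
  classical
  have hy : ∀ y : F, y ≠ 0 → ∑ x : F, chi (x ^ 2 * 1 + x * y + y ^ 2 * α) =
      (Fintype.card F : ℤ) * chi (y ^ 2 * α) * if y = 1 then 1 else 0 := by
    intro y hy
    have h1 : ∀ x : F, chi (x ^ 2 * 1 + x * y + y ^ 2 * α) = chi (x * (1 + y)) * chi (y ^ 2 * α) := fun x => by
      rw [chi_add, chi_add, mul_one, chi_sq_self, ← chi_add, mul_add, mul_one]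
    simp only [h1, ← Finset.sum_mul, sum_chi_mul]
    by_cases h : y = 1
    · rw [if_pos h, if_pos (by rw [h, CharTwo.add_self_eq_zero])]; ring
    · rw [if_neg h, if_neg fun e => h (CharTwo.add_eq_zero.1 e).symm]; ring
  rw [plane, Finset.sum_comm, Finset.sum_eq_single (1 : F)]
  · rw [hy 1 one_ne_zero, if_pos rfl, one_pow, one_mul, chi_alpha hα]; ring
  · intro y _ h
    rcases eq_or_ne y 0 with rfl | h0
    · simp only [mul_one, mul_zero, add_zero, zero_pow two_ne_zero, zero_mul, chi_sq_self, sum_chi]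
    · rw [hy y h0, if_neg h, mul_zero]
  · exact fun h => absurd (Finset.mem_univ _) h

end Sums

variable {V : Type*} [AddCommGroup V] [Module F V] [FiniteDimensional F V] {σ : Sys F V 0} {α : F}

variable (σ) in
/-- The Gauss sum of a subspace. -/
noncomputable def gsum (W : Submodule F V) : ℤ := ∑ᶠ x : W, chi (σ.Q x)

theorem gsum_bot : gsum σ ⊥ = 1 := by
  rw [gsum, finsum_unique]
  show chi (σ.Q (0 : V)) = 1
  rw [show σ.Q (0 : V) = 0 from q_zero σ (le_refl 0), chi_zero]

theorem gsum_sup {P R : Submodule F V} (hP : ND σ P) (ho : ∀ x ∈ P, ∀ y ∈ R, σ.B x y = 0) :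
    gsum σ (P ⊔ R) = gsum σ P * gsum σ R := by
  classical
  haveI : Finite V := Module.finite_of_finite F
  let f : P × R → ↥(P ⊔ R) := fun p => ⟨p.1 + p.2, Submodule.add_mem_sup p.1.2 p.2.2⟩
  have hf : Function.Bijective f := by
    refine ⟨fun p p' h => ?_, fun x => ?_⟩
    · have e : (p.1 : V) + p.2 = p'.1 + p'.2 := congrArg Subtype.val h
      have h0 : (p.1 : V) - p'.1 = 0 := hP _ (sub_mem p.1.2 p'.1.2) fun y hy => by
        rw [show (p.1 : V) - p'.1 = p'.2 - p.2 by rw [sub_eq_sub_iff_add_eq_add, e, add_comm],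
          B_comm σ, ho y hy _ (sub_mem p'.2.2 p.2.2)]
      have h1 : (p.1 : V) = p'.1 := sub_eq_zero.1 h0
      exact Prod.ext (Subtype.ext h1) (Subtype.ext (by rwa [h1, add_right_inj] at e))
    · obtain ⟨a, ha, b, hb, he⟩ := Submodule.mem_sup.1 x.2
      exact ⟨(⟨a, ha⟩, ⟨b, hb⟩), Subtype.ext he⟩
  letI : Fintype P := Fintype.ofFinite _
  letI : Fintype R := Fintype.ofFinite _
  letI : Fintype ↥(P ⊔ R) := Fintype.ofFinite _
  rw [gsum, gsum, gsum, finsum_eq_sum_of_fintype, finsum_eq_sum_of_fintype, finsum_eq_sum_of_fintype,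
    Fintype.sum_mul_sum, ← Fintype.sum_prod_type']
  refine (Fintype.sum_bijective f hf _ _ fun p => ?_).symm
  show chi (σ.Q p.1) * chi (σ.Q p.2) = chi (σ.Q ((p.1 : V) + p.2))
  rw [σ.hQadd rfl, ho _ p.1.2 _ p.2.2, add_zero, chi_add]

/-- The sum over a piece reduces to the middle generators. -/
theorem Tri.gsum_eq [Fintype F] {r top L₀ : ℕ} {x : Fin r → V} {π : Fin r → Fin r} (h : Tri σ top x π)
    {ι : Type*} [Fintype ι] [DecidableEq ι] (e : ι → Fin r × Fin (top + 1)) (he : Function.Injective e)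
    (hmid : ∀ p : Fin r × Fin (top + 1), (∃ i, e i = p) ↔ ((p.2 : ℕ) < L₀ ∧ top < (p.2 : ℕ) + L₀))
    (hL : top < L₀ + L₀) (hq : ∀ i N, L₀ ≤ N → σ.q N (x i) = 0) :
    ∃ C : ℤ, 0 < C ∧
      gsum σ (gspans σ x) = C * ∑ m : ι → F, chi (σ.Q (∑ i, m i • gen σ (e i).2 (x (e i).1))) := by
  classical
  haveI : Finite V := Module.finite_of_finite F
  set g : Fin r × Fin (top + 1) → V := fun p => gen σ p.2 (x p.1) with hg
  let hi : Fin r × Fin (top + 1) → Prop := fun p => L₀ ≤ (p.2 : ℕ)
  let split := Equiv.piEquivPiSubtypeProd hi (fun _ => F)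
  obtain ⟨linH, hlinH⟩ : ∃ l : ({p // hi p} → F) → V, ∀ c, l c = ∑ p, c p • g p := ⟨_, fun _ => rfl⟩
  obtain ⟨linL, hlinL⟩ : ∃ l : ({p // ¬ hi p} → F) → V, ∀ c, l c = ∑ p, c p • g p := ⟨_, fun _ => rfl⟩
  let f : (Fin r × Fin (top + 1) → F) → ↥(gspans σ x) := fun c => ⟨∑ p, c p • g p, by
    rw [h.gspans_eq]
    exact Submodule.sum_mem _ fun p _ => Submodule.smul_mem _ _ (Submodule.subset_span ⟨p, rfl⟩)⟩
  have hf : Function.Bijective f := by
    refine ⟨fun c c' hcc => ?_, fun v => ?_⟩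
    · funext p
      exact Fintype.linearIndependent_iffₛ.1 h.linearIndependent c c' (congrArg Subtype.val hcc) p
    · obtain ⟨c, hc⟩ := (Submodule.mem_span_range_iff_exists_fun F).1
        (show (v : V) ∈ Submodule.span F (Set.range g) by rw [← h.gspans_eq]; exact v.2)
      exact ⟨c, Subtype.ext hc⟩
  letI : Fintype ↥(gspans σ x) := Fintype.ofFinite _
  have hQH : ∀ c, σ.Q (linH c) = 0 := fun c => by
    have hmem : linH c ∈ Submodule.span F (Set.range fun p : {p // hi p} => g p) :=
      hlinH c ▸ Submodule.sum_mem _ fun p _ => Submodule.smul_mem _ _ (Submodule.subset_span ⟨p, rfl⟩)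
    have hB0 : ∀ y ∈ Submodule.span F (Set.range fun p : {p // hi p} => g p),
        ∀ z ∈ Submodule.span F (Set.range fun p : {p // hi p} => g p), σ.B y z = 0 := fun y hy z hz => by
      induction hy using Submodule.span_induction with
      | mem u hu =>
        induction hz using Submodule.span_induction with
        | mem u' hu' =>
          obtain ⟨p, rfl⟩ := hu
          obtain ⟨p', rfl⟩ := hu'
          have e1 : L₀ ≤ (p.1.2 : ℕ) := p.2
          have e2 : L₀ ≤ (p'.1.2 : ℕ) := p'.2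
          exact h.hi _ _ _ _ (by omega)
        | zero => rw [map_zero]
        | add a b _ _ ha hb => rw [map_add, ha, hb, add_zero]
        | smul c a _ ha => rw [map_smul, ha, smul_zero]
      | zero => rw [map_zero, LinearMap.zero_apply]
      | add a b _ _ ha hb => rw [map_add, LinearMap.add_apply, ha, hb, add_zero]
      | smul c a _ ha => rw [map_smul, LinearMap.smul_apply, ha, smul_zero]
    generalize linH c = y at hmem
    induction hmem using Submodule.span_induction with
    | mem u hu =>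
      obtain ⟨p, rfl⟩ := hu
      show σ.q 0 (gen σ p.1.2 (x p.1.1)) = 0
      rw [q_gen (le_refl 0), zero_add, hq _ _ p.2]
    | zero => exact q_zero σ (le_refl 0)
    | add a b ha hb ia ib => rw [σ.hQadd rfl, ia, ib, hB0 a ha b hb, add_zero, add_zero]
    | smul c a _ ia => rw [σ.hQsmul rfl, ia, mul_zero]
  have hinner : ∀ cL : {p // ¬ hi p} → F, (∑ cH : {p // hi p} → F, chi (σ.B (linL cL) (linH cH))) =
      if ∀ p : {p // ¬ hi p}, (p.1.2 : ℕ) + L₀ ≤ top → cL p = 0
      then (Fintype.card ({p // hi p} → F) : ℤ) else 0 := by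
    intro cL
    split
    · rename_i hz
      have : ∀ cH, σ.B (linL cL) (linH cH) = 0 := fun cH => by
        simp only [hlinL, hlinH, map_sum, map_smul, LinearMap.coe_sum, Finset.sum_apply, LinearMap.smul_apply,
          smul_eq_mul]
        refine Finset.sum_eq_zero fun q _ => mul_eq_zero_of_right _ (Finset.sum_eq_zero fun p _ => ?_)
        rcases le_or_gt ((p.1.2 : ℕ) + L₀) top with hp | hp
        · rw [hz p hp, zero_mul]
        · have e2 : L₀ ≤ (q.1.2 : ℕ) := q.2
          rw [h.hi _ _ _ _ (by omega), mul_zero]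
      simp [this, chi_zero]
    · rename_i hz
      push Not at hz
      obtain ⟨p₀, hp₀, hp₀'⟩ := hz
      obtain ⟨a, ha, hmin⟩ : ∃ a : {p // ¬ hi p}, (cL a ≠ 0 ∧ (a.1.2 : ℕ) + L₀ ≤ top) ∧
          ∀ b : {p // ¬ hi p}, (b.1.2 : ℕ) < a.1.2 → cL b = 0 := by
        obtain ⟨a, ha, hamin⟩ := Finset.exists_min_image
          (Finset.univ.filter fun a : {p // ¬ hi p} => cL a ≠ 0 ∧ (a.1.2 : ℕ) + L₀ ≤ top)
          (fun a => (a.1.2 : ℕ)) ⟨p₀, by simp [hp₀', hp₀]⟩
        rw [Finset.mem_filter] at ha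
        refine ⟨a, ha.2, fun b hb => ?_⟩
        by_contra hb0
        have := hamin b (Finset.mem_filter.2 ⟨Finset.mem_univ _, hb0, by omega⟩)
        omega
      obtain ⟨α, hα⟩ := exists_nonAS (F := F)
      let q₀ : {p // hi p} := ⟨(π a.1.1, ⟨top - a.1.2, by omega⟩), by show L₀ ≤ top - (a.1.2 : ℕ); omega⟩
      have hB : σ.B (linL cL) (g q₀) = cL a := by
        simp only [hlinL, map_sum, map_smul, LinearMap.coe_sum, Finset.sum_apply, LinearMap.smul_apply, smul_eq_mul]
        rw [Finset.sum_eq_single a]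
        · rw [show σ.B (g a) (g q₀) = 1 from
            (h.htop _ _ _ _ (show (a.1.2 : ℕ) + (top - a.1.2) = top by omega)).trans (if_pos rfl), mul_one]
        · intro b _ hb
          rcases lt_trichotomy (b.1.2 : ℕ) a.1.2 with h1 | h1 | h1
          · rw [hmin b h1, zero_mul]
          · refine mul_eq_zero_of_right _ ((h.htop b.1.1 (π a.1.1) b.1.2 (top - a.1.2) (by omega)).trans (if_neg ?_))
            intro e'
            exact hb (Subtype.ext (Prod.ext (h.inj e'.symm) (Fin.ext h1)))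
          · exact mul_eq_zero_of_right _ (h.hi b.1.1 (π a.1.1) b.1.2 (top - a.1.2) (by omega))
        · exact fun h' => absurd (Finset.mem_univ _) h'
      have hlin : ∀ cH, σ.B (linL cL) (linH (cH + Pi.single q₀ (α / cL a))) = σ.B (linL cL) (linH cH) + α := by
        intro cH
        have e1 : linH (Pi.single q₀ (α / cL a)) = (α / cL a) • g q₀ := by
          simp only [hlinH]
          rw [Finset.sum_eq_single q₀ (fun q _ hq => by rw [Pi.single_eq_of_ne hq, zero_smul])
            (fun h' => absurd (Finset.mem_univ _) h'), Pi.single_eq_same]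
        have e2 : linH (cH + Pi.single q₀ (α / cL a)) = linH cH + linH (Pi.single q₀ (α / cL a)) := by
          simp only [hlinH, Pi.add_apply, add_smul, Finset.sum_add_distrib]
        rw [e2, map_add, e1, map_smul, hB, smul_eq_mul, div_mul_cancel₀ _ ha.1]
      exact sum_chi_additive hα hlin
  let ext0 : (ι → F) → ({p // ¬ hi p} → F) := fun m p => ∑ i, if e i = p.1 then m i else 0
  have hext : ∀ m i (hp : ¬ hi (e i)), ext0 m ⟨e i, hp⟩ = m i := fun m i hp => by
    simp only [ext0]
    rw [Finset.sum_eq_single i (fun j _ hj => if_neg fun e' => hj (he e'))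
      (fun h' => absurd (Finset.mem_univ _) h'), if_pos rfl]
  have hmid' : ∀ i, ¬ hi (e i) ∧ top < ((e i).2 : ℕ) + L₀ := fun i =>
    ⟨not_le.2 ((hmid _).1 ⟨i, rfl⟩).1, ((hmid _).1 ⟨i, rfl⟩).2⟩
  refine ⟨Fintype.card ({p // hi p} → F), by exact_mod_cast Fintype.card_pos, ?_⟩
  rw [gsum, finsum_eq_sum_of_fintype, ← Fintype.sum_bijective f hf (fun c => chi (σ.Q (∑ p, c p • g p))) _
      (fun _ => rfl),
    ← Equiv.sum_comp split.symm, Fintype.sum_prod_type, Finset.sum_comm]
  have hQ : ∀ cH cL, σ.Q (∑ p, split.symm (cH, cL) p • g p) = σ.Q (linL cL) + σ.B (linL cL) (linH cH) := by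
    intro cH cL
    have : ∑ p, split.symm (cH, cL) p • g p = linL cL + linH cH := by
      rw [← Fintype.sum_subtype_add_sum_subtype hi, add_comm]
      simp only [hlinL, hlinH, split]
      congr 1 <;> refine Finset.sum_congr rfl fun p _ => ?_
      · rw [Equiv.piEquivPiSubtypeProd_symm_apply, dif_neg p.2]
      · rw [Equiv.piEquivPiSubtypeProd_symm_apply, dif_pos p.2]
    rw [this, σ.hQadd rfl, hQH, add_zero]
  simp only [hQ, chi_add, ← Finset.mul_sum, hinner]
  rw [Finset.mul_sum]
  refine (Fintype.sum_of_injective ext0 ?_ _ _ ?_ fun m => ?_).symm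
  · intro m m' hmm
    funext i
    rw [← hext m i (hmid' i).1, ← hext m' i (hmid' i).1, hmm]
  · intro cL hcL
    rw [if_neg, mul_zero]
    intro hz
    refine hcL ⟨fun i => cL ⟨e i, (hmid' i).1⟩, funext fun p => ?_⟩
    rcases le_or_gt ((p.1.2 : ℕ) + L₀) top with hp | hp
    · rw [hz p hp]
      refine Finset.sum_eq_zero fun i _ => if_neg fun e' => ?_
      have := (hmid' i).2
      rw [e'] at this
      omega
    · obtain ⟨i, hi'⟩ := (hmid p.1).2 ⟨not_le.1 p.2, hp⟩
      obtain rfl : p = ⟨e i, (hmid' i).1⟩ := Subtype.ext hi'.symm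
      exact hext _ i _
  · show _ = chi (σ.Q (linL (ext0 m))) * _
    rw [if_pos fun p hp => Finset.sum_eq_zero fun i _ => if_neg fun e' => by
      have := (hmid' i).2
      rw [e'] at this
      omega]
    rw [mul_comm]
    congr 2
    simp only [hlinL, ext0, Finset.sum_smul, ite_smul, zero_smul]
    rw [Finset.sum_comm]
    refine congrArg σ.Q (Finset.sum_congr rfl fun i _ => ?_)
    rw [Finset.sum_eq_single ⟨e i, (hmid' i).1⟩ (fun p _ hp => if_neg fun e' => hp (Subtype.ext e'.symm))
      (fun h' => absurd (Finset.mem_univ _) h'), if_pos rfl]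

theorem sum_fin_two [Fintype F] (f : (Fin 2 → F) → ℤ) :
    ∑ m : Fin 2 → F, f m = ∑ a : F, ∑ b : F, f ![a, b] := by
  rw [← Fintype.sum_prod_type']
  exact (Equiv.sum_comp (finTwoArrowEquiv F).symm f).symm

theorem Q_two {u v : V} (h : σ.B u v = 1) (a b : F) :
    σ.Q (a • u + b • v) = a ^ 2 * σ.Q u + a * b + b ^ 2 * σ.Q v := by
  rw [σ.hQadd rfl, σ.hQsmul rfl, σ.hQsmul rfl, map_smul, map_smul, LinearMap.smul_apply, h, smul_eq_mul,
    smul_eq_mul, mul_one]
  ring

theorem plane_pos [Fintype F] {a b : F} (ha : a = 0) : 0 < plane a b := by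
  rw [ha, plane_zero]; exact_mod_cast Fintype.card_pos

/-- The sign of the Gauss sum of a piece is its mark. -/
theorem Real.gsum_sign (hα : ∀ x : F, x ^ 2 + x ≠ α) {K : Kind} {P : Submodule F V} (h : Real σ α K P) :
    0 < (-1) ^ K.bit.toNat * gsum σ P := by
  classical
  letI := Fintype.ofFinite F
  have hneg : plane 1 α < 0 ∧ plane α 1 < 0 := by
    rw [plane_comm α 1, plane_aniso hα]
    have : (0 : ℤ) < (Fintype.card F : ℤ) := by exact_mod_cast Fintype.card_pos
    constructor <;> omega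
  cases K with
  | V k b =>
    obtain ⟨v, hv, rfl⟩ := h
    have hk := hv.one_le
    rw [← gspans_one]
    have t := hv.tri (Nat.zero_le 1)
    let e : Fin 2 → Fin 1 × Fin (2 * k - 1 + 1) := fun i => (0, ⟨k - 1 + i, by omega⟩)
    obtain ⟨C, hC, hG⟩ := t.gsum_eq (L₀ := k + 1) e
      (fun i j hij => Fin.ext (by have := congrArg (fun p => (p.2 : ℕ)) hij; simp [e] at this; omega))
      (fun p => ⟨by rintro ⟨i, rfl⟩; simp only [e]; omega, fun ⟨h1, h2⟩ =>
        ⟨⟨(p.2 : ℕ) - (k - 1), by omega⟩, Prod.ext (Subsingleton.elim _ _) (Fin.ext (by simp only [e]; omega))⟩⟩)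
      (by omega) (fun i N hN => by fin_cases i; exact q_eq_zero σ (by omega : k < N) (T_eq_zero_of_S σ hv.hS))
    have hval : ∀ a c : F, σ.Q (∑ i, (![a, c] : Fin 2 → F) i • gen σ (e i).2 (![v] (e i).1)) =
        a ^ 2 * (if b = true then α else 0) + a * c + c ^ 2 * 1 := by
      intro a c
      rw [Fin.sum_univ_two]
      show σ.Q (a • gen σ (k - 1 + 0) v + c • gen σ (k - 1 + 1) v) = _
      rw [add_zero, show k - 1 + 1 = k by omega,
        Q_two (u := gen σ (k - 1) v) (v := gen σ k v) ((t.htop 0 0 (k - 1) k (by omega)).trans (if_pos rfl)) a c,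
        show σ.Q (gen σ (k - 1) v) = σ.q 0 (gen σ (k - 1) v) from rfl,
        show σ.Q (gen σ k v) = σ.q 0 (gen σ k v) from rfl, q_gen (le_refl 0), q_gen (le_refl 0), zero_add, zero_add,
        hv.low (k - 1) (Nat.zero_le _) (by omega), hv.top]
      cases b <;> simp [show k - 1 + 1 = k by omega]
    rw [hG, sum_fin_two]
    simp only [hval]
    show 0 < (-1) ^ (Kind.bit (.V k b)).toNat * (C * plane (if b = true then α else 0) 1)
    cases b
    · simp only [Kind.bit, Bool.toNat_false, pow_zero, one_mul, Bool.false_eq_true, if_false]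
      exact mul_pos hC (plane_pos rfl)
    · simp only [Kind.bit, Bool.toNat_true, pow_one, if_true]
      have := hneg.2
      nlinarith
  | Wo k b =>
    obtain ⟨v, w, hv, rfl⟩ := h
    rw [← gspans_pair]
    have t := hv.tri (Nat.zero_le 1)
    let e : Fin 2 → Fin 2 × Fin (2 * k + 1) := fun i => (i, ⟨k, by omega⟩)
    obtain ⟨C, hC, hG⟩ := t.gsum_eq (L₀ := k + 1) e (fun i j hij => congrArg Prod.fst hij)
      (fun p => ⟨by rintro ⟨i, rfl⟩; simp only [e]; omega, fun ⟨h1, h2⟩ =>
        ⟨p.1, Prod.ext rfl (Fin.ext (by simp only [e]; omega))⟩⟩)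
      (by omega) (fun i N hN => by
        fin_cases i
        · exact q_eq_zero σ (by omega : k < N) hv.hv
        · exact q_eq_zero σ (by omega : k < N) hv.hw)
    have hval : ∀ a c : F, σ.Q (∑ i, (![a, c] : Fin 2 → F) i • gen σ (e i).2 (![v, w] (e i).1)) =
        a ^ 2 * (if b = true then 1 else 0) + a * c + c ^ 2 * (if b = true then α else 0) := by
      intro a c
      rw [Fin.sum_univ_two]
      show σ.Q (a • gen σ k v + c • gen σ k w) = _
      rw [Q_two ((hv.B_cross (by omega)).trans (if_pos (by omega))) a c,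
        show σ.Q (gen σ k v) = σ.q 0 (gen σ k v) from rfl, show σ.Q (gen σ k w) = σ.q 0 (gen σ k w) from rfl,
        q_gen (le_refl 0), q_gen (le_refl 0), zero_add, hv.qv k (Nat.zero_le _) le_rfl,
        hv.qw k (Nat.zero_le _) le_rfl]
      cases b <;> simp
    rw [hG, sum_fin_two]
    simp only [hval]
    show 0 < (-1) ^ (Kind.bit (.Wo k b)).toNat *
      (C * plane (if b = true then 1 else 0) (if b = true then α else 0))
    cases b
    · simp only [Kind.bit, Bool.toNat_false, pow_zero, one_mul, Bool.false_eq_true, if_false]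
      exact mul_pos hC (plane_pos rfl)
    · simp only [Kind.bit, Bool.toNat_true, pow_one, if_true]
      have := hneg.1
      nlinarith
  | We k =>
    obtain ⟨v, w, hv, rfl⟩ := h
    have hk := hv.one_le
    rw [← gspans_pair]
    have t := hv.tri (Nat.zero_le 1)
    obtain ⟨C, hC, hG⟩ := t.gsum_eq (L₀ := k) (ι := Empty) (fun i => i.elim) (fun i => i.elim)
      (fun p => ⟨fun ⟨i, _⟩ => i.elim, fun ⟨h1, h2⟩ => absurd h1 (by omega)⟩) (by omega) (fun i N _ => by
        fin_cases i
        · exact (hv.qv_eq_zero (Nat.zero_le _)).1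
        · exact (hv.qv_eq_zero (Nat.zero_le _)).2)
    rw [hG]
    simp only [Kind.bit, Bool.toNat_false, pow_zero, one_mul, Finset.univ_eq_empty, Finset.sum_empty,
      Fintype.sum_unique]
    rw [show σ.Q (0 : V) = 0 from q_zero σ (le_refl 0), chi_zero, mul_one]
    exact hC

/-- The parity of the marks is determined by the sign of the Gauss sum. -/
theorem Dec.gsum_sign (hα : ∀ x : F, x ^ 2 + x ≠ α) : ∀ {L : List Kind} {W : Submodule F V},
    Dec σ α L W → 0 < (-1) ^ L.countP Kind.bit * gsum σ W := by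
  intro L
  induction L with
  | nil =>
    rintro W rfl
    simp [gsum_bot]
  | cons K L ih =>
    rintro W ⟨P, R, hP, ho, rfl, hR⟩
    rw [gsum_sup (hP.props (Nat.zero_le 1)).2.1 ho, List.countP_cons]
    have h1 := hP.gsum_sign hα
    have h2 := ih hR
    have e : (if K.bit = true then 1 else 0) = K.bit.toNat := by cases K.bit <;> rfl
    rw [e, pow_add]
    calc (0 : ℤ) < ((-1) ^ K.bit.toNat * gsum σ P) * ((-1) ^ L.countP Kind.bit * gsum σ R) := mul_pos h1 h2
      _ = _ := by ring

end Cfsg.Agent.UnipTwo
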