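/-
Two unipotent isometries with the same decomposition are isomorphic.
-/
import Cfsg.Agent.Lib.UnipTwo.Decomp

set_option autoImplicit false
set_option linter.unusedSectionVars false

namespace Cfsg.Agent.UnipTwo

variable {F : Type*} [Field F] [CharP F 2] [Finite F] {V V' : Type*} [AddCommGroup V] [Module F V]
  [AddCommGroup V'] [Module F V'] [FiniteDimensional F V] [FiniteDimensional F V'] {d : ℕ}
  {σ : Sys F V d} {τ : Sys F V' d} {α : F}

variable (σ τ) in
/-- Two subspaces have generators with the same invariants. -/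
def Match (W : Submodule F V) (W' : Submodule F V') : Prop :=
  ∃ G : Set (V × V'), (⨆ p ∈ G, gspan σ p.1) = W ∧ (⨆ p ∈ G, gspan τ p.2) = W' ∧
    (∀ p ∈ G, ∀ p' ∈ G, ∀ N M, σ.B (gen σ N p.1) (gen σ M p'.1) = τ.B (gen τ N p.2) (gen τ M p'.2)) ∧
    ∀ p ∈ G, ∀ i, d ≤ i → σ.q i p.1 = τ.q i p.2

theorem B_gen_congr {v w : V} {v' w' : V'} (hS : ∀ a, σ.B ((σ.S ^ a) v) w = τ.B ((τ.S ^ a) v') w')
    (hT : ∀ a, σ.B (σ.T ((σ.S ^ a) v)) w = τ.B (τ.T ((τ.S ^ a) v')) w') (N M : ℕ) :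
    σ.B (gen σ N v) (gen σ M w) = τ.B (gen τ N v') (gen τ M w') := by
  obtain ⟨e1, e2⟩ := B_gen (σ := σ) (N := N) (M := M) v w
  obtain ⟨f1, f2⟩ := B_gen (σ := τ) (N := N) (M := M) v' w'
  obtain ⟨s, hs | hs⟩ := parity (N + M)
  · rw [e1 hs, f1 hs, hS]
  · rcases Nat.mod_two_eq_zero_or_one N with hp | hp
    · rw [(e2 hs).2 hp, (f2 hs).2 hp, hS, hT]
    · rw [(e2 hs).1 hp, (f2 hs).1 hp, hT]

theorem B_gen_self_congr (hd : d ≤ 1) {v : V} {v' : V'} (h : ∀ i, d ≤ i → σ.q i v = τ.q i v') (N M : ℕ) :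
    σ.B (gen σ N v) (gen σ M v) = τ.B (gen τ N v') (gen τ M v') := by
  obtain ⟨s, hs | hs⟩ := parity (N + M)
  · rw [B_gen_self_even hs, B_gen_self_even hs]
  · rw [B_gen_self_odd hs, B_gen_self_odd hs, h _ (by omega)]

theorem match_one (hd : d ≤ 1) {v : V} {v' : V'} (h : ∀ i, d ≤ i → σ.q i v = τ.q i v') :
    Match σ τ (gspan σ v) (gspan τ v') := by
  refine ⟨{(v, v')}, by simp, by simp, ?_, ?_⟩
  · rintro p rfl p' rfl N M
    exact B_gen_self_congr hd h N M
  · rintro p rfl i hi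
    exact h i hi

theorem match_two (hd : d ≤ 1) {v w : V} {v' w' : V'} (hv : ∀ i, d ≤ i → σ.q i v = τ.q i v')
    (hw : ∀ i, d ≤ i → σ.q i w = τ.q i w')
    (hS : ∀ a, σ.B ((σ.S ^ a) v) w = τ.B ((τ.S ^ a) v') w')
    (hT : ∀ a, σ.B (σ.T ((σ.S ^ a) v)) w = τ.B (τ.T ((τ.S ^ a) v')) w') :
    Match σ τ (gspan σ v ⊔ gspan σ w) (gspan τ v' ⊔ gspan τ w') := by
  refine ⟨{(v, v'), (w, w')}, by rw [iSup_pair], by rw [iSup_pair], ?_, ?_⟩
  · rintro p (rfl | rfl) p' (rfl | rfl) N M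
    · exact B_gen_self_congr hd hv N M
    · exact B_gen_congr hS hT N M
    · rw [B_comm σ, B_comm τ]
      exact B_gen_congr hS hT M N
    · exact B_gen_self_congr hd hw N M
  · rintro p (rfl | rfl) i hi
    exacts [hv i hi, hw i hi]

theorem Real.match_ (hd : d ≤ 1) {K : Kind} {P : Submodule F V} {P' : Submodule F V'} (h : Real σ α K P)
    (h' : Real τ α K P') : Match σ τ P P' := by
  cases K with
  | V k b =>
    obtain ⟨v, hv, rfl⟩ := h
    obtain ⟨v', hv', rfl⟩ := h'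
    refine match_one hd fun i hi => ?_
    rcases lt_trichotomy i k with hik | rfl | hik
    · rw [hv.low i hi hik, hv'.low i hi hik]
    · rw [hv.top, hv'.top]
    · rw [q_eq_zero σ hik (T_eq_zero_of_S σ hv.hS), q_eq_zero τ hik (T_eq_zero_of_S τ hv'.hS)]
  | Wo k b =>
    obtain ⟨v, w, hv, rfl⟩ := h
    obtain ⟨v', w', hv', rfl⟩ := h'
    refine match_two hd (fun i hi => ?_) (fun i hi => ?_) (fun a => by rw [hv.pS, hv'.pS])
      (fun a => by rw [hv.pT, hv'.pT])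
    · rcases le_or_gt i k with hik | hik
      · rw [hv.qv i hi hik, hv'.qv i hi hik]
      · rw [q_eq_zero σ hik hv.hv, q_eq_zero τ hik hv'.hv]
    · rcases le_or_gt i k with hik | hik
      · rw [hv.qw i hi hik, hv'.qw i hi hik]
      · rw [q_eq_zero σ hik hv.hw, q_eq_zero τ hik hv'.hw]
  | We k =>
    obtain ⟨v, w, hv, rfl⟩ := h
    obtain ⟨v', w', hv', rfl⟩ := h'
    exact match_two hd (fun i hi => by rw [(hv.qv_eq_zero hi).1, (hv'.qv_eq_zero hi).1])
      (fun i hi => by rw [(hv.qv_eq_zero hi).2, (hv'.qv_eq_zero hi).2]) (fun a => by rw [hv.pS, hv'.pS])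
      (fun a => by rw [hv.pT, hv'.pT])

theorem Match.sup {W W₁ : Submodule F V} {W' W₁' : Submodule F V'} (h : Match σ τ W W') (h₁ : Match σ τ W₁ W₁')
    (ho : ∀ x ∈ W, ∀ y ∈ W₁, σ.B x y = 0) (ho' : ∀ x ∈ W', ∀ y ∈ W₁', τ.B x y = 0) :
    Match σ τ (W ⊔ W₁) (W' ⊔ W₁') := by
  obtain ⟨G, rfl, rfl, hB, hq⟩ := h
  obtain ⟨G₁, rfl, rfl, hB₁, hq₁⟩ := h₁
  refine ⟨G ∪ G₁, by rw [iSup_union], by rw [iSup_union], ?_, ?_⟩
  · have cross : ∀ p ∈ G, ∀ p' ∈ G₁, ∀ N M, σ.B (gen σ N p.1) (gen σ M p'.1) = 0 ∧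
        τ.B (gen τ N p.2) (gen τ M p'.2) = 0 := fun p hp p' hp' N M =>
      ⟨ho _ (Submodule.mem_iSup_of_mem p (Submodule.mem_iSup_of_mem hp (gen_mem_gspan N p.1))) _
          (Submodule.mem_iSup_of_mem p' (Submodule.mem_iSup_of_mem hp' (gen_mem_gspan M p'.1))),
        ho' _ (Submodule.mem_iSup_of_mem p (Submodule.mem_iSup_of_mem hp (gen_mem_gspan N p.2))) _
          (Submodule.mem_iSup_of_mem p' (Submodule.mem_iSup_of_mem hp' (gen_mem_gspan M p'.2)))⟩
    rintro p (hp | hp) p' (hp' | hp') N M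
    · exact hB p hp p' hp' N M
    · rw [(cross p hp p' hp' N M).1, (cross p hp p' hp' N M).2]
    · rw [B_comm σ, B_comm τ, (cross p' hp' p hp M N).1, (cross p' hp' p hp M N).2]
    · exact hB₁ p hp p' hp' N M
  · rintro p (hp | hp) i hi
    exacts [hq p hp i hi, hq₁ p hp i hi]

theorem Dec.match_ (hd : d ≤ 1) : ∀ {L : List Kind} {W : Submodule F V} {W' : Submodule F V'},
    Dec σ α L W → Dec τ α L W' → Match σ τ W W' := by
  intro L
  induction L with
  | nil => rintro W W' rfl rfl; exact ⟨∅, by simp, by simp, by simp, by simp⟩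
  | cons K L ih =>
    rintro W W' ⟨P, R, hP, ho, rfl, hR⟩ ⟨P', R', hP', ho', rfl, hR'⟩
    exact (hP.match_ hd hP').sup (ih hR hR') ho ho'

theorem S_gen (N : ℕ) (v : V) : σ.S (gen σ N v) = gen σ (N + 2) v := by
  obtain ⟨a, rfl | rfl⟩ := parity N
  · rw [gen_two_mul, show 2 * a + 2 = 2 * (a + 1) by omega, gen_two_mul, S_Spow]
  · rw [gen_two_mul_add_one, show 2 * a + 1 + 2 = 2 * (a + 1) + 1 by omega, gen_two_mul_add_one, ← T_S σ,
      S_Spow]

theorem T_gen (N : ℕ) (v : V) :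
    σ.T (gen σ N v) = if N % 2 = 0 then gen σ (N + 1) v else gen σ (N + 1) v + gen σ (N + 2) v := by
  obtain ⟨a, rfl | rfl⟩ := parity N
  · rw [if_pos (by omega), gen_two_mul, gen_two_mul_add_one]
  · rw [if_neg (by omega), gen_two_mul_add_one, T_T σ, S_Spow, ← T_S σ, S_Spow,
      show 2 * a + 1 + 1 = 2 * (a + 1) by omega, gen_two_mul,
      show 2 * a + 1 + 2 = 2 * (a + 1) + 1 by omega, gen_two_mul_add_one]

/-- Matching systems are isomorphic. -/
theorem Match.exists_equiv (h : Match σ τ ⊤ ⊤) :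
    ∃ ψ : V ≃ₗ[F] V', (∀ x y, τ.B (ψ x) (ψ y) = σ.B x y) ∧ (∀ x, ψ (σ.T x) = τ.T (ψ x)) ∧
      (d = 0 → ∀ x, τ.Q (ψ x) = σ.Q x) := by
  classical
  obtain ⟨G, hG, hG', hB, hq⟩ := h
  let φ : (G × ℕ →₀ F) →ₗ[F] V := Finsupp.linearCombination F fun p => gen σ p.2 p.1.1.1
  let φ' : (G × ℕ →₀ F) →ₗ[F] V' := Finsupp.linearCombination F fun p => gen τ p.2 p.1.1.2
  have hφ : Function.Surjective φ := by
    rw [← LinearMap.range_eq_top, Finsupp.range_linearCombination, eq_top_iff, ← hG]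
    refine iSup₂_le fun p hp => Submodule.span_le.2 ?_
    rw [gens_eq_range]
    rintro _ ⟨N, rfl⟩
    exact Submodule.subset_span ⟨(⟨p, hp⟩, N), rfl⟩
  have hφ' : Function.Surjective φ' := by
    rw [← LinearMap.range_eq_top, Finsupp.range_linearCombination, eq_top_iff, ← hG']
    refine iSup₂_le fun p hp => Submodule.span_le.2 ?_
    rw [gens_eq_range]
    rintro _ ⟨N, rfl⟩
    exact Submodule.subset_span ⟨(⟨p, hp⟩, N), rfl⟩
  have hBB : ∀ a b, σ.B (φ a) (φ b) = τ.B (φ' a) (φ' b) := by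
    intro a
    induction a using Finsupp.induction_linear with
    | zero => simp
    | add a a' ha ha' => intro b; simp only [map_add, LinearMap.add_apply, ha, ha']
    | single p c =>
      intro b
      induction b using Finsupp.induction_linear with
      | zero => simp
      | add b b' hb hb' => simp only [map_add, hb, hb']
      | single p' c' =>
        simp only [φ, φ', Finsupp.linearCombination_single, map_smul, LinearMap.smul_apply, hB _ p.1.2 _ p'.1.2]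
  have hker : LinearMap.ker φ = LinearMap.ker φ' := by
    ext a
    simp only [LinearMap.mem_ker]
    refine ⟨fun ha => τ.hnd _ fun y => ?_, fun ha => σ.hnd _ fun y => ?_⟩
    · obtain ⟨b, rfl⟩ := hφ' y
      rw [← hBB, ha, map_zero, LinearMap.zero_apply]
    · obtain ⟨b, rfl⟩ := hφ y
      rw [hBB, ha, map_zero, LinearMap.zero_apply]
  let ψ : V ≃ₗ[F] V' := ((φ.quotKerEquivOfSurjective hφ).symm.trans (Submodule.quotEquivOfEq _ _ hker)).trans
    (φ'.quotKerEquivOfSurjective hφ')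
  have hψ : ∀ a, ψ (φ a) = φ' a := fun a => by
    have e : (φ.quotKerEquivOfSurjective hφ).symm (φ a) = Submodule.Quotient.mk a :=
      (LinearEquiv.symm_apply_eq _).2 rfl
    simp only [ψ, LinearEquiv.trans_apply, e, Submodule.quotEquivOfEq_mk]
    rfl
  refine ⟨ψ, fun x y => ?_, fun x => ?_, fun h0 x => ?_⟩
  · obtain ⟨a, rfl⟩ := hφ x
    obtain ⟨b, rfl⟩ := hφ y
    rw [hψ, hψ, hBB]
  · obtain ⟨a, rfl⟩ := hφ x
    rw [hψ]
    induction a using Finsupp.induction_linear with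
    | zero => simp
    | add a a' ha ha' => simp only [map_add, ha, ha']
    | single p c =>
      have hg : ∀ N, ψ (gen σ N p.1.1.1) = gen τ N p.1.1.2 := fun N => by
        simpa [φ, φ', Finsupp.linearCombination_single] using hψ (Finsupp.single (p.1, N) 1)
      simp only [φ, φ', Finsupp.linearCombination_single, map_smul, T_gen]
      split
      · rw [hg]
      · rw [map_add, hg, hg]
  · subst h0
    obtain ⟨a, rfl⟩ := hφ x
    rw [hψ]
    induction a using Finsupp.induction_linear with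
    | zero => rw [map_zero, map_zero]; exact (q_zero τ (le_refl 0)).trans (q_zero σ (le_refl 0)).symm
    | add a a' ha ha' => rw [map_add, map_add, σ.hQadd rfl, τ.hQadd rfl, ha, ha', hBB]
    | single p c =>
      simp only [φ, φ', Finsupp.linearCombination_single, σ.hQsmul rfl, τ.hQsmul rfl]
      show c ^ 2 * τ.q 0 (gen τ p.2 p.1.1.2) = c ^ 2 * σ.q 0 (gen σ p.2 p.1.1.1)
      rw [q_gen (le_refl 0), q_gen (le_refl 0), hq _ p.1.2 _ (Nat.zero_le _)]

/-- The list of pieces determines the isometry up to isomorphism. -/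
theorem exists_equiv_of_dec (hd : d ≤ 1) {L : List Kind} (h : Dec σ α L ⊤) (h' : Dec τ α L ⊤) :
    ∃ ψ : V ≃ₗ[F] V', (∀ x y, τ.B (ψ x) (ψ y) = σ.B x y) ∧ (∀ x, ψ (σ.T x) = τ.T (ψ x)) ∧
      (d = 0 → ∀ x, τ.Q (ψ x) = σ.Q x) :=
  (h.match_ hd h').exists_equiv

end Cfsg.Agent.UnipTwo
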