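/-
Non-degenerate alternating spaces in characteristic two, possibly with a quadratic form, and their
classification by the sign of the Gauss sum.
-/
import Cfsg.Agent.Lib.UnipTwo.Iso
import Cfsg.Agent.Lib.UnipTwo.Gauss

set_option autoImplicit false
set_option linter.unusedSectionVars false

namespace Cfsg.Agent.UnipTwo

variable (F : Type*) [Field F] [CharP F 2] [Finite F] (V : Type*) [AddCommGroup V] [Module F V]

/-- A non-degenerate alternating form, with a quadratic form polarising to it when `d = 0`. -/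
structure Space (d : ℕ) where
  B : LinearMap.BilinForm F V
  halt : ∀ x, B x x = 0
  hnd : ∀ x, (∀ y, B x y = 0) → x = 0
  Q : V → F
  hQadd : d = 0 → ∀ x y, Q (x + y) = Q x + Q y + B x y
  hQsmul : d = 0 → ∀ (c : F) x, Q (c • x) = c ^ 2 * Q x

variable {F V} {d : ℕ}

namespace Space

theorem Q_zero (Φ : Space F V d) (h : d = 0) : Φ.Q 0 = 0 := by
  simpa using Φ.hQsmul h 0 0

/-- The isometries of a space. -/
def grp (Φ : Space F V d) : Subgroup (V ≃ₗ[F] V) where
  carrier := {g | (∀ x y, Φ.B (g x) (g y) = Φ.B x y) ∧ (d = 0 → ∀ x, Φ.Q (g x) = Φ.Q x)}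
  mul_mem' := fun {g h} hg hh => ⟨fun x y => (hg.1 (h x) (h y)).trans (hh.1 x y),
    fun hd x => (hg.2 hd (h x)).trans (hh.2 hd x)⟩
  one_mem' := ⟨fun _ _ => rfl, fun _ _ => rfl⟩
  inv_mem' := fun {g} hg => by
    refine ⟨fun x y => ?_, fun hd x => ?_⟩
    · show Φ.B (g.symm x) (g.symm y) = Φ.B x y
      rw [← hg.1 (g.symm x) (g.symm y), g.apply_symm_apply, g.apply_symm_apply]
    · show Φ.Q (g.symm x) = Φ.Q x
      rw [← hg.2 hd (g.symm x), g.apply_symm_apply]

theorem mem_grp {Φ : Space F V d} {g : V ≃ₗ[F] V} :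
    g ∈ Φ.grp ↔ (∀ x y, Φ.B (g x) (g y) = Φ.B x y) ∧ (d = 0 → ∀ x, Φ.Q (g x) = Φ.Q x) := Iff.rfl

/-- The trivial isometry as a unipotent system. -/
def triv (Φ : Space F V d) : Sys F V d where
  B := Φ.B
  halt := Φ.halt
  hnd := Φ.hnd
  T := 0
  S := 0
  hTT := by rw [zero_mul, zero_mul]
  hST := Commute.refl 0
  hadj := fun x y => by simp
  hSalt := fun x => by simp
  hnil := ⟨1, pow_one 0⟩
  Q := Φ.Q
  hQadd := Φ.hQadd
  hQsmul := Φ.hQsmul
  hQT := fun h x => by simp [Φ.Q_zero h]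

end Space

/-- The sum of the character over the values of a function. -/
noncomputable def qsum {W : Type*} (Q : W → F) : ℤ := ∑ᶠ x : W, chi (Q x)

theorem qsum_congr {W W' : Type*} (e : W ≃ W') {Q : W → F} {Q' : W' → F} (h : ∀ x, Q' (e x) = Q x) :
    qsum Q' = qsum Q := by
  rw [qsum, qsum, ← finsum_comp_equiv e]
  exact finsum_congr fun x => by rw [h]

theorem gsum_top [FiniteDimensional F V] (σ : Sys F V 0) : gsum σ ⊤ = qsum σ.Q :=
  qsum_congr Submodule.topEquiv.toEquiv.symm fun _ => rfl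

theorem qsum_prod {W W' : Type*} [Finite W] [Finite W'] (Q : W → F) (Q' : W' → F) :
    qsum (fun p : W × W' => Q p.1 + Q' p.2) = qsum Q * qsum Q' := by
  classical
  letI := Fintype.ofFinite W
  letI := Fintype.ofFinite W'
  simp only [qsum, finsum_eq_sum_of_fintype, chi_add]
  rw [Fintype.sum_mul_sum, Fintype.sum_prod_type]

variable [FiniteDimensional F V] {α : F}

theorem gen_triv {Φ : Space F V d} {K : Kind} {P : Submodule F V} (h : Real Φ.triv α K P) :
    ∃ b, K = .Wo 0 b := by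
  have hpow : ∀ a x, 1 ≤ a → (Φ.triv.S ^ a) x = 0 := fun a x ha => by
    rw [show Φ.triv.S = 0 from rfl, zero_pow (by omega), LinearMap.zero_apply]
  cases K with
  | V k b =>
    obtain ⟨v, hv, -⟩ := h
    exfalso
    have := hv.top
    obtain ⟨j, rfl⟩ : ∃ j, k = j + 1 := ⟨k - 1, by have := hv.one_le; omega⟩
    rw [q_succ Φ.triv, show Φ.triv.T = 0 from rfl, LinearMap.zero_apply, map_zero, LinearMap.zero_apply] at this
    exact zero_ne_one this
  | Wo k b =>
    obtain ⟨v, w, hv, -⟩ := h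
    refine ⟨b, ?_⟩
    rcases Nat.eq_zero_or_pos k with rfl | hk
    · rfl
    · have := hv.pS k
      rw [hpow k v hk, map_zero, LinearMap.zero_apply, if_pos rfl] at this
      exact absurd this zero_ne_one
  | We k =>
    obtain ⟨v, w, hv, -⟩ := h
    exfalso
    have := hv.pT (k - 1)
    rw [show Φ.triv.T = 0 from rfl, LinearMap.zero_apply, map_zero, LinearMap.zero_apply,
      if_pos (by have := hv.one_le; omega)] at this
    exact zero_ne_one this

theorem exists_nf_triv (Φ : Space F V d) (hd : d ≤ 1) (hα : ∀ x : F, x ^ 2 + x ≠ α) :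
    ∃ L, Dec Φ.triv α L ⊤ ∧ NF L ∧ (L.map Kind.size).sum = Module.finrank F V ∧
      ∀ K ∈ L, ∃ b, K = .Wo 0 b := by
  obtain ⟨L, hL, hnf, hsum⟩ := exists_nf (σ := Φ.triv) hd hα
  refine ⟨L, hL, hnf, hsum, ?_⟩
  have main : ∀ {L : List Kind} {W : Submodule F V}, Dec Φ.triv α L W → ∀ K ∈ L, ∃ b, K = .Wo 0 b := by
    intro L
    induction L with
    | nil => intro W _ K hK; exact absurd hK List.not_mem_nil
    | cons K L ih =>
      rintro W ⟨P, R, hP, -, -, hR⟩ K' hK'
      rcases List.mem_cons.1 hK' with rfl | h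
      · exact gen_triv hP
      · exact ih hR _ h
  exact main hL

/-- The Gauss sum of a quadratic space does not vanish. -/
theorem Space.qsum_ne_zero (Φ : Space F V 0) : qsum Φ.Q ≠ 0 := by
  obtain ⟨α, hα⟩ := exists_nonAS (F := F)
  obtain ⟨L, hL, -⟩ := exists_nf_triv Φ (Nat.zero_le 1) hα
  intro h0
  have := hL.gsum_sign hα
  rw [gsum_top, show Φ.triv.Q = Φ.Q from rfl, h0, mul_zero] at this
  exact lt_irrefl 0 this

theorem parity_eq_of_sign {a b : ℕ} {A B : ℤ} (ha : 0 < (-1) ^ a * A) (hb : 0 < (-1) ^ b * B) (h : 0 < A * B) :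
    a % 2 = b % 2 := by
  rcases Nat.even_or_odd a with ea | ea <;> rcases Nat.even_or_odd b with eb | eb <;>
    rw [ea.neg_one_pow] at ha <;> rw [eb.neg_one_pow] at hb
  · rw [Nat.even_iff.1 ea, Nat.even_iff.1 eb]
  · nlinarith
  · nlinarith
  · rw [Nat.odd_iff.1 ea, Nat.odd_iff.1 eb]

/-- Spaces of equal dimension and sign are isometric. -/
theorem Space.exists_isometry {V' : Type*} [AddCommGroup V'] [Module F V'] [FiniteDimensional F V']
    (hd : d ≤ 1) (Φ : Space F V d) (Ψ : Space F V' d) (hdim : Module.finrank F V = Module.finrank F V')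
    (hsign : d = 0 → 0 < qsum Φ.Q * qsum Ψ.Q) :
    ∃ ψ : V ≃ₗ[F] V', (∀ x y, Ψ.B (ψ x) (ψ y) = Φ.B x y) ∧ (d = 0 → ∀ x, Ψ.Q (ψ x) = Φ.Q x) := by
  classical
  obtain ⟨α, hα⟩ := exists_nonAS (F := F)
  obtain ⟨L, hL, hnf, hsum, hW⟩ := exists_nf_triv Φ hd hα
  obtain ⟨L', hL', hnf', hsum', hW'⟩ := exists_nf_triv Ψ hd hα
  have hsz : ∀ {L : List Kind}, (∀ K ∈ L, ∃ b, K = Kind.Wo 0 b) →
      (L.map Kind.size).sum = 2 * L.length ∧ L.count (.Wo 0 true) = L.countP Kind.bit ∧
      L.count (.Wo 0 false) + L.count (.Wo 0 true) = L.length ∧ ∀ K, (∀ b, K ≠ Kind.Wo 0 b) → L.count K = 0 := by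
    intro L
    induction L with
    | nil => simp
    | cons K L ih =>
      intro h
      obtain ⟨h1, h2, h3, h4⟩ := ih fun K' hK' => h K' (List.mem_cons_of_mem _ hK')
      obtain ⟨b, rfl⟩ := h K List.mem_cons_self
      refine ⟨?_, ?_, ?_, fun K' hK' => ?_⟩
      · rw [List.map_cons, List.sum_cons, h1, List.length_cons]; simp [Kind.size]; ring
      · cases b <;> simp [List.count_cons, List.countP_cons, Kind.bit, h2]
      · cases b <;> simp [List.count_cons] <;> omega
      · rw [List.count_cons, h4 K' hK', if_neg]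
        simpa using (hK' b).symm
  obtain ⟨a1, a2, a3, a4⟩ := hsz hW
  obtain ⟨b1, b2, b3, b4⟩ := hsz hW'
  have hb1 := hnf.wbit 0
  have hb2 := hnf'.wbit 0
  have hbit : L.count (.Wo 0 true) = L'.count (.Wo 0 true) := by
    by_cases h0 : d = 0
    · subst h0
      have e1 := hL.gsum_sign hα
      have e2 := hL'.gsum_sign hα
      rw [gsum_top] at e1 e2
      have := parity_eq_of_sign e1 e2 (hsign rfl)
      omega
    · have hno : ∀ {U : Type _} [AddCommGroup U] [Module F U] (_ : FiniteDimensional F U) {σ : Sys F U d}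
          {L : List Kind}, Dec σ α L ⊤ → L.count (.Wo 0 true) = 0 := by
        intro U _ _ _ σ L h
        refine List.count_eq_zero.2 fun hmem => h0 (Nat.le_zero.1 ?_)
        exact h.ok _ hmem rfl
      have c1 := hno inferInstance hL
      have c2 : L'.count (.Wo 0 true) = 0 := List.count_eq_zero.2 fun hmem => h0 (Nat.le_zero.1 (hL'.ok _ hmem rfl))
      omega
  have hperm : L.Perm L' := List.perm_iff_count.2 fun K => by
    by_cases hK : ∃ b, K = Kind.Wo 0 b
    · obtain ⟨b, rfl⟩ := hK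
      cases b <;> omega
    · push Not at hK
      rw [a4 K hK, b4 K hK]
  obtain ⟨ψ, h1, -, h3⟩ := exists_equiv_of_dec hd (hL.perm hperm) hL'
  exact ⟨ψ, h1, h3⟩

end Cfsg.Agent.UnipTwo
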