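/-
Isometries in characteristic two with prescribed characteristic polynomial of `g + g⁻¹`, and the lower bounds
for the class numbers.
-/
import Cfsg.Agent.Lib.UnipTwo.Space

set_option autoImplicit false
set_option linter.unusedSectionVars false

open Polynomial

namespace Cfsg.Agent.UnipTwo

universe u

variable {F : Type u} [Field F] [CharP F 2] [Finite F]

/-! ### Even and odd parts of a polynomial -/

theorem exists_halves (g : F[X]) : ∃ a b : F[X], g = a ^ 2 + X * b ^ 2 := by
  induction g using Polynomial.induction_on' with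
  | add p q hp hq =>
    obtain ⟨a, b, rfl⟩ := hp
    obtain ⟨a', b', rfl⟩ := hq
    exact ⟨a + a', b + b', by linear_combination -(a * a' + X * b * b') * CharTwo.two_eq_zero (R := F[X])⟩
  | monomial i c =>
    obtain ⟨r, hr⟩ := exists_sqrt c
    obtain ⟨j, rfl | rfl⟩ : ∃ j, i = 2 * j ∨ i = 2 * j + 1 := ⟨i / 2, by omega⟩
    · exact ⟨C r * X ^ j, 0, by rw [← C_mul_X_pow_eq_monomial, ← hr, C_pow]; ring⟩
    · exact ⟨0, C r * X ^ j, by rw [← C_mul_X_pow_eq_monomial, ← hr, C_pow]; ring⟩

theorem coeff_halves (a b : F[X]) (i : ℕ) :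
    (a ^ 2 + X * b ^ 2).coeff (2 * i) = a.coeff i ^ 2 ∧ (a ^ 2 + X * b ^ 2).coeff (2 * i + 1) = b.coeff i ^ 2 := by
  have h : ∀ (f : F[X]) (m : ℕ), (f ^ 2).coeff m = if 2 ∣ m then f.coeff (m / 2) ^ 2 else 0 := fun f m => by
    rw [← map_frobenius_expand 2 f, coeff_map, coeff_expand (by norm_num : 0 < 2)]
    split <;> simp [frobenius_def]
  constructor
  · rw [coeff_add, h, if_pos ⟨i, rfl⟩, Nat.mul_div_cancel_left i (by norm_num)]
    rcases i with _ | i
    · simp
    · rw [show 2 * (i + 1) = 2 * i + 1 + 1 by omega, coeff_X_mul, h, if_neg (by omega), add_zero]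
  · rw [coeff_add, coeff_X_mul, h, if_neg (by omega), zero_add, h, if_pos ⟨i, rfl⟩,
      Nat.mul_div_cancel_left i (by norm_num)]

theorem halves_unique {a b a' b' : F[X]} (h : a ^ 2 + X * b ^ 2 = a' ^ 2 + X * b' ^ 2) : a = a' ∧ b = b' := by
  constructor <;> refine Polynomial.ext fun i => CharTwo.sq_injective ?_ <;> simp only
  · rw [← (coeff_halves a b i).1, h, (coeff_halves a' b' i).1]
  · rw [← (coeff_halves a b i).2, h, (coeff_halves a' b' i).2]

theorem halves_degree {g a b : F[X]} (h : g = a ^ 2 + X * b ^ 2) {N : ℕ} (hg : ∀ m, N < m → g.coeff m = 0) :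
    (∀ i, N < 2 * i → a.coeff i = 0) ∧ (∀ i, N < 2 * i + 1 → b.coeff i = 0) := by
  subst h
  constructor <;> intro i hi
  · exact pow_eq_zero_iff two_ne_zero |>.1 ((coeff_halves a b i).1.symm.trans (hg _ hi))
  · exact pow_eq_zero_iff two_ne_zero |>.1 ((coeff_halves a b i).2.symm.trans (hg _ hi))

/-- The top coefficient of a product. -/
theorem coeff_mul_top {a b : F[X]} {i j : ℕ} (ha : ∀ m, i < m → a.coeff m = 0) (hb : ∀ m, j < m → b.coeff m = 0)
    {N : ℕ} (hN : i + j ≤ N) : (a * b).coeff N = if N = i + j then a.coeff i * b.coeff j else 0 := by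
  rw [coeff_mul]
  split
  · subst_vars
    refine (Finset.sum_eq_single (i, j) (fun p hp hne => ?_) (fun h => absurd (Finset.HasAntidiagonal.mem_antidiagonal.2 (show (i, j).1 + (i, j).2 = i + j from rfl)) h))
    rw [Finset.HasAntidiagonal.mem_antidiagonal] at hp
    rcases lt_trichotomy p.1 i with h1 | h1 | h1
    · rw [hb p.2 (by omega), mul_zero]
    · exact absurd (Prod.ext h1 (by omega : p.2 = j)) hne
    · rw [ha p.1 h1, zero_mul]
  · refine Finset.sum_eq_zero fun p hp => ?_
    rw [Finset.HasAntidiagonal.mem_antidiagonal] at hp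
    rcases le_or_gt p.1 i with h1 | h1
    · rw [hb p.2 (by omega), mul_zero]
    · rw [ha p.1 h1, zero_mul]

/-! ### The top coefficient functional on `F[X] ⧸ (h)` -/

section Algebra

variable {h : F[X]} (hm : h.Monic)

/-- The coefficient of `X ^ (n - 1)`. -/
noncomputable def top : AdjoinRoot h →ₗ[F] F :=
  (lcoeff F (h.natDegree - 1)).comp (AdjoinRoot.modByMonicHom hm)

include hm in
theorem top_mk (f : F[X]) : top hm (AdjoinRoot.mk h f) = (f %ₘ h).coeff (h.natDegree - 1) := by
  simp [top]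

theorem top_mk_small {f : F[X]} (hf : ∀ m, h.natDegree ≤ m → f.coeff m = 0) :
    top hm (AdjoinRoot.mk h f) = f.coeff (h.natDegree - 1) := by
  rw [top_mk hm, (modByMonic_eq_self_iff hm).2]
  rw [degree_eq_natDegree hm.ne_zero]
  exact (degree_lt_iff_coeff_zero f _).2 fun m hm' => hf m (by exact_mod_cast hm')

include hm in
theorem exists_sqrt_X (hpos : 0 < h.natDegree) :
    ∃ A B : F[X], h = A ^ 2 + X * B ^ 2 ∧
      ∀ x : AdjoinRoot h, top hm (AdjoinRoot.root h * x ^ 2) = top hm (AdjoinRoot.mk h A * x) ^ 2 := by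
  obtain ⟨A, B, hAB⟩ := exists_halves h
  refine ⟨A, B, hAB, fun x => ?_⟩
  obtain ⟨f, rfl⟩ := AdjoinRoot.mk_surjective x
  rw [← AdjoinRoot.mk_X, ← map_pow, ← map_mul, ← map_mul, top_mk hm]
  set s := (X * f ^ 2) %ₘ h with hs
  set t := (X * f ^ 2) /ₘ h
  obtain ⟨s0, s1, hs01⟩ := exists_halves s
  obtain ⟨t0, t1, ht01⟩ := exists_halves t
  have hdiv : s + h * t = X * f ^ 2 := modByMonic_add_div _ h
  obtain ⟨e0, e1⟩ := halves_unique (a := s0 + t0 * A + X * t1 * B) (b := s1 + t0 * B + t1 * A) (a' := 0) (b' := f) (by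
    rw [zero_pow two_ne_zero, zero_add, ← hdiv, hs01, ht01, hAB]
    linear_combination (s0 * (t0 * A) + s0 * (X * t1 * B) + t0 * A * (X * t1 * B) + X * (s1 * (t0 * B)) +
      X * (s1 * (t1 * A)) + X * (t0 * B * (t1 * A))) * CharTwo.two_eq_zero (R := F[X]))
  have hkey : AdjoinRoot.mk h (A * f) = AdjoinRoot.mk h (A * s1 + B * s0) := by
    rw [AdjoinRoot.mk_eq_mk]
    refine ⟨t1, ?_⟩
    rw [← e1, hAB]
    linear_combination (B * e0) + (-(B * s0) - X * t1 * B ^ 2) * CharTwo.two_eq_zero (R := F[X])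
  rw [hkey]
  have hsdeg : ∀ m, h.natDegree - 1 < m → s.coeff m = 0 := fun m hm' => by
    refine (degree_lt_iff_coeff_zero s h.natDegree).1 ?_ m (by omega)
    rw [← degree_eq_natDegree hm.ne_zero]
    exact degree_modByMonic_lt _ hm
  have hhdeg : ∀ m, h.natDegree < m → h.coeff m = 0 := fun m hm' => coeff_eq_zero_of_natDegree_lt hm'
  obtain ⟨hs0, hs1⟩ := halves_degree hs01 hsdeg
  obtain ⟨hA, hB⟩ := halves_degree hAB hhdeg
  have hone := hm.coeff_natDegree
  obtain ⟨i, hi | hi⟩ : ∃ i, h.natDegree = 2 * i + 1 ∨ h.natDegree = 2 * i + 2 := ⟨(h.natDegree - 1) / 2, by omega⟩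
  · have hBi : B.coeff i = 1 := CharTwo.sq_injective (by
      simp only
      rw [← (coeff_halves A B i).2, ← hAB, ← hi, hone, one_pow])
    have h1 : ∀ m, 2 * i < m → (A * s1 + B * s0).coeff m = 0 := fun m hm' => by
      rw [coeff_add, coeff_mul_top (i := i) (j := i) (fun m hm'' => hA m (by omega)) (fun m hm'' => hs1 m (by omega))
        (by omega), if_neg (by omega), coeff_mul_top (i := i) (j := i) (fun m hm'' => hB m (by omega))
        (fun m hm'' => hs0 m (by omega)) (by omega), if_neg (by omega), add_zero]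
    rw [top_mk_small hm (fun m hm' => h1 m (by omega)), show h.natDegree - 1 = 2 * i by omega, coeff_add,
      coeff_mul_top (i := i) (j := i) (fun m hm'' => hA m (by omega)) (fun m hm'' => hs1 m (by omega)) (by omega),
      if_pos (by omega), coeff_mul_top (i := i) (j := i) (fun m hm'' => hB m (by omega))
      (fun m hm'' => hs0 m (by omega)) (by omega), if_pos (by omega), hs1 i (by omega), hBi, mul_zero, zero_add,
      one_mul, hs01, (coeff_halves s0 s1 i).1]
  · have hAi : A.coeff (i + 1) = 1 := CharTwo.sq_injective (by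
      simp only
      rw [← (coeff_halves A B (i + 1)).1, ← hAB, show 2 * (i + 1) = h.natDegree by omega, hone, one_pow])
    have h1 : ∀ m, 2 * i + 1 < m → (A * s1 + B * s0).coeff m = 0 := fun m hm' => by
      rw [coeff_add, coeff_mul_top (i := i + 1) (j := i) (fun m hm'' => hA m (by omega))
        (fun m hm'' => hs1 m (by omega)) (by omega), if_neg (by omega), coeff_mul_top (i := i) (j := i)
        (fun m hm'' => hB m (by omega)) (fun m hm'' => hs0 m (by omega)) (by omega), if_neg (by omega), add_zero]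
    rw [top_mk_small hm (fun m hm' => h1 m (by omega)), show h.natDegree - 1 = 2 * i + 1 by omega, coeff_add,
      coeff_mul_top (i := i + 1) (j := i) (fun m hm'' => hA m (by omega)) (fun m hm'' => hs1 m (by omega))
      (by omega), if_pos (by omega), coeff_mul_top (i := i) (j := i) (fun m hm'' => hB m (by omega))
      (fun m hm'' => hs0 m (by omega)) (by omega), if_neg (by omega), add_zero, hAi, one_mul, hs01,
      (coeff_halves s0 s1 i).2]

include hm in
theorem top_nondeg (x : AdjoinRoot h) (hx : ∀ y, top hm (x * y) = 0) : x = 0 := by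
  obtain ⟨f, rfl⟩ := AdjoinRoot.mk_surjective x
  have hr : AdjoinRoot.mk h f = AdjoinRoot.mk h (f %ₘ h) := AdjoinRoot.mk_eq_mk.2
    ⟨f /ₘ h, by linear_combination -(modByMonic_add_div f h)⟩
  rw [hr] at hx ⊢
  generalize hg : f %ₘ h = g at hx ⊢
  by_cases hg0 : g = 0
  · rw [hg0, map_zero]
  exfalso
  have hdeg : g.natDegree < h.natDegree := by
    rw [natDegree_lt_iff_degree_lt hg0, ← degree_eq_natDegree hm.ne_zero, ← hg]
    exact degree_modByMonic_lt _ hm
  have h1 := hx (AdjoinRoot.mk h (X ^ (h.natDegree - 1 - g.natDegree)))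
  rw [← map_mul, top_mk_small hm (fun m hm' => by
      rw [coeff_mul_X_pow', if_pos (by omega)]
      exact coeff_eq_zero_of_natDegree_lt (by omega)), coeff_mul_X_pow', if_pos (by omega),
    show h.natDegree - 1 - (h.natDegree - 1 - g.natDegree) = g.natDegree by omega] at h1
  exact hg0 (leadingCoeff_eq_zero.1 h1)

/-- The inverse of the root. -/
noncomputable def rootInv (h : F[X]) : AdjoinRoot h := AdjoinRoot.mk h (C (h.coeff 0)⁻¹ * h.divX)

theorem root_mul_rootInv (h0 : h.coeff 0 ≠ 0) : AdjoinRoot.root h * rootInv h = 1 := by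
  rw [← AdjoinRoot.mk_X, rootInv, ← map_mul, ← map_one (AdjoinRoot.mk h), AdjoinRoot.mk_eq_mk]
  refine ⟨C (h.coeff 0)⁻¹, ?_⟩
  have e := X_mul_divX_add h
  have e' : C (h.coeff 0)⁻¹ * C (h.coeff 0) = 1 := by rw [← C_mul, inv_mul_cancel₀ h0, C_1]
  linear_combination C (h.coeff 0)⁻¹ * e - e' - CharTwo.two_eq_zero (R := F[X])

include hm in
theorem top_derivative_rootInv (hpos : 0 < h.natDegree) (h0 : h.coeff 0 ≠ 0) :
    top hm (AdjoinRoot.mk h (derivative h) * rootInv h) = h.coeff 1 / h.coeff 0 := by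
  have e : derivative h = X * (derivative h).divX + C (h.coeff 1) := by
    conv_lhs => rw [← X_mul_divX_add (derivative h)]
    rw [coeff_derivative]
    simp
  rw [e, map_add, add_mul, map_mul, AdjoinRoot.mk_X,
    show AdjoinRoot.root h * AdjoinRoot.mk h (derivative h).divX * rootInv h =
      AdjoinRoot.mk h (derivative h).divX * (AdjoinRoot.root h * rootInv h) by ring,
    root_mul_rootInv h0, mul_one, map_add, rootInv, ← map_mul,
    show C (h.coeff 1) * (C (h.coeff 0)⁻¹ * h.divX) = C (h.coeff 1 / h.coeff 0) * h.divX by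
      rw [div_eq_mul_inv, C_mul]; ring]
  have hD : ∀ m, h.natDegree - 1 ≤ m → (derivative h).divX.coeff m = 0 := fun m hm' => by
    rw [coeff_divX, coeff_derivative]
    simp [coeff_eq_zero_of_natDegree_lt (show h.natDegree < m + 1 + 1 by omega)]
  rw [top_mk_small hm (fun m hm' => hD m (by omega)), top_mk_small hm (fun m hm' => by
      rw [coeff_C_mul, coeff_divX, coeff_eq_zero_of_natDegree_lt (show h.natDegree < m + 1 by omega), mul_zero]),
    hD _ le_rfl, zero_add, coeff_C_mul, coeff_divX, Nat.sub_add_cancel hpos, hm.coeff_natDegree, mul_one]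

end Algebra

/-! ### The pair spaces -/

section Pair

variable {h : F[X]} (hm : h.Monic) (d : ℕ)

/-- The space on two copies of `F[X] ⧸ (h)`. -/
noncomputable def pairSpace (u u' : AdjoinRoot h) : Space F (AdjoinRoot h × AdjoinRoot h) d where
  B := LinearMap.mk₂ F (fun p p' => top hm (p.1 * p'.2 + p.2 * p'.1))
    (fun a b c => by rw [← map_add]; congr 1; simp only [Prod.fst_add, Prod.snd_add]; ring)
    (fun r a c => by rw [← map_smul]; congr 1; simp only [Prod.smul_fst, Prod.smul_snd, smul_mul_assoc, mul_smul_comm, smul_add])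
    (fun a b c => by rw [← map_add]; congr 1; simp only [Prod.fst_add, Prod.snd_add]; ring)
    (fun r a c => by rw [← map_smul]; congr 1; simp only [Prod.smul_fst, Prod.smul_snd, smul_mul_assoc, mul_smul_comm, smul_add])
  halt := fun p => by
    show top hm (p.1 * p.2 + p.2 * p.1) = 0
    rw [mul_comm p.2, two_zero F, map_zero]
  hnd := fun p hp => by
    refine Prod.ext (top_nondeg hm _ fun y => ?_) (top_nondeg hm _ fun y => ?_)
    · have e := hp (0, y)
      simpa using e
    · have e := hp (y, 0)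
      simpa using e
  Q := fun p => top hm (u * p.1) ^ 2 + top hm (u' * p.2) ^ 2 + top hm (p.1 * p.2)
  hQadd := fun _ p p' => by
    show _ = _ + _ + top hm (p.1 * p'.2 + p.2 * p'.1)
    simp only [Prod.fst_add, Prod.snd_add, mul_add, add_mul, map_add, mul_comm p.2 p'.1]
    linear_combination (top hm (u * p.1) * top hm (u * p'.1) + top hm (u' * p.2) * top hm (u' * p'.2)) *
      CharTwo.two_eq_zero (R := F)
  hQsmul := fun _ c p => by
    simp only [Prod.smul_fst, Prod.smul_snd, mul_smul_comm, smul_mul_assoc, smul_smul, map_smul, smul_eq_mul]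
    ring

theorem qsum_pairSpace (u u' : AdjoinRoot h) :
    0 < qsum (pairSpace hm d u u').Q * chi (top hm (u * u')) := by
  classical
  haveI := Module.Finite.of_basis (AdjoinRoot.powerBasis' hm).basis
  haveI : Finite (AdjoinRoot h) := Module.finite_of_finite F
  letI := Fintype.ofFinite (AdjoinRoot h)
  letI := Fintype.ofFinite F
  obtain ⟨α, hα⟩ := exists_nonAS (F := F)
  have hinner : ∀ y, ∑ x, chi (top hm ((u + y) * x)) = if y = u then (Fintype.card (AdjoinRoot h) : ℤ) else 0 := by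
    intro y
    split
    · subst_vars
      simp [two_zero F, chi_zero]
    · rename_i hy
      obtain ⟨z, hz⟩ : ∃ z, top hm ((u + y) * z) ≠ 0 := by
        by_contra hcon
        push Not at hcon
        have := top_nondeg hm _ hcon
        refine hy ?_
        calc y = y + (u + u) := by rw [two_zero F, add_zero]
          _ = (u + y) + u := by abel
          _ = u := by rw [this, zero_add]
      refine sum_chi_additive hα (g₀ := (α / top hm ((u + y) * z)) • z) fun x => ?_
      rw [mul_add, map_add, mul_smul_comm, map_smul, smul_eq_mul, div_mul_cancel₀ _ hz]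
  have key : qsum (pairSpace hm d u u').Q = Fintype.card (AdjoinRoot h) * chi (top hm (u * u')) := by
    rw [qsum, finsum_eq_sum_of_fintype, Fintype.sum_prod_type, Finset.sum_comm]
    have e : ∀ x y, chi ((pairSpace hm d u u').Q (x, y)) = chi (top hm (u' * y)) * chi (top hm ((u + y) * x)) := by
      intro x y
      show chi (top hm (u * x) ^ 2 + top hm (u' * y) ^ 2 + top hm (x * y)) = _
      rw [chi_add, chi_add, chi_sq_self, chi_sq_self, add_mul, map_add, chi_add, mul_comm y x]
      ring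
    simp only [e, ← Finset.mul_sum, hinner]
    rw [Finset.sum_eq_single u (fun y _ hy => by rw [if_neg hy, mul_zero]) (fun h' => absurd (Finset.mem_univ _) h'),
      if_pos rfl, mul_comm u' u, mul_comm]
  have h1 : chi (top hm (u * u')) * chi (top hm (u * u')) = 1 := by
    rw [← chi_add, CharTwo.add_self_eq_zero, chi_zero]
  rw [key, mul_assoc, h1, mul_one]
  exact_mod_cast Fintype.card_pos

/-- The companion isometry. -/
noncomputable def compEquiv (h : F[X]) : (AdjoinRoot h × AdjoinRoot h) ≃ₗ[F] (AdjoinRoot h × AdjoinRoot h) where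
  toFun p := (AdjoinRoot.root h * p.1 + p.2, p.1)
  invFun p := (p.2, p.1 + AdjoinRoot.root h * p.2)
  map_add' p p' := by simp only [Prod.fst_add, Prod.snd_add, Prod.mk_add_mk]; ext <;> ring
  map_smul' c p := by
    simp only [Prod.smul_fst, Prod.smul_snd, RingHom.id_apply, Prod.smul_mk, smul_add, mul_smul_comm]
  left_inv p := by
    refine Prod.ext rfl ?_
    show AdjoinRoot.root h * p.1 + p.2 + AdjoinRoot.root h * p.1 = p.2
    rw [add_right_comm, two_zero F, zero_add]
  right_inv p := by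
    refine Prod.ext ?_ rfl
    show AdjoinRoot.root h * p.2 + (p.1 + AdjoinRoot.root h * p.2) = p.1
    rw [add_left_comm, two_zero F, add_zero]

theorem compEquiv_charpoly :
    (haveI := Module.Finite.of_basis (AdjoinRoot.powerBasis' hm).basis
     haveI := Module.Free.of_basis (AdjoinRoot.powerBasis' hm).basis
     ((compEquiv h : Module.End F (AdjoinRoot h × AdjoinRoot h)) +
      ((compEquiv h).symm : Module.End F (AdjoinRoot h × AdjoinRoot h))).charpoly) = h * h := by
  haveI := Module.Finite.of_basis (AdjoinRoot.powerBasis' hm).basis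
  haveI := Module.Free.of_basis (AdjoinRoot.powerBasis' hm).basis
  have e : ((compEquiv h : Module.End F (AdjoinRoot h × AdjoinRoot h)) +
      ((compEquiv h).symm : Module.End F (AdjoinRoot h × AdjoinRoot h))) =
      (LinearMap.mulLeft F (AdjoinRoot.root h)).prodMap (LinearMap.mulLeft F (AdjoinRoot.root h)) := by
    refine LinearMap.ext fun p => ?_
    show (AdjoinRoot.root h * p.1 + p.2, p.1) + (p.2, p.1 + AdjoinRoot.root h * p.2) =
      (AdjoinRoot.root h * p.1, AdjoinRoot.root h * p.2)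
    rw [Prod.mk_add_mk, add_assoc, two_zero F, add_zero, ← add_assoc, two_zero F, zero_add]
  rw [e, LinearMap.charpoly_prodMap]
  have e1 : (LinearMap.mulLeft F (AdjoinRoot.root h)).charpoly = h := by
    rw [← LinearMap.charpoly_toMatrix _ (AdjoinRoot.powerBasis' hm).basis]
    have h1 : Algebra.leftMulMatrix (AdjoinRoot.powerBasis' hm).basis (AdjoinRoot.powerBasis' hm).gen =
        LinearMap.toMatrix (AdjoinRoot.powerBasis' hm).basis (AdjoinRoot.powerBasis' hm).basis
          (LinearMap.mulLeft F (AdjoinRoot.root h)) := by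
      rw [Algebra.leftMulMatrix_apply]
      rfl
    rw [← h1]
    exact (charpoly_leftMulMatrix _).trans (AdjoinRoot.minpoly_powerBasis_gen_of_monic hm)
  rw [e1]

include hm in
theorem compEquiv_mem (u : AdjoinRoot h)
    (hu : d = 0 → ∀ x, top hm (AdjoinRoot.root h * x ^ 2) = top hm (u * (AdjoinRoot.root h * x)) ^ 2) :
    compEquiv h ∈ (pairSpace hm d u u).grp := by
  refine ⟨fun p p' => ?_, fun h0 p => ?_⟩
  · show top hm ((AdjoinRoot.root h * p.1 + p.2) * p'.1 + p.1 * (AdjoinRoot.root h * p'.1 + p'.2)) =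
      top hm (p.1 * p'.2 + p.2 * p'.1)
    congr 1
    rw [show (AdjoinRoot.root h * p.1 + p.2) * p'.1 + p.1 * (AdjoinRoot.root h * p'.1 + p'.2) =
      p.1 * p'.2 + p.2 * p'.1 + (AdjoinRoot.root h * (p.1 * p'.1) + AdjoinRoot.root h * (p.1 * p'.1)) by ring,
      two_zero F, add_zero]
  · show top hm (u * (AdjoinRoot.root h * p.1 + p.2)) ^ 2 + top hm (u * p.1) ^ 2 +
        top hm ((AdjoinRoot.root h * p.1 + p.2) * p.1) =
      top hm (u * p.1) ^ 2 + top hm (u * p.2) ^ 2 + top hm (p.1 * p.2)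
    have e := hu h0 p.1
    rw [mul_add, map_add, add_mul, map_add, mul_comm p.2 p.1, mul_assoc (AdjoinRoot.root h) p.1 p.1, ← sq, e]
    linear_combination (top hm (u * (AdjoinRoot.root h * p.1)) ^ 2 +
      top hm (u * (AdjoinRoot.root h * p.1)) * top hm (u * p.2)) * CharTwo.two_eq_zero (R := F)

end Pair

/-- The orthogonal sum. -/
def Space.prod {V W : Type*} [AddCommGroup V] [Module F V] [AddCommGroup W] [Module F W] {d : ℕ}
    (Φ : Space F V d) (Ψ : Space F W d) : Space F (V × W) d where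
  B := Φ.B.compl₁₂ (LinearMap.fst F V W) (LinearMap.fst F V W) +
    Ψ.B.compl₁₂ (LinearMap.snd F V W) (LinearMap.snd F V W)
  halt p := by simp [Φ.halt, Ψ.halt]
  hnd p hp := by
    refine Prod.ext (Φ.hnd _ fun y => ?_) (Ψ.hnd _ fun y => ?_)
    · simpa using hp (y, 0)
    · simpa using hp (0, y)
  Q p := Φ.Q p.1 + Ψ.Q p.2
  hQadd hd p p' := by
    simp [Φ.hQadd hd, Ψ.hQadd hd]
    ring
  hQsmul hd c p := by
    simp [Φ.hQsmul hd, Ψ.hQsmul hd]
    ring

/-- The characteristic polynomial of `g + g⁻¹`. -/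
noncomputable def traceCP {V : Type*} [AddCommGroup V] [Module F V] [FiniteDimensional F V] (g : V ≃ₗ[F] V) : F[X] :=
  ((g : Module.End F V) + (g.symm : Module.End F V)).charpoly

theorem traceCP_conj {V W : Type*} [AddCommGroup V] [Module F V] [FiniteDimensional F V] [AddCommGroup W]
    [Module F W] [FiniteDimensional F W] (e : V ≃ₗ[F] W) (g : V ≃ₗ[F] V) :
    traceCP ((e.symm.trans g).trans e) = traceCP g := by
  rw [traceCP, traceCP, ← LinearEquiv.charpoly_conj e ((g : Module.End F V) + (g.symm : Module.End F V))]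
  congr 1
  refine LinearMap.ext fun x => ?_
  simp [LinearEquiv.conj_apply]

theorem Space.transport {V W : Type*} [AddCommGroup V] [Module F V] [FiniteDimensional F V] [AddCommGroup W]
    [Module F W] [FiniteDimensional F W] {d : ℕ} (hd : d ≤ 1) (Ψ : Space F W d) (Φ : Space F V d)
    (hdim : Module.finrank F W = Module.finrank F V) (hsign : d = 0 → 0 < qsum Ψ.Q * qsum Φ.Q)
    (g : W ≃ₗ[F] W) (hg : g ∈ Ψ.grp) : ∃ g' ∈ Φ.grp, traceCP g' = traceCP g := by
  obtain ⟨ψ, hB, hQ⟩ := Ψ.exists_isometry hd Φ hdim hsign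
  refine ⟨(ψ.symm.trans g).trans ψ, ⟨fun x y => ?_, fun h0 x => ?_⟩, traceCP_conj ψ g⟩
  · simp only [LinearEquiv.trans_apply]
    rw [hB, hg.1]
    conv_rhs => rw [← ψ.apply_symm_apply x, ← ψ.apply_symm_apply y, hB]
  · simp only [LinearEquiv.trans_apply]
    rw [hQ h0, hg.2 h0]
    conv_rhs => rw [← ψ.apply_symm_apply x, hQ h0]

theorem finrank_pair {h : F[X]} (hm : h.Monic) :
    Module.finrank F (AdjoinRoot h × AdjoinRoot h) = 2 * h.natDegree ∧ Module.Finite F (AdjoinRoot h) := by
  haveI := Module.Finite.of_basis (AdjoinRoot.powerBasis' hm).basis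
  refine ⟨?_, inferInstance⟩
  rw [Module.finrank_prod, (AdjoinRoot.powerBasis' hm).finrank, AdjoinRoot.powerBasis'_dim hm, two_mul]

variable {V : Type*} [AddCommGroup V] [Module F V] [FiniteDimensional F V]

theorem exists_symplectic (Φ : Space F V 1) {n : ℕ} (hn : Module.finrank F V = 2 * n) {h : F[X]} (hm : h.Monic)
    (hd : h.natDegree = n) : ∃ g ∈ Φ.grp, traceCP g = h * h := by
  obtain ⟨hf, hfin⟩ := finrank_pair hm
  obtain ⟨g, hg, he⟩ := (pairSpace hm 1 0 0).transport le_rfl Φ (by rw [hf, hn, hd]) (fun h => absurd h one_ne_zero)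
    (compEquiv h) (compEquiv_mem hm 1 0 fun h => absurd h one_ne_zero)
  exact ⟨g, hg, he.trans (compEquiv_charpoly hm)⟩

/-- The model for a polynomial without the root `0`. -/
theorem exists_model {h : F[X]} (hm : h.Monic) (hpos : 0 < h.natDegree) (h0 : h.coeff 0 ≠ 0) :
    ∃ u : AdjoinRoot h, compEquiv h ∈ (pairSpace hm 0 u u).grp ∧
      top hm (u * u) = h.coeff 1 / h.coeff 0 := by
  obtain ⟨A, B, hAB, hkey⟩ := exists_sqrt_X hm hpos
  refine ⟨AdjoinRoot.mk h A * rootInv h, compEquiv_mem hm 0 _ fun _ x => ?_, ?_⟩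
  · rw [hkey, show AdjoinRoot.mk h A * rootInv h * (AdjoinRoot.root h * x) =
      AdjoinRoot.mk h A * x * (AdjoinRoot.root h * rootInv h) by ring, root_mul_rootInv h0, mul_one]
  · have e0 : AdjoinRoot.mk h (A ^ 2) = AdjoinRoot.mk h (X * B ^ 2) := by
      rw [AdjoinRoot.mk_eq_mk]
      exact ⟨1, by rw [mul_one]; linear_combination -hAB - X * B ^ 2 * CharTwo.two_eq_zero (R := F[X])⟩
    have eder : derivative h = B ^ 2 := by
      rw [hAB, derivative_add, derivative_mul, derivative_X, one_mul, sq, sq, derivative_mul, derivative_mul]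
      linear_combination (derivative A * A + X * (derivative B * B)) * CharTwo.two_eq_zero (R := F[X])
    rw [show AdjoinRoot.mk h A * rootInv h * (AdjoinRoot.mk h A * rootInv h) =
      AdjoinRoot.mk h (A ^ 2) * (rootInv h * rootInv h) by rw [map_pow]; ring, e0, map_mul (AdjoinRoot.mk h), AdjoinRoot.mk_X,
      show AdjoinRoot.root h * AdjoinRoot.mk h (B ^ 2) * (rootInv h * rootInv h) =
        AdjoinRoot.mk h (B ^ 2) * rootInv h * (AdjoinRoot.root h * rootInv h) by ring, root_mul_rootInv h0, mul_one,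
      ← eder]
    exact top_derivative_rootInv hm hpos h0

/-- The padding for the root `0`. -/
theorem exists_pad {j : ℕ} (hj : 0 < j) (c : F) :
    ∃ u u' : AdjoinRoot ((X : F[X]) ^ j), top (monic_X_pow j) (u * u') = c := by
  refine ⟨AdjoinRoot.mk _ (X ^ (j - 1)), AdjoinRoot.mk _ (C c), ?_⟩
  rw [← map_mul, top_mk_small _ (fun m hm' => ?_), natDegree_X_pow, mul_comm, coeff_C_mul, coeff_X_pow,
    if_pos rfl, mul_one]
  rw [natDegree_X_pow] at hm'
  rw [mul_comm, coeff_C_mul, coeff_X_pow, if_neg (by omega), mul_zero]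

theorem chi_mul_self (a : F) : chi a * chi a = 1 := by rw [← chi_add, CharTwo.add_self_eq_zero, chi_zero]

theorem exists_orthogonal (Φ : Space F V 0) {n : ℕ} (hn : Module.finrank F V = 2 * n) {h : F[X]} (hm : h.Monic)
    (hd : h.natDegree = n) (hn0 : 0 < n)
    (hgood : h.coeff 0 = 0 ∨ 0 < qsum Φ.Q * chi (h.coeff 1 / h.coeff 0)) :
    ∃ g ∈ Φ.grp, traceCP g = h * h := by
  classical
  obtain ⟨α, hα⟩ := exists_nonAS (F := F)
  have hsign : ∃ c : F, 0 < qsum Φ.Q * chi c := by
    rcases lt_or_gt_of_ne Φ.qsum_ne_zero with h' | h'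
    · exact ⟨α, by rw [chi_alpha hα]; linarith⟩
    · exact ⟨0, by rw [chi_zero]; linarith⟩
  rcases eq_or_ne (h.coeff 0) 0 with h0 | h0
  swap
  · obtain ⟨hf, hfin⟩ := finrank_pair hm
    obtain ⟨u, hmem, hu⟩ := exists_model hm (by omega) h0
    obtain ⟨g, hg, he⟩ := (pairSpace hm 0 u u).transport (Nat.zero_le 1) Φ (by rw [hf, hn, hd]) (fun _ => by
      have h1 := qsum_pairSpace hm 0 u u
      rw [hu] at h1
      have h2 := hgood.resolve_left h0
      nlinarith [mul_pos h1 h2, chi_mul_self (h.coeff 1 / h.coeff 0)]) (compEquiv h) hmem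
    exact ⟨g, hg, he.trans (compEquiv_charpoly hm)⟩
  obtain ⟨h₁, hh₁⟩ : (X : F[X]) ^ h.rootMultiplicity 0 ∣ h := by
    simpa using pow_rootMultiplicity_dvd h 0
  set j := h.rootMultiplicity 0 with hjdef
  have hj : 0 < j := (rootMultiplicity_pos hm.ne_zero).2 (by rw [IsRoot.def, ← coeff_zero_eq_eval_zero]; exact h0)
  have hm₁ : h₁.Monic := (monic_X_pow j).of_mul_monic_left (hh₁ ▸ hm)
  have h10 : h₁.coeff 0 ≠ 0 := by
    intro e
    obtain ⟨r, hr⟩ := X_dvd_iff.2 e
    have : (X - C (0 : F)) ^ (j + 1) ∣ h := ⟨r, by rw [C_0, sub_zero, hh₁, hr, pow_succ]; ring⟩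
    have := (le_rootMultiplicity_iff hm.ne_zero).2 this
    omega
  have hdeg : j + h₁.natDegree = n := by
    rw [← hd, hh₁, (monic_X_pow j).natDegree_mul hm₁, natDegree_X_pow]
  obtain ⟨hf1, hfin1⟩ := finrank_pair hm₁
  obtain ⟨hfj, hfinj⟩ := finrank_pair (monic_X_pow (R := F) j)
  haveI : Finite (AdjoinRoot h₁) := Module.finite_of_finite F
  haveI : Finite (AdjoinRoot ((X : F[X]) ^ j)) := Module.finite_of_finite F
  obtain ⟨u₁, hmem, e₁, he₁⟩ : ∃ u₁, compEquiv h₁ ∈ (pairSpace hm₁ 0 u₁ u₁).grp ∧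
      ∃ e₁ : F, 0 < qsum (pairSpace hm₁ 0 u₁ u₁).Q * chi e₁ := by
    rcases Nat.eq_zero_or_pos h₁.natDegree with hz | hpos
    · refine ⟨0, compEquiv_mem hm₁ 0 0 fun _ x => ?_, top hm₁ (0 * 0), qsum_pairSpace hm₁ 0 0 0⟩
      haveI : Subsingleton (AdjoinRoot h₁) := by
        rw [← Module.finrank_zero_iff (R := F), (AdjoinRoot.powerBasis' hm₁).finrank, AdjoinRoot.powerBasis'_dim hm₁]
        exact hz
      rw [Subsingleton.elim (AdjoinRoot.root h₁ * x ^ 2) 0, map_zero, zero_mul, map_zero, zero_pow two_ne_zero]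
    · obtain ⟨u, hmem, hu⟩ := exists_model hm₁ hpos h10
      exact ⟨u, hmem, _, qsum_pairSpace hm₁ 0 u u⟩
  obtain ⟨c, hc⟩ := hsign
  obtain ⟨w, w', hw⟩ := exists_pad hj (c + e₁)
  let Ψ := (pairSpace hm₁ 0 u₁ u₁).prod (pairSpace (monic_X_pow j) 0 w w')
  let g₀ := (compEquiv h₁).prodCongr (LinearEquiv.refl F (AdjoinRoot ((X : F[X]) ^ j) × AdjoinRoot ((X : F[X]) ^ j)))
  have hg₀ : g₀ ∈ Ψ.grp := by
    refine ⟨fun p p' => ?_, fun h0' p => ?_⟩
    · show (pairSpace hm₁ 0 u₁ u₁).B (compEquiv h₁ p.1) (compEquiv h₁ p'.1) + _ = _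
      rw [hmem.1]; rfl
    · show (pairSpace hm₁ 0 u₁ u₁).Q (compEquiv h₁ p.1) + _ = _
      rw [hmem.2 h0']; rfl
  obtain ⟨g, hg, he⟩ := Ψ.transport (Nat.zero_le 1) Φ (by rw [Module.finrank_prod, hf1, hfj, hn, natDegree_X_pow]; omega)
    (fun _ => by
      have hq : qsum Ψ.Q = qsum (pairSpace hm₁ 0 u₁ u₁).Q * qsum (pairSpace (monic_X_pow j) 0 w w').Q :=
        qsum_prod _ _
      have h2 := qsum_pairSpace (monic_X_pow (R := F) j) 0 w w'
      rw [hw, chi_add] at h2
      rw [hq]
      have h3 := mul_pos (mul_pos he₁ h2) hc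
      have e : qsum (pairSpace hm₁ 0 u₁ u₁).Q * chi e₁ *
          (qsum (pairSpace (monic_X_pow (R := F) j) 0 w w').Q * (chi c * chi e₁)) * (qsum Φ.Q * chi c) =
          qsum (pairSpace hm₁ 0 u₁ u₁).Q * qsum (pairSpace (monic_X_pow (R := F) j) 0 w w').Q * qsum Φ.Q *
            ((chi e₁ * chi e₁) * (chi c * chi c)) := by ring
      rw [e, chi_mul_self, chi_mul_self, one_mul, mul_one] at h3
      exact h3) g₀ hg₀
  refine ⟨g, hg, he.trans ?_⟩
  rw [traceCP, show ((g₀ : Module.End F ((AdjoinRoot h₁ × AdjoinRoot h₁) ×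
      (AdjoinRoot ((X : F[X]) ^ j) × AdjoinRoot ((X : F[X]) ^ j)))) + (g₀.symm : Module.End F _)) =
    ((compEquiv h₁ : Module.End F _) + ((compEquiv h₁).symm : Module.End F _)).prodMap 0 from
    LinearMap.ext fun p => by simp [g₀, two_zero F]]
  rw [LinearMap.charpoly_prodMap, compEquiv_charpoly hm₁, IsNilpotent.zero.charpoly_eq_X_pow_finrank, hfj,
    natDegree_X_pow, hh₁, pow_mul']
  ring

/-- Monic polynomials of degree `n`. -/
abbrev MonicOf (F : Type u) [Field F] (n : ℕ) := {h : F[X] // h.Monic ∧ h.natDegree = n}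

theorem card_monicOf [Fintype F] (n : ℕ) : Finite (MonicOf F n) ∧ Nat.card (MonicOf F n) = Fintype.card F ^ n := by
  let e := (Polynomial.monicEquivDegreeLT (R := F) n).trans (Polynomial.degreeLTEquiv F n).toEquiv
  exact ⟨Finite.of_equiv _ e.symm, by rw [Nat.card_congr e]; simp⟩

theorem classes_ge {d n : ℕ} (Φ : Space F V d) {X : Type*} (poly : X → MonicOf F n)
    (hinj : Function.Injective poly) (hex : ∀ x, ∃ g ∈ Φ.grp, traceCP g = (poly x).1 * (poly x).1) :
    Nat.card X ≤ Nat.card (ConjClasses Φ.grp) := by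
  haveI : Finite V := Module.finite_of_finite F
  haveI : Finite (V ≃ₗ[F] V) := Finite.of_injective (fun e => (e : V → V)) DFunLike.coe_injective
  choose g hg hcp using hex
  refine Nat.card_le_card_of_injective (fun x => ConjClasses.mk (⟨g x, hg x⟩ : Φ.grp)) fun x y hxy => hinj ?_
  obtain ⟨c, hc⟩ := isConj_iff.1 (ConjClasses.mk_eq_mk_iff_isConj.1 hxy)
  have e : ((c : V ≃ₗ[F] V).symm.trans (g x)).trans (c : V ≃ₗ[F] V) = g y := by
    exact (LinearEquiv.ext fun v => rfl).trans (congrArg Subtype.val hc)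
  have e' : (poly x).1 * (poly x).1 = (poly y).1 * (poly y).1 := by
    rw [← hcp x, ← hcp y, ← e, traceCP_conj]
  exact Subtype.ext (CharTwo.sq_injective (by simpa [sq] using e'))

theorem lower_symplectic [Fintype F] (Φ : Space F V 1) {n : ℕ} (hn : Module.finrank F V = 2 * n) :
    Fintype.card F ^ n ≤ Nat.card (ConjClasses Φ.grp) := by
  rw [← (card_monicOf (F := F) n).2]
  exact classes_ge Φ id Function.injective_id fun h => exists_symplectic Φ hn h.2.1 h.2.2

theorem lower_orthogonal [Fintype F] (Φ : Space F V 0) {n : ℕ} (hn : Module.finrank F V = 2 * n) (hn2 : 2 ≤ n) :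
    Fintype.card F ^ n ≤ 2 * Nat.card (ConjClasses Φ.grp) := by
  classical
  obtain ⟨α, hα⟩ := exists_nonAS (F := F)
  obtain ⟨hfin, hcard⟩ := card_monicOf (F := F) n
  let P : MonicOf F n → Prop := fun h => h.1.coeff 0 = 0 ∨ 0 < qsum Φ.Q * chi (h.1.coeff 1 / h.1.coeff 0)
  let flipP : MonicOf F n → MonicOf F n := fun h => ⟨h.1 + C (α * h.1.coeff 0) * X, by
    have hdeg : (C (α * h.1.coeff 0) * X).degree < h.1.degree := by
      rw [degree_eq_natDegree h.2.1.ne_zero, h.2.2]
      exact lt_of_le_of_lt (degree_C_mul_X_le _) (by exact_mod_cast hn2)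
    exact ⟨h.2.1.add_of_left hdeg, (natDegree_eq_of_degree_eq (degree_add_eq_left_of_degree_lt hdeg)).trans h.2.2⟩⟩
  have hflip0 : ∀ h, (flipP h).1.coeff 0 = h.1.coeff 0 := fun h => by simp [flipP]
  have hflip : Function.Injective flipP := fun x y hxy => by
    have e0 : x.1.coeff 0 = y.1.coeff 0 := by rw [← hflip0 x, hxy, hflip0 y]
    have e := congrArg Subtype.val hxy
    simp only [flipP, e0] at e
    exact Subtype.ext (add_right_cancel e)
  let f : MonicOf F n → {h // P h} ⊕ {h // P h} := fun h => if hp : P h then .inl ⟨h, hp⟩ else .inr ⟨flipP h, by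
    simp only [P, not_or] at hp
    refine Or.inr ?_
    rw [hflip0, show (flipP h).1.coeff 1 = h.1.coeff 1 + α * h.1.coeff 0 by simp [flipP], add_div,
      mul_div_cancel_right₀ _ hp.1, chi_add, chi_alpha hα]
    have h1 : qsum Φ.Q * chi (h.1.coeff 1 / h.1.coeff 0) ≠ 0 :=
      mul_ne_zero Φ.qsum_ne_zero fun h' => by have := chi_mul_self (h.1.coeff 1 / h.1.coeff 0); rw [h'] at this; simp at this
    rcases lt_or_gt_of_ne h1 with h2 | h2
    · linarith
    · exact absurd h2 hp.2⟩
  have hf : Function.Injective f := fun x y hxy => by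
    by_cases hx : P x <;> by_cases hy : P y <;>
      simp only [f, hx, hy, dite_true, dite_false, dif_pos, dif_neg, not_false_eq_true, Sum.inl.injEq, Sum.inr.injEq,
        Subtype.mk.injEq, reduceCtorEq] at hxy
    · exact hxy
    · exact hflip hxy
  have h1 := Nat.card_le_card_of_injective f hf
  rw [Nat.card_sum, hcard] at h1
  have h2 := classes_ge Φ (fun h : {h // P h} => h.1) Subtype.val_injective
    fun h => exists_orthogonal Φ hn h.1.2.1 h.1.2.2 (by omega) h.2
  omega

end Cfsg.Agent.UnipTwo
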