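/-
The generating function of the normal forms of unipotent isometries in characteristic two, at `1 / 2`.
-/
import Mathlib

set_option autoImplicit false

namespace Cfsg.Agent.UnipTwo

/-- The multiplicities at one level: pairs of odd blocks, single even blocks, pairs of even blocks. -/
abbrev Entry (N : ℕ) := Fin (N + 1) × Fin 3 × Fin (N + 1)

/-- Is there a single block at this level? -/
def Entry.hasV {N : ℕ} (e : Entry N) : Bool := decide (0 < (e.2.1 : ℕ))

/-- The mark on the odd blocks may be chosen. -/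
def freeO (d i : ℕ) (prev : Bool) {N : ℕ} (e : Entry N) : Bool :=
  decide (0 < (e.1 : ℕ) ∧ (e.2.1 : ℕ) = 0 ∧ prev = false ∧ d ≤ i)

/-- The mark on the single blocks may be chosen. -/
def freeE (d i : ℕ) (prev : Bool) {N : ℕ} (e : Entry N) : Bool :=
  decide (0 < (e.2.1 : ℕ) ∧ prev = false ∧ d ≤ i)

/-- The number of free marks. -/
def nfree (d i : ℕ) (prev : Bool) {N : ℕ} (e : Entry N) : ℕ := (freeO d i prev e).toNat + (freeE d i prev e).toNat

/-- Half the dimension contributed by a level. -/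
def esize (i : ℕ) {N : ℕ} (e : Entry N) : ℕ :=
  (2 * i + 1) * (e.1 : ℕ) + (i + 1) * ((e.2.1 : ℕ) + 2 * (e.2.2 : ℕ))

/-- The weight of a level. -/
def wt (d : ℕ) (t : ℚ) (i : ℕ) (prev : Bool) {N : ℕ} (e : Entry N) : ℚ :=
  (1 / 2) ^ esize i e * t ^ nfree d i prev e

/-- Is there a single block at the level before `i`? -/
def prevV {K N : ℕ} (f : Fin K → Entry N) (i : ℕ) : Bool :=
  if h : 0 < i ∧ i ≤ K then Entry.hasV (f ⟨i - 1, by omega⟩) else false

/-- The weight of a sequence of levels. -/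
def pwt (d : ℕ) (t : ℚ) {K N : ℕ} (f : Fin K → Entry N) : ℚ := ∏ i : Fin K, wt d t i (prevV f i) (f i)

/-- The sum of the weights with given last state. -/
def W (d : ℕ) (t : ℚ) (K N : ℕ) (s : Bool) : ℚ :=
  ∑ f : Fin K → Entry N, if prevV f K = s then pwt d t f else 0

theorem wt_nonneg {d : ℕ} {t : ℚ} (ht : 0 ≤ t) (i : ℕ) (prev : Bool) {N : ℕ} (e : Entry N) :
    0 ≤ wt d t i prev e := mul_nonneg (pow_nonneg (by norm_num) _) (pow_nonneg ht _)

theorem W_nonneg {d : ℕ} {t : ℚ} (ht : 0 ≤ t) (K N : ℕ) (s : Bool) : 0 ≤ W d t K N s :=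
  Finset.sum_nonneg fun f _ => by
    split
    · exact Finset.prod_nonneg fun i _ => wt_nonneg ht _ _ _
    · exact le_rfl

theorem W_succ (d : ℕ) (t : ℚ) (K N : ℕ) (s : Bool) :
    W d t (K + 1) N s = W d t K N false * (∑ e : Entry N, if Entry.hasV e = s then wt d t K false e else 0) +
      W d t K N true * (∑ e : Entry N, if Entry.hasV e = s then wt d t K true e else 0) := by
  have hsnoc : ∀ (e : Entry N) (f : Fin K → Entry N),
      (if prevV (Fin.snoc f e : Fin (K + 1) → Entry N) (K + 1) = s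
        then pwt d t (Fin.snoc f e : Fin (K + 1) → Entry N) else 0) =
      pwt d t f * if Entry.hasV e = s then wt d t K (prevV f K) e else 0 := by
    intro e f
    have hlast : prevV (Fin.snoc f e : Fin (K + 1) → Entry N) (K + 1) = Entry.hasV e := by
      simp [prevV, show (⟨K, by omega⟩ : Fin (K + 1)) = Fin.last K from rfl]
    have hprev : ∀ i : ℕ, i ≤ K → prevV (Fin.snoc f e : Fin (K + 1) → Entry N) i = prevV f i := by
      intro i hi
      rcases Nat.eq_zero_or_pos i with rfl | h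
      · simp [prevV]
      · rw [prevV, prevV, dif_pos ⟨h, by omega⟩, dif_pos ⟨h, hi⟩,
          show (⟨i - 1, by omega⟩ : Fin (K + 1)) = Fin.castSucc (⟨i - 1, by omega⟩ : Fin K) from rfl,
          Fin.snoc_castSucc]
    rw [hlast, mul_ite, mul_zero]
    refine if_congr Iff.rfl ?_ rfl
    rw [pwt, Fin.prod_univ_castSucc]
    simp only [Fin.snoc_castSucc, Fin.snoc_last, Fin.val_castSucc, Fin.val_last, hprev _ le_rfl]
    congr 1
    exact Finset.prod_congr rfl fun i _ => by rw [hprev _ i.2.le]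
  rw [W, ← (Fin.snocEquiv fun _ : Fin (K + 1) => Entry N).sum_comp, Fintype.sum_prod_type, Finset.sum_comm]
  simp only [Fin.snocEquiv, Equiv.coe_fn_mk]
  rw [W, W, Finset.sum_mul, Finset.sum_mul, ← Finset.sum_add_distrib]
  refine Finset.sum_congr rfl fun f _ => ?_
  erw [Finset.sum_congr rfl fun e _ => hsnoc e f]
  rw [← Finset.mul_sum]
  cases prevV f K <;> simp

theorem sum_geom_le {x : ℚ} (hx : 0 ≤ x) (hx1 : x < 1) (n : ℕ) :
    ∑ a : Fin n, x ^ (a : ℕ) ≤ 1 / (1 - x) := by
  rw [Fin.sum_univ_eq_sum_range (fun a => x ^ a), geom_sum_eq hx1.ne,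
    ← neg_div_neg_eq, neg_sub, neg_sub, le_div_iff₀ (by linarith), div_mul_cancel₀ _ (by linarith)]
  linarith [pow_nonneg hx n]

theorem sum_geom_mark_le {x c : ℚ} (hx : 0 ≤ x) (hx1 : x < 1) (hc : 0 ≤ c) (n : ℕ) :
    ∑ a : Fin (n + 1), x ^ (a : ℕ) * (if (a : ℕ) = 0 then 1 else c) ≤ 1 + c * (x / (1 - x)) := by
  rw [Fin.sum_univ_succ]
  simp only [Fin.val_zero, pow_zero, if_true, mul_one, Fin.val_succ, Nat.succ_ne_zero, if_false]
  rw [← Finset.sum_mul]
  have e : ∑ a : Fin n, x ^ ((a : ℕ) + 1) = x * ∑ a : Fin n, x ^ (a : ℕ) := by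
    rw [Finset.mul_sum]; exact Finset.sum_congr rfl fun a _ => by ring
  rw [e, mul_comm _ c, div_eq_mul_one_div x]
  gcongr
  exact sum_geom_le hx hx1 n

variable (d K : ℕ) (t : ℚ)

/-- The odd block weight. -/
def xx : ℚ := (1 / 2) ^ (2 * K + 1)

/-- The even block weight. -/
def yy : ℚ := (1 / 2) ^ (K + 1)

/-- The geometric tail of the odd blocks. -/
def pp : ℚ := xx K / (1 - xx K)

/-- The mark factor. -/
def tt : ℚ := if d ≤ K then t else 1

theorem xx_bounds : 0 ≤ xx K ∧ xx K < 1 ∧ 0 ≤ yy K ∧ yy K < 1 ∧ 0 ≤ yy K ^ 2 ∧ yy K ^ 2 < 1 := by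
  have h1 : xx K < 1 := pow_lt_one₀ (by norm_num) (by norm_num) (by omega)
  have h2 : yy K < 1 := pow_lt_one₀ (by norm_num) (by norm_num) (by omega)
  have h3 : 0 ≤ yy K := by unfold yy; positivity
  refine ⟨by unfold xx; positivity, h1, h3, h2, by positivity, by nlinarith⟩

theorem tt_nonneg (ht : 0 ≤ t) : 0 ≤ tt d K t := by unfold tt; split <;> linarith

theorem wt_eq {N : ℕ} (prev : Bool) (a e : Fin (N + 1)) (v : Fin 3) :
    wt d t K prev ((a, v, e) : Entry N) =
      xx K ^ (a : ℕ) * (if (a : ℕ) = 0 then 1 else if (v : ℕ) = 0 ∧ prev = false then tt d K t else 1) *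
        (yy K ^ (v : ℕ) * (if (v : ℕ) = 0 then 1 else if prev = false then tt d K t else 1)) *
          (yy K ^ 2) ^ (e : ℕ) := by
  have e1 : ((1 / 2 : ℚ)) ^ esize K ((a, v, e) : Entry N) =
      xx K ^ (a : ℕ) * yy K ^ (v : ℕ) * (yy K ^ 2) ^ (e : ℕ) := by
    rw [esize, xx, yy, ← pow_mul, ← pow_mul, ← pow_mul, ← pow_mul, ← pow_add, ← pow_add]
    congr 1
    ring
  have e2 : ∀ b : Prop, [Decidable b] → t ^ (decide b).toNat = if b then t else 1 := fun b _ => by
    by_cases h : b <;> simp [h]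
  simp only [wt, nfree, freeO, freeE, pow_add, e1, e2, tt]
  rcases Nat.eq_zero_or_pos (a : ℕ) with ha | ha <;> rcases Nat.eq_zero_or_pos (v : ℕ) with hv | hv <;>
    cases prev <;> by_cases hd : d ≤ K <;>
    (first | (have ha' := ha.ne') | skip) <;> (first | (have hv' := hv.ne') | skip) <;>
    simp [ha, hv, hd, *] <;> ring

variable {t}

theorem sum_state_false (ht : 0 ≤ t) (N : ℕ) (prev : Bool) :
    (∑ e : Entry N, if Entry.hasV e = false then wt d t K prev e else 0) ≤
      (1 + (if prev = false then tt d K t else 1) * pp K) / (1 - yy K ^ 2) := by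
  obtain ⟨hx, hx1, hy, hy1, hy2, hy21⟩ := xx_bounds K
  have hc : 0 ≤ (if prev = false then tt d K t else 1) := by
    split
    · exact tt_nonneg d K t ht
    · norm_num
  rw [Fintype.sum_prod_type]
  simp only [Fintype.sum_prod_type, Fin.sum_univ_three, Entry.hasV, Fin.val_zero, Fin.val_one, Fin.val_two,
    lt_self_iff_false, decide_false, if_true, zero_lt_one, decide_true, Bool.true_eq_false, if_false,
    Nat.ofNat_pos, Finset.sum_const_zero, add_zero]
  simp only [wt_eq, Fin.val_zero, pow_zero, one_mul, mul_one, if_true, true_and, ← Finset.mul_sum]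
  rw [← Finset.sum_mul, div_eq_mul_one_div]
  exact mul_le_mul (sum_geom_mark_le hx hx1 hc N) (sum_geom_le hy2 hy21 _)
    (Finset.sum_nonneg fun _ _ => pow_nonneg hy2 _) (add_nonneg zero_le_one (mul_nonneg hc (div_nonneg hx (by linarith))))

theorem sum_state_true (ht : 0 ≤ t) (N : ℕ) (prev : Bool) :
    (∑ e : Entry N, if Entry.hasV e = true then wt d t K prev e else 0) ≤
      (yy K + yy K ^ 2) / (1 - yy K ^ 2) * (1 + pp K) * (if prev = false then tt d K t else 1) := by
  obtain ⟨hx, hx1, hy, hy1, hy2, hy21⟩ := xx_bounds K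
  have hc : 0 ≤ (if prev = false then tt d K t else 1) := by
    split
    · exact tt_nonneg d K t ht
    · norm_num
  have hP : 0 ≤ pp K := div_nonneg hx (by linarith)
  rw [Fintype.sum_prod_type]
  simp only [Fintype.sum_prod_type, Fin.sum_univ_three, Entry.hasV, Fin.val_zero, Fin.val_one, Fin.val_two,
    lt_self_iff_false, decide_false, if_true, zero_lt_one, decide_true, Bool.false_eq_true, if_false,
    Nat.ofNat_pos, Finset.sum_const_zero, zero_add]
  simp only [wt_eq, Fin.val_one, Fin.val_two, one_ne_zero, two_ne_zero, false_and, if_false, ite_self, mul_one,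
    pow_one, OfNat.ofNat_ne_zero]
  set c := (if prev = false then tt d K t else 1)
  have key : ∀ a : Fin (N + 1),
      (∑ e : Fin (N + 1), xx K ^ (a : ℕ) * (yy K * c) * (yy K ^ 2) ^ (e : ℕ)) +
      (∑ e : Fin (N + 1), xx K ^ (a : ℕ) * (yy K ^ 2 * c) * (yy K ^ 2) ^ (e : ℕ)) =
      xx K ^ (a : ℕ) * ((yy K + yy K ^ 2) * c * ∑ e : Fin (N + 1), (yy K ^ 2) ^ (e : ℕ)) := by
    intro a
    rw [← Finset.mul_sum, ← Finset.mul_sum]
    ring
  simp only [key, ← Finset.sum_mul]
  have h1 := sum_geom_le hx hx1 (N + 1)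
  have h2 := sum_geom_le hy2 hy21 (N + 1)
  have e : 1 / (1 - xx K) = 1 + pp K := by
    rw [pp, eq_comm, ← sub_eq_zero]; field_simp [show (1 - xx K) ≠ 0 by linarith]; ring
  rw [e] at h1
  calc (∑ a : Fin (N + 1), xx K ^ (a : ℕ)) * ((yy K + yy K ^ 2) * c * ∑ e : Fin (N + 1), (yy K ^ 2) ^ (e : ℕ))
      ≤ (1 + pp K) * ((yy K + yy K ^ 2) * c * (1 / (1 - yy K ^ 2))) := by
        refine mul_le_mul h1 (mul_le_mul_of_nonneg_left h2 (mul_nonneg (by linarith) hc))
          (mul_nonneg (mul_nonneg (by linarith) hc) (Finset.sum_nonneg fun _ _ => pow_nonneg hy2 _)) (by linarith)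
    _ = _ := by ring

variable (t) in
/-- The right-hand side of the recursion for the state without a single block. -/
def stepN (A B : ℚ) : ℚ := (A * (1 + tt d K t * pp K) + B * (1 + pp K)) / (1 - yy K ^ 2)

variable (t) in
/-- The right-hand side of the recursion for the state with a single block. -/
def stepV (A B : ℚ) : ℚ := (yy K + yy K ^ 2) / (1 - yy K ^ 2) * (1 + pp K) * (tt d K t * A + B)

theorem W_step (ht : 0 ≤ t) (N : ℕ) {A B A' B' : ℚ} (hA : W d t K N false ≤ A) (hB : W d t K N true ≤ B)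
    (hA' : stepN d K t A B ≤ A') (hB' : stepV d K t A B ≤ B') :
    W d t (K + 1) N false ≤ A' ∧ W d t (K + 1) N true ≤ B' := by
  obtain ⟨hx, hx1, hy, hy1, hy2, hy21⟩ := xx_bounds K
  have hP : 0 ≤ pp K := div_nonneg hx (by linarith)
  have htt := tt_nonneg d K t ht
  have h0 := W_nonneg (d := d) ht K N false
  have h1 := W_nonneg (d := d) ht K N true
  have hA0 : 0 ≤ A := h0.trans hA
  have hB0 : 0 ≤ B := h1.trans hB
  constructor
  · rw [W_succ]
    refine le_trans (add_le_add (mul_le_mul hA (sum_state_false d K ht N false) ?_ hA0)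
      (mul_le_mul hB (sum_state_false d K ht N true) ?_ hB0)) (le_trans (le_of_eq ?_) hA') <;>
    first
      | exact Finset.sum_nonneg fun e _ => by split <;> first | exact wt_nonneg ht _ _ _ | exact le_rfl
      | (simp only [stepN, if_true, Bool.true_eq_false, if_false]; ring)
  · rw [W_succ]
    refine le_trans (add_le_add (mul_le_mul hA (sum_state_true d K ht N false) ?_ hA0)
      (mul_le_mul hB (sum_state_true d K ht N true) ?_ hB0)) (le_trans (le_of_eq ?_) hB') <;>
    first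
      | exact Finset.sum_nonneg fun e _ => by split <;> first | exact wt_nonneg ht _ _ _ | exact le_rfl
      | (simp only [stepV, if_true, Bool.true_eq_false, if_false]; ring)

theorem W_zero_levels (N : ℕ) (s : Bool) : W d t 0 N s = if s = false then 1 else 0 := by
  simp only [W, pwt, prevV, Finset.univ_eq_empty, Finset.prod_empty, Fintype.sum_unique, lt_self_iff_false,
    false_and, dite_false]
  cases s <;> simp

/-- The late levels change little. -/
theorem W_tail (ht : 0 ≤ t) (ht2 : t ≤ 2) (N : ℕ) (h16 : 16 ≤ K) {C : ℚ}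
    (hC : W d t K N false + W d t K N true ≤ C * (1 - 3 * (1 / 2) ^ K)) :
    W d t (K + 1) N false + W d t (K + 1) N true ≤ C * (1 - 3 * (1 / 2) ^ (K + 1)) := by
  obtain ⟨hx, hx1, hy, hy1, hy2, hy21⟩ := xx_bounds K
  obtain ⟨h0, h1⟩ := W_step d K ht N (le_refl _) (le_refl _) (le_refl _) (le_refl _)
  refine le_trans (add_le_add h0 h1) ?_
  have hA := W_nonneg (d := d) ht K N false
  have hB := W_nonneg (d := d) ht K N true
  generalize W d t K N false = A at hC hA ⊢
  generalize W d t K N true = B at hC hB ⊢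
  have hu : (1 / 2 : ℚ) ^ K = 2 * yy K := by rw [yy, pow_succ]; ring
  have hy17 : yy K ≤ 1 / 131072 := by
    have : ((1 : ℚ) / 2) ^ (K + 1) ≤ (1 / 2) ^ 17 := pow_le_pow_of_le_one (by norm_num) (by norm_num) (by omega)
    unfold yy; norm_num at this ⊢; linarith
  have hxy : xx K = 2 * yy K ^ 2 := by rw [xx, yy, ← pow_mul, show (K + 1) * 2 = 2 * K + 1 + 1 by omega, pow_succ]; ring
  have htt0 := tt_nonneg d K t ht
  have htt2 : tt d K t ≤ 2 := by unfold tt; split <;> linarith
  rw [show (1 / 2 : ℚ) ^ (K + 1) = yy K from rfl]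
  rw [hu] at hC
  have hpd : pp K ≤ 3 * yy K ^ 2 := by
    have hsq : yy K ^ 2 ≤ 1 / 100 := by nlinarith
    rw [pp, hxy, div_le_iff₀ (by linarith)]
    nlinarith [mul_le_mul_of_nonneg_left hsq hy2]
  have hP : 0 ≤ pp K := div_nonneg hx (by linarith)
  unfold stepN stepV
  generalize yy K = y at hy hy1 hy2 hy21 hy17 hC hpd ⊢
  generalize pp K = P at hP hpd ⊢
  generalize tt d K t = T at htt0 htt2 ⊢
  have hden : (0 : ℚ) < 1 - y ^ 2 := by linarith
  have hnum : A * (1 + T * P) + B * (1 + P) + (y + y ^ 2) * (1 + P) * (T * A + B) ≤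
      (A + B) * ((1 + 3 * y) * (1 - y ^ 2)) := by
    have hP' : P ≤ y / 10000 := by nlinarith
    have hy' : y ^ 2 ≤ y / 10000 := by nlinarith
    have cA : 1 + T * P + (y + y ^ 2) * (1 + P) * T ≤ (1 + 3 * y) * (1 - y ^ 2) := by
      have q1 : T * P ≤ y / 1000 := by nlinarith
      have q2 : (y + y ^ 2) * (1 + P) ≤ y * (1002 / 1000) := by nlinarith
      have q3 : (y + y ^ 2) * (1 + P) * T ≤ y * (1002 / 1000) * 2 :=
        mul_le_mul q2 htt2 htt0 (by nlinarith)
      nlinarith
    have cB : 1 + P + (y + y ^ 2) * (1 + P) ≤ (1 + 3 * y) * (1 - y ^ 2) := by nlinarith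
    nlinarith [mul_le_mul_of_nonneg_left cA hA, mul_le_mul_of_nonneg_left cB hB]
  have hC0 : 0 ≤ C := by nlinarith
  calc (A * (1 + T * P) + B * (1 + P)) / (1 - y ^ 2) + (y + y ^ 2) / (1 - y ^ 2) * (1 + P) * (T * A + B)
      = (A * (1 + T * P) + B * (1 + P) + (y + y ^ 2) * (1 + P) * (T * A + B)) / (1 - y ^ 2) := by ring
    _ ≤ (A + B) * (1 + 3 * y) := by rw [div_le_iff₀ hden]; linarith [hnum]
    _ ≤ C * (1 - 3 * (2 * y)) * (1 + 3 * y) := mul_le_mul_of_nonneg_right hC (by linarith)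
    _ ≤ C * (1 - 3 * y) := by nlinarith [mul_nonneg hC0 (sq_nonneg y)]

theorem W_total_le (ht : 0 ≤ t) (ht2 : t ≤ 2) (N : ℕ) {C : ℚ}
    (h16 : W d t 16 N false + W d t 16 N true ≤ C * (1 - 3 * (1 / 2) ^ 16)) (hC : 0 ≤ C) (j : ℕ) :
    W d t (16 + j) N false + W d t (16 + j) N true ≤ C := by
  have key : ∀ j, W d t (16 + j) N false + W d t (16 + j) N true ≤ C * (1 - 3 * (1 / 2) ^ (16 + j)) := by
    intro j
    induction j with
    | zero => exact h16
    | succ j ih => exact W_tail d (16 + j) ht ht2 N (by omega) ih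
  refine (key j).trans ?_
  have := mul_nonneg hC (pow_nonneg (by norm_num : (0 : ℚ) ≤ 1 / 2) (16 + j))
  linarith

end Cfsg.Agent.UnipTwo
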