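/-
The numerical bounds for the weights at level `16`.
-/
import Cfsg.Agent.Lib.UnipTwo.Weights

set_option autoImplicit false

namespace Cfsg.Agent.UnipTwo

theorem W16_t2_d1 (N : ℕ) :
    W 1 2 16 N false + W 1 2 16 N true ≤ (3794703 / 250000 : ℚ) * (1 - 3 * (1 / 2) ^ 16) := by
  have h0 : W 1 (2 : ℚ) 0 N false ≤ (1 / 1 : ℚ) ∧ W 1 (2 : ℚ) 0 N true ≤ (0 / 1 : ℚ) := by
    simp [W_zero_levels]
  have h1 := W_step 1 0 (t := (2 : ℚ)) (by norm_num) N h0.1 h0.2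
    (A' := (2666667 / 1000000 : ℚ)) (B' := (2 / 1 : ℚ))
    (by norm_num [stepN, xx, yy, pp, tt]) (by norm_num [stepV, xx, yy, pp, tt])
  have h2 := W_step 1 1 (t := (2 : ℚ)) (by norm_num) N h1.1 h1.2
    (A' := (6095239 / 1000000 : ℚ)) (B' := (698413 / 250000 : ℚ))
    (by norm_num [stepN, xx, yy, pp, tt]) (by norm_num [stepV, xx, yy, pp, tt])
  have h3 := W_step 1 2 (t := (2 : ℚ)) (by norm_num) N h2.1 h2.2
    (A' := (1190127 / 125000 : ℚ)) (B' := (1104821 / 500000 : ℚ))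
    (by norm_num [stepN, xx, yy, pp, tt]) (by norm_num [stepV, xx, yy, pp, tt])
  have h4 := W_step 1 3 (t := (2 : ℚ)) (by norm_num) N h3.1 h3.2
    (A' := (11944653 / 1000000 : ℚ)) (B' := (285587 / 200000 : ℚ))
    (by norm_num [stepN, xx, yy, pp, tt]) (by norm_num [stepV, xx, yy, pp, tt])
  have h5 := W_step 1 4 (t := (2 : ℚ)) (by norm_num) N h4.1 h4.2
    (A' := (13435253 / 1000000 : ℚ)) (B' := (204571 / 250000 : ℚ))
    (by norm_num [stepN, xx, yy, pp, tt]) (by norm_num [stepV, xx, yy, pp, tt])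
  have h6 := W_step 1 5 (t := (2 : ℚ)) (by norm_num) N h5.1 h5.2
    (A' := (3567637 / 250000 : ℚ)) (B' := (10993 / 25000 : ℚ))
    (by norm_num [stepN, xx, yy, pp, tt]) (by norm_num [stepV, xx, yy, pp, tt])
  have h7 := W_step 1 6 (t := (2 : ℚ)) (by norm_num) N h6.1 h6.2
    (A' := (2942941 / 200000 : ℚ)) (B' := (3566 / 15625 : ℚ))
    (by norm_num [stepN, xx, yy, pp, tt]) (by norm_num [stepV, xx, yy, pp, tt])
  have h8 := W_step 1 7 (t := (2 : ℚ)) (by norm_num) N h7.1 h7.2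
    (A' := (14944063 / 1000000 : ℚ)) (B' := (29077 / 250000 : ℚ))
    (by norm_num [stepN, xx, yy, pp, tt]) (by norm_num [stepV, xx, yy, pp, tt])
  have h9 := W_step 1 8 (t := (2 : ℚ)) (by norm_num) N h8.1 h8.2
    (A' := (7530329 / 500000 : ℚ)) (B' := (29359 / 500000 : ℚ))
    (by norm_num [stepN, xx, yy, pp, tt]) (by norm_num [stepV, xx, yy, pp, tt])
  have h10 := W_step 1 9 (t := (2 : ℚ)) (by norm_num) N h9.1 h9.2
    (A' := (1889931 / 125000 : ℚ)) (B' := (14751 / 500000 : ℚ))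
    (by norm_num [stepN, xx, yy, pp, tt]) (by norm_num [stepV, xx, yy, pp, tt])
  have h11 := W_step 1 10 (t := (2 : ℚ)) (by norm_num) N h10.1 h10.2
    (A' := (15148969 / 1000000 : ℚ)) (B' := (14787 / 1000000 : ℚ))
    (by norm_num [stepN, xx, yy, pp, tt]) (by norm_num [stepV, xx, yy, pp, tt])
  have h12 := W_step 1 11 (t := (2 : ℚ)) (by norm_num) N h11.1 h11.2
    (A' := (15163761 / 1000000 : ℚ)) (B' := (7403 / 1000000 : ℚ))
    (by norm_num [stepN, xx, yy, pp, tt]) (by norm_num [stepV, xx, yy, pp, tt])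
  have h13 := W_step 1 12 (t := (2 : ℚ)) (by norm_num) N h12.1 h12.2
    (A' := (7585583 / 500000 : ℚ)) (B' := (463 / 125000 : ℚ))
    (by norm_num [stepN, xx, yy, pp, tt]) (by norm_num [stepV, xx, yy, pp, tt])
  have h14 := W_step 1 13 (t := (2 : ℚ)) (by norm_num) N h13.1 h13.2
    (A' := (15174871 / 1000000 : ℚ)) (B' := (1853 / 1000000 : ℚ))
    (by norm_num [stepN, xx, yy, pp, tt]) (by norm_num [stepV, xx, yy, pp, tt])
  have h15 := W_step 1 14 (t := (2 : ℚ)) (by norm_num) N h14.1 h14.2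
    (A' := (607069 / 40000 : ℚ)) (B' := (927 / 1000000 : ℚ))
    (by norm_num [stepN, xx, yy, pp, tt]) (by norm_num [stepV, xx, yy, pp, tt])
  have h16 := W_step 1 15 (t := (2 : ℚ)) (by norm_num) N h15.1 h15.2
    (A' := (15177653 / 1000000 : ℚ)) (B' := (29 / 62500 : ℚ))
    (by norm_num [stepN, xx, yy, pp, tt]) (by norm_num [stepV, xx, yy, pp, tt])
  refine (add_le_add h16.1 h16.2).trans ?_
  norm_num

theorem W16_t2_d0 (N : ℕ) :
    W 0 2 16 N false + W 0 2 16 N true ≤ (25527667 / 1000000 : ℚ) * (1 - 3 * (1 / 2) ^ 16) := by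
  have h0 : W 0 (2 : ℚ) 0 N false ≤ (1 / 1 : ℚ) ∧ W 0 (2 : ℚ) 0 N true ≤ (0 / 1 : ℚ) := by
    simp [W_zero_levels]
  have h1 := W_step 0 0 (t := (2 : ℚ)) (by norm_num) N h0.1 h0.2
    (A' := (4 / 1 : ℚ)) (B' := (4 / 1 : ℚ))
    (by norm_num [stepN, xx, yy, pp, tt]) (by norm_num [stepV, xx, yy, pp, tt])
  have h2 := W_step 0 1 (t := (2 : ℚ)) (by norm_num) N h1.1 h1.2
    (A' := (2072381 / 200000 : ℚ)) (B' := (4571429 / 1000000 : ℚ))
    (by norm_num [stepN, xx, yy, pp, tt]) (by norm_num [stepV, xx, yy, pp, tt])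
  have h3 := W_step 0 2 (t := (2 : ℚ)) (by norm_num) N h2.1 h2.2
    (A' := (15999299 / 1000000 : ℚ)) (B' := (1865087 / 500000 : ℚ))
    (by norm_num [stepN, xx, yy, pp, tt]) (by norm_num [stepV, xx, yy, pp, tt])
  have h4 := W_step 0 3 (t := (2 : ℚ)) (by norm_num) N h3.1 h3.2
    (A' := (5022319 / 250000 : ℚ)) (B' := (1200337 / 500000 : ℚ))
    (by norm_num [stepN, xx, yy, pp, tt]) (by norm_num [stepV, xx, yy, pp, tt])
  have h5 := W_step 0 4 (t := (2 : ℚ)) (by norm_num) N h4.1 h4.2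
    (A' := (11297671 / 500000 : ℚ)) (B' := (344053 / 250000 : ℚ))
    (by norm_num [stepN, xx, yy, pp, tt]) (by norm_num [stepV, xx, yy, pp, tt])
  have h6 := W_step 0 5 (t := (2 : ℚ)) (by norm_num) N h5.1 h5.2
    (A' := (24000163 / 1000000 : ℚ)) (B' := (739519 / 1000000 : ℚ))
    (by norm_num [stepN, xx, yy, pp, tt]) (by norm_num [stepV, xx, yy, pp, tt])
  have h7 := W_step 0 6 (t := (2 : ℚ)) (by norm_num) N h6.1 h6.2
    (A' := (24747143 / 1000000 : ℚ)) (B' := (191913 / 500000 : ℚ))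
    (by norm_num [stepN, xx, yy, pp, tt]) (by norm_num [stepV, xx, yy, pp, tt])
  have h8 := W_step 0 7 (t := (2 : ℚ)) (by norm_num) N h7.1 h7.2
    (A' := (201063 / 8000 : ℚ)) (B' := (195607 / 1000000 : ℚ))
    (by norm_num [stepN, xx, yy, pp, tt]) (by norm_num [stepV, xx, yy, pp, tt])
  have h9 := W_step 0 8 (t := (2 : ℚ)) (by norm_num) N h8.1 h8.2
    (A' := (6332241 / 250000 : ℚ)) (B' := (98751 / 1000000 : ℚ))
    (by norm_num [stepN, xx, yy, pp, tt]) (by norm_num [stepV, xx, yy, pp, tt])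
  have h10 := W_step 0 9 (t := (2 : ℚ)) (by norm_num) N h9.1 h9.2
    (A' := (25427837 / 1000000 : ℚ)) (B' := (3101 / 62500 : ℚ))
    (by norm_num [stepN, xx, yy, pp, tt]) (by norm_num [stepV, xx, yy, pp, tt])
  have h11 := W_step 0 10 (t := (2 : ℚ)) (by norm_num) N h10.1 h10.2
    (A' := (6369371 / 250000 : ℚ)) (B' := (24869 / 1000000 : ℚ))
    (by norm_num [stepN, xx, yy, pp, tt]) (by norm_num [stepV, xx, yy, pp, tt])
  have h12 := W_step 0 11 (t := (2 : ℚ)) (by norm_num) N h11.1 h11.2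
    (A' := (25502361 / 1000000 : ℚ)) (B' := (249 / 20000 : ℚ))
    (by norm_num [stepN, xx, yy, pp, tt]) (by norm_num [stepV, xx, yy, pp, tt])
  have h13 := W_step 0 12 (t := (2 : ℚ)) (by norm_num) N h12.1 h12.2
    (A' := (25514813 / 1000000 : ℚ)) (B' := (6229 / 1000000 : ℚ))
    (by norm_num [stepN, xx, yy, pp, tt]) (by norm_num [stepV, xx, yy, pp, tt])
  have h14 := W_step 0 13 (t := (2 : ℚ)) (by norm_num) N h13.1 h13.2
    (A' := (25521043 / 1000000 : ℚ)) (B' := (779 / 250000 : ℚ))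
    (by norm_num [stepN, xx, yy, pp, tt]) (by norm_num [stepV, xx, yy, pp, tt])
  have h15 := W_step 0 14 (t := (2 : ℚ)) (by norm_num) N h14.1 h14.2
    (A' := (79763 / 3125 : ℚ)) (B' := (779 / 500000 : ℚ))
    (by norm_num [stepN, xx, yy, pp, tt]) (by norm_num [stepV, xx, yy, pp, tt])
  have h16 := W_step 0 15 (t := (2 : ℚ)) (by norm_num) N h15.1 h15.2
    (A' := (25525719 / 1000000 : ℚ)) (B' := (779 / 1000000 : ℚ))
    (by norm_num [stepN, xx, yy, pp, tt]) (by norm_num [stepV, xx, yy, pp, tt])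
  refine (add_le_add h16.1 h16.2).trans ?_
  norm_num

theorem W16_t0_d0 (N : ℕ) :
    W 0 0 16 N false + W 0 0 16 N true ≤ (145243 / 100000 : ℚ) * (1 - 3 * (1 / 2) ^ 16) := by
  have h0 : W 0 (0 : ℚ) 0 N false ≤ (1 / 1 : ℚ) ∧ W 0 (0 : ℚ) 0 N true ≤ (0 / 1 : ℚ) := by
    simp [W_zero_levels]
  have h1 := W_step 0 0 (t := (0 : ℚ)) (by norm_num) N h0.1 h0.2
    (A' := (666667 / 500000 : ℚ)) (B' := (0 / 1 : ℚ))
    (by norm_num [stepN, xx, yy, pp, tt]) (by norm_num [stepV, xx, yy, pp, tt])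
  have h2 := W_step 0 1 (t := (0 : ℚ)) (by norm_num) N h1.1 h1.2
    (A' := (1422223 / 1000000 : ℚ)) (B' := (0 / 1 : ℚ))
    (by norm_num [stepN, xx, yy, pp, tt]) (by norm_num [stepV, xx, yy, pp, tt])
  have h3 := W_step 0 2 (t := (0 : ℚ)) (by norm_num) N h2.1 h2.2
    (A' := (722399 / 500000 : ℚ)) (B' := (0 / 1 : ℚ))
    (by norm_num [stepN, xx, yy, pp, tt]) (by norm_num [stepV, xx, yy, pp, tt])
  have h4 := W_step 0 3 (t := (0 : ℚ)) (by norm_num) N h3.1 h3.2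
    (A' := (45327 / 31250 : ℚ)) (B' := (0 / 1 : ℚ))
    (by norm_num [stepN, xx, yy, pp, tt]) (by norm_num [stepV, xx, yy, pp, tt])
  have h5 := W_step 0 4 (t := (0 : ℚ)) (by norm_num) N h4.1 h4.2
    (A' := (725941 / 500000 : ℚ)) (B' := (0 / 1 : ℚ))
    (by norm_num [stepN, xx, yy, pp, tt]) (by norm_num [stepV, xx, yy, pp, tt])
  have h6 := W_step 0 5 (t := (0 : ℚ)) (by norm_num) N h5.1 h5.2
    (A' := (1452237 / 1000000 : ℚ)) (B' := (0 / 1 : ℚ))
    (by norm_num [stepN, xx, yy, pp, tt]) (by norm_num [stepV, xx, yy, pp, tt])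
  have h7 := W_step 0 6 (t := (0 : ℚ)) (by norm_num) N h6.1 h6.2
    (A' := (726163 / 500000 : ℚ)) (B' := (0 / 1 : ℚ))
    (by norm_num [stepN, xx, yy, pp, tt]) (by norm_num [stepV, xx, yy, pp, tt])
  have h8 := W_step 0 7 (t := (0 : ℚ)) (by norm_num) N h7.1 h7.2
    (A' := (1452349 / 1000000 : ℚ)) (B' := (0 / 1 : ℚ))
    (by norm_num [stepN, xx, yy, pp, tt]) (by norm_num [stepV, xx, yy, pp, tt])
  have h9 := W_step 0 8 (t := (0 : ℚ)) (by norm_num) N h8.1 h8.2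
    (A' := (290471 / 200000 : ℚ)) (B' := (0 / 1 : ℚ))
    (by norm_num [stepN, xx, yy, pp, tt]) (by norm_num [stepV, xx, yy, pp, tt])
  have h10 := W_step 0 9 (t := (0 : ℚ)) (by norm_num) N h9.1 h9.2
    (A' := (1452357 / 1000000 : ℚ)) (B' := (0 / 1 : ℚ))
    (by norm_num [stepN, xx, yy, pp, tt]) (by norm_num [stepV, xx, yy, pp, tt])
  have h11 := W_step 0 10 (t := (0 : ℚ)) (by norm_num) N h10.1 h10.2
    (A' := (726179 / 500000 : ℚ)) (B' := (0 / 1 : ℚ))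
    (by norm_num [stepN, xx, yy, pp, tt]) (by norm_num [stepV, xx, yy, pp, tt])
  have h12 := W_step 0 11 (t := (0 : ℚ)) (by norm_num) N h11.1 h11.2
    (A' := (1452359 / 1000000 : ℚ)) (B' := (0 / 1 : ℚ))
    (by norm_num [stepN, xx, yy, pp, tt]) (by norm_num [stepV, xx, yy, pp, tt])
  have h13 := W_step 0 12 (t := (0 : ℚ)) (by norm_num) N h12.1 h12.2
    (A' := (36309 / 25000 : ℚ)) (B' := (0 / 1 : ℚ))
    (by norm_num [stepN, xx, yy, pp, tt]) (by norm_num [stepV, xx, yy, pp, tt])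
  have h14 := W_step 0 13 (t := (0 : ℚ)) (by norm_num) N h13.1 h13.2
    (A' := (1452361 / 1000000 : ℚ)) (B' := (0 / 1 : ℚ))
    (by norm_num [stepN, xx, yy, pp, tt]) (by norm_num [stepV, xx, yy, pp, tt])
  have h15 := W_step 0 14 (t := (0 : ℚ)) (by norm_num) N h14.1 h14.2
    (A' := (726181 / 500000 : ℚ)) (B' := (0 / 1 : ℚ))
    (by norm_num [stepN, xx, yy, pp, tt]) (by norm_num [stepV, xx, yy, pp, tt])
  have h16 := W_step 0 15 (t := (0 : ℚ)) (by norm_num) N h15.1 h15.2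
    (A' := (1452363 / 1000000 : ℚ)) (B' := (0 / 1 : ℚ))
    (by norm_num [stepN, xx, yy, pp, tt]) (by norm_num [stepV, xx, yy, pp, tt])
  refine (add_le_add h16.1 h16.2).trans ?_
  norm_num

end Cfsg.Agent.UnipTwo
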