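/-
Counting normal forms: the weighted number of normal forms is bounded by an absolute constant.
-/
import Cfsg.Agent.Lib.UnipTwo.Normal
import Cfsg.Agent.Lib.UnipTwo.Numeric

set_option autoImplicit false
set_option linter.unusedSectionVars false

namespace Cfsg.Agent.UnipTwo

variable (d : ℕ) {K N : ℕ}

/-- A sequence of levels together with a choice of marks. -/
abbrev Code (K N : ℕ) := (Fin K → Entry N) × Finset (Fin K × Bool)

/-- The marks which may be chosen. -/
def free (f : Fin K → Entry N) : Finset (Fin K × Bool) :=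
  Finset.univ.filter fun p => if p.2 then freeE d p.1 (prevV f p.1) (f p.1) else freeO d p.1 (prevV f p.1) (f p.1)

/-- Half the dimension of a code. -/
def csize (c : Code K N) : ℕ := ∑ i : Fin K, esize i (c.1 i)

/-- The codes of a given size whose number of marks satisfies `P`. -/
def codes (K N m : ℕ) (P : ℕ → Bool) : Finset (Code K N) :=
  Finset.univ.filter fun c => c.2 ⊆ free d c.1 ∧ csize c = m ∧ P c.2.card = true

theorem pwt_eq (t : ℚ) (f : Fin K → Entry N) :
    pwt d t f = (1 / 2) ^ (∑ i : Fin K, esize i (f i)) * t ^ (free d f).card := by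
  simp only [pwt, wt, Finset.prod_mul_distrib, Finset.prod_pow_eq_pow_sum]
  congr 2
  rw [free, Finset.card_filter, Fintype.sum_prod_type]
  refine Finset.sum_congr rfl fun i _ => ?_
  rw [Fintype.sum_bool, nfree]
  cases freeE d i (prevV f i) (f i) <;> cases freeO d i (prevV f i) (f i) <;> simp <;> rfl

theorem sum_pwt (t : ℚ) (K N : ℕ) :
    ∑ f : Fin K → Entry N, pwt d t f = W d t K N false + W d t K N true := by
  rw [W, W, ← Finset.sum_add_distrib]
  exact Finset.sum_congr rfl fun f _ => by cases prevV f K <;> simp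

/-- The codes with any marks. -/
theorem sum_codes_le (K N n : ℕ) :
    ∑ m ∈ Finset.range n, ((codes d K N m fun _ => true).card : ℚ) * (1 / 2) ^ m ≤
      ∑ f : Fin K → Entry N, pwt d 2 f := by
  classical
  have h : ∀ m, ((codes d K N m fun _ => true).card : ℚ) * (1 / 2) ^ m =
      ∑ f : Fin K → Entry N, if ∑ i : Fin K, esize i (f i) = m then pwt d 2 f else 0 := fun m => by
    rw [codes, Finset.card_filter, Nat.cast_sum, Finset.sum_mul, Fintype.sum_prod_type]
    refine Finset.sum_congr rfl fun f _ => ?_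
    by_cases hm : ∑ i : Fin K, esize i (f i) = m
    · rw [if_pos hm, pwt_eq, hm, ← Finset.sum_mul, mul_comm]
      congr 1
      simp only [csize, hm, and_true, Nat.cast_ite, Nat.cast_one, Nat.cast_zero]
      rw [Finset.sum_boole, show (Finset.univ.filter fun S => S ⊆ free d f) = (free d f).powerset by ext; simp,
        Finset.card_powerset]
      norm_num
    · rw [if_neg hm]
      exact Finset.sum_eq_zero fun S _ => by simp [csize, hm]
  rw [Finset.sum_congr rfl fun m _ => h m, Finset.sum_comm]
  refine Finset.sum_le_sum fun f _ => ?_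
  rw [Finset.sum_ite_eq]
  split
  · exact le_rfl
  · rw [pwt_eq]; positivity

theorem sum_parity (s : Finset (Fin K × Bool)) (p : ℕ) :
    2 * ((s.powerset.filter fun S => S.card % 2 = p % 2).card : ℚ) ≤ 2 ^ s.card + (0 : ℚ) ^ s.card := by
  have h := Finset.sum_powerset_neg_one_pow_card (x := s)
  have hA : (((s.powerset.filter fun S => S.card % 2 = 0).card : ℤ) -
      ((s.powerset.filter fun S => S.card % 2 = 1).card : ℤ)) = if s = ∅ then 1 else 0 := by
    rw [← h, Finset.card_filter, Finset.card_filter, Nat.cast_sum, Nat.cast_sum, ← Finset.sum_sub_distrib]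
    refine Finset.sum_congr rfl fun S _ => ?_
    rcases Nat.even_or_odd S.card with he | ho
    · rw [he.neg_one_pow, if_pos (Nat.even_iff.1 he), if_neg (by rw [Nat.even_iff.1 he]; omega)]; simp
    · rw [ho.neg_one_pow, if_neg (by rw [Nat.odd_iff.1 ho]; omega), if_pos (Nat.odd_iff.1 ho)]; simp
  have hB : (s.powerset.filter fun S => S.card % 2 = 0).card + (s.powerset.filter fun S => S.card % 2 = 1).card =
      2 ^ s.card := by
    rw [← Finset.card_powerset, ← Finset.card_filter_add_card_filter_not (s := s.powerset) (fun S => S.card % 2 = 0)]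
    congr 2
    exact Finset.filter_congr fun S _ => by omega
  have key : 2 * ((s.powerset.filter fun S => S.card % 2 = p % 2).card : ℤ) ≤ 2 ^ s.card + (0 : ℤ) ^ s.card := by
    have hz : (if s = ∅ then (1 : ℤ) else 0) = (0 : ℤ) ^ s.card := by
      by_cases hs : s = ∅
      · simp [hs]
      · simp [hs, zero_pow (fun h0 => hs (Finset.card_eq_zero.1 h0))]
    have hB' : ((s.powerset.filter fun S => S.card % 2 = 0).card : ℤ) +
        ((s.powerset.filter fun S => S.card % 2 = 1).card : ℤ) = 2 ^ s.card := by exact_mod_cast hB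
    have h0 : (0 : ℤ) ≤ 0 ^ s.card := by positivity
    rcases Nat.mod_two_eq_zero_or_one p with hp | hp <;> rw [hp] <;> linarith [hA, hz]
  exact_mod_cast key

/-- The codes with marks of given parity. -/
theorem sum_codes_parity_le (K N n : ℕ) (p : ℕ → ℕ) :
    ∑ m ∈ Finset.range n, ((codes d K N m fun c => c % 2 == p m % 2).card : ℚ) * (1 / 2) ^ m ≤
      ((∑ f : Fin K → Entry N, pwt d 2 f) + ∑ f : Fin K → Entry N, pwt d 0 f) / 2 := by
  classical
  have h : ∀ m, ((codes d K N m fun c => c % 2 == p m % 2).card : ℚ) * (1 / 2) ^ m ≤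
      ∑ f : Fin K → Entry N, if ∑ i : Fin K, esize i (f i) = m then (pwt d 2 f + pwt d 0 f) / 2 else 0 := fun m => by
    rw [codes, Finset.card_filter, Nat.cast_sum, Finset.sum_mul, Fintype.sum_prod_type]
    refine Finset.sum_le_sum fun f _ => ?_
    by_cases hm : ∑ i : Fin K, esize i (f i) = m
    · rw [if_pos hm, ← Finset.sum_mul, pwt_eq, pwt_eq, hm, ← mul_add, mul_div_assoc, mul_comm]
      refine mul_le_mul_of_nonneg_left ?_ (by positivity)
      simp only [csize, hm, true_and, Nat.cast_ite, Nat.cast_one, Nat.cast_zero, beq_iff_eq]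
      rw [Finset.sum_boole, le_div_iff₀ (by norm_num : (0 : ℚ) < 2), mul_comm]
      refine le_of_eq_of_le ?_ (sum_parity (free d f) (p m))
      congr 3
      ext S
      simp
    · rw [if_neg hm]
      exact le_of_eq (Finset.sum_eq_zero fun S _ => by simp [csize, hm])
  refine (Finset.sum_le_sum fun m _ => h m).trans ?_
  rw [Finset.sum_comm, ← Finset.sum_add_distrib, Finset.sum_div]
  refine Finset.sum_le_sum fun f _ => ?_
  rw [Finset.sum_ite_eq]
  split
  · exact le_rfl
  · rw [pwt_eq, pwt_eq]; positivity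

/-! ### The code of a list of pieces -/

/-- A pair of blocks of size `2 k + 1`? -/
def Kind.isWo (k : ℕ) : Kind → Bool
  | .Wo j _ => j == k
  | _ => false

/-- A truncated multiplicity. -/
def clip (N n : ℕ) : Fin (N + 1) := ⟨min n N, by omega⟩

variable (N) in
/-- The code of a list. -/
def code (K : ℕ) (L : List Kind) : Code K N :=
  (fun i => (clip N (L.countP (Kind.isWo i)), clip 2 (L.countP (Kind.isV ((i : ℕ) + 1))),
      clip N (L.count (.We ((i : ℕ) + 1)))),
    Finset.univ.filter fun p => (if p.2 then Kind.V ((p.1 : ℕ) + 1) true else Kind.Wo p.1 true) ∈ L)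

/-- The contribution of a piece to a level, in half dimensions. -/
def Kind.lev (i : ℕ) (k : Kind) : ℕ :=
  (2 * i + 1) * (k.isWo i).toNat + (i + 1) * ((k.isV (i + 1)).toNat + 2 * (k == .We (i + 1)).toNat)

variable {d}

theorem Kind.sum_lev {k : Kind} (hok : k.Ok d) {m : ℕ} (hk : k.size ≤ 2 * m) (hK : m ≤ K) :
    2 * ∑ i : Fin K, k.lev i = k.size := by
  rw [Fin.sum_univ_eq_sum_range (fun i => k.lev i)]
  cases k with
  | V j b =>
    obtain ⟨h1, -⟩ := hok
    simp only [Kind.size] at hk ⊢
    rw [Finset.sum_eq_single (j - 1) (fun i _ hi => ?_) (fun h => absurd (Finset.mem_range.2 (by omega)) h)]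
    · have e : j - 1 + 1 = j := by omega
      simp [Kind.lev, Kind.isWo, Kind.isV, e, beq_eq_false_iff_ne.2 (by simp : Kind.V j b ≠ Kind.We j)]
    · simp [Kind.lev, Kind.isWo, Kind.isV]; omega
  | Wo j b =>
    simp only [Kind.size] at hk ⊢
    rw [Finset.sum_eq_single j (fun i _ hi => ?_) (fun h => absurd (Finset.mem_range.2 (by omega)) h)]
    · simp [Kind.lev, Kind.isWo, Kind.isV]
    · simp [Kind.lev, Kind.isWo, Kind.isV, Ne.symm hi]
  | We j =>
    have h1 : 1 ≤ j := hok
    simp only [Kind.size] at hk ⊢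
    rw [Finset.sum_eq_single (j - 1) (fun i _ hi => ?_) (fun h => absurd (Finset.mem_range.2 (by omega)) h)]
    · have e : j - 1 + 1 = j := by omega
      simp [Kind.lev, Kind.isWo, Kind.isV, e]; ring
    · simp [Kind.lev, Kind.isWo, Kind.isV]; omega

theorem sum_levels {m : ℕ} (hK : m ≤ K) : ∀ {L : List Kind}, (∀ k ∈ L, k.Ok d) → (L.map Kind.size).sum ≤ 2 * m →
    2 * ∑ i : Fin K, ((2 * (i : ℕ) + 1) * L.countP (Kind.isWo i) + ((i : ℕ) + 1) *
      (L.countP (Kind.isV ((i : ℕ) + 1)) + 2 * L.count (.We ((i : ℕ) + 1)))) = (L.map Kind.size).sum := by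
  intro L
  induction L with
  | nil => simp
  | cons k L ih =>
    intro hok hsum
    rw [List.map_cons, List.sum_cons] at hsum ⊢
    rw [← ih (fun k' hk' => hok k' (List.mem_cons_of_mem _ hk')) (by omega),
      ← Kind.sum_lev (hok k List.mem_cons_self) (m := m) (by omega) hK, ← mul_add, ← Finset.sum_add_distrib]
    congr 1
    refine Finset.sum_congr rfl fun i _ => ?_
    simp only [List.countP_cons, List.count_cons, Kind.lev]
    cases k.isWo i <;> cases k.isV ((i : ℕ) + 1) <;> cases (k == Kind.We ((i : ℕ) + 1)) <;> simp <;> ring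

theorem sum_bits {m : ℕ} (hK : m ≤ K) : ∀ {L : List Kind}, (∀ k ∈ L, k.Ok d) → (L.map Kind.size).sum ≤ 2 * m →
    ∑ i : Fin K, (L.count (.V ((i : ℕ) + 1) true) + L.count (.Wo i true)) = L.countP Kind.bit := by
  intro L
  induction L with
  | nil => simp
  | cons k L ih =>
    intro hok hsum
    rw [List.map_cons, List.sum_cons] at hsum
    rw [List.countP_cons, ← ih (fun k' hk' => hok k' (List.mem_cons_of_mem _ hk')) (by omega)]
    have hk := hok k List.mem_cons_self
    simp only [List.count_cons]
    have e : ∑ i : Fin K, ((if (k == Kind.V ((i : ℕ) + 1) true) = true then 1 else 0) +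
        (if (k == Kind.Wo (i : ℕ) true) = true then 1 else 0)) = if k.bit = true then 1 else 0 := by
      cases k with
      | V j b =>
        cases b
        · simp [Kind.bit]
        · obtain ⟨h1, -⟩ := hk
          simp only [Kind.size] at hsum
          rw [Finset.sum_eq_single ⟨j - 1, by omega⟩ (fun i _ hi => ?_) (fun h => absurd (Finset.mem_univ _) h)]
          · have e : j - 1 + 1 = j := by omega
            simp [Kind.bit, e]
          · have : (i : ℕ) ≠ j - 1 := fun h => hi (Fin.ext h)
            simp; omega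
      | Wo j b =>
        cases b
        · simp [Kind.bit]
        · simp only [Kind.size] at hsum
          rw [Finset.sum_eq_single ⟨j, by omega⟩ (fun i _ hi => ?_) (fun h => absurd (Finset.mem_univ _) h)]
          · simp [Kind.bit]
          · have : (i : ℕ) ≠ j := fun h => hi (Fin.ext h)
            simp; omega
      | We j => simp [Kind.bit]
    rw [← e, ← Finset.sum_add_distrib]
    exact Finset.sum_congr rfl fun i _ => by ring

theorem count_le_half {L : List Kind} (hok : ∀ k ∈ L, k.Ok d) {m : ℕ} (hsum : (L.map Kind.size).sum ≤ 2 * m) :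
    L.length ≤ m := by
  induction L generalizing m with
  | nil => exact Nat.zero_le _
  | cons k L ih =>
    rw [List.map_cons, List.sum_cons] at hsum
    have h1 : 2 ≤ k.size := by
      have hk := hok k List.mem_cons_self
      cases k with
      | V j b => obtain ⟨h, -⟩ := hk; simp only [Kind.size]; omega
      | Wo j b => simp only [Kind.size]; omega
      | We j => have h : 1 ≤ j := hk; simp only [Kind.size]; omega
    have := ih (fun k' hk' => hok k' (List.mem_cons_of_mem _ hk')) (m := m - 1) (by omega)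
    rw [List.length_cons]; omega

theorem countP_isV_pos {L : List Kind} {j : ℕ} (h : 0 < L.countP (Kind.isV j)) : ∃ c, Kind.V j c ∈ L := by
  obtain ⟨k, hk, hp⟩ := List.countP_pos_iff.1 h
  obtain ⟨c, rfl⟩ := Kind.eq_V_of_isV hp
  exact ⟨c, hk⟩

theorem code_mem {L : List Kind} (hok : ∀ k ∈ L, k.Ok d) (hnf : NF L) {m : ℕ}
    (hsum : (L.map Kind.size).sum = 2 * m) (hK : m ≤ K) (hN : m ≤ N) {P : ℕ → Bool}
    (hP : P (L.countP Kind.bit) = true) : code N K L ∈ codes d K N m P := by
  classical
  have hlen : ∀ p : Kind → Bool, L.countP p ≤ N := fun p =>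
    List.countP_le_length.trans ((count_le_half hok hsum.le).trans hN)
  have hcnt : ∀ k : Kind, L.count k ≤ N := fun k => hlen _
  have hf : ∀ i : Fin K, (((code N K L).1 i).1 : ℕ) = L.countP (Kind.isWo i) ∧
      (((code N K L).1 i).2.1 : ℕ) = L.countP (Kind.isV ((i : ℕ) + 1)) ∧
      (((code N K L).1 i).2.2 : ℕ) = L.count (.We ((i : ℕ) + 1)) := fun i =>
    ⟨min_eq_left (hlen _), min_eq_left (hnf.vv _), min_eq_left (hcnt _)⟩
  have hprev : ∀ i : Fin K, (∀ c, Kind.V (i : ℕ) c ∉ L) → prevV (code N K L).1 i = false := fun i hi => by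
    rw [prevV]
    split
    · rename_i h
      have hj : (i : ℕ) - 1 < K := by omega
      rw [Entry.hasV, decide_eq_false_iff_not, (hf ⟨(i : ℕ) - 1, hj⟩).2.1]
      intro hpos
      obtain ⟨c, hc⟩ := countP_isV_pos hpos
      rw [show (i : ℕ) - 1 + 1 = i by omega] at hc
      exact hi c hc
    · rfl
  refine Finset.mem_filter.2 ⟨Finset.mem_univ _, ?_, ?_, ?_⟩
  · rintro ⟨i, b⟩ hp
    have hp : (if b then Kind.V ((i : ℕ) + 1) true else Kind.Wo i true) ∈ L := (Finset.mem_filter.1 hp).2
    refine Finset.mem_filter.2 ⟨Finset.mem_univ _, ?_⟩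
    cases b
    · simp only [Bool.false_eq_true, if_false] at hp ⊢
      simp only [freeO, decide_eq_true_eq, (hf i).1, (hf i).2.1]
      refine ⟨List.countP_pos_iff.2 ⟨_, hp, by simp [Kind.isWo]⟩, ?_, hprev i fun c => hnf.wadj i c hp,
        hok _ hp rfl⟩
      by_contra h
      obtain ⟨c, hc⟩ := countP_isV_pos (Nat.pos_of_ne_zero h)
      exact hnf.wadj' i c hp hc
    · simp only [if_true] at hp ⊢
      simp only [freeE, decide_eq_true_eq, (hf i).2.1]
      exact ⟨List.countP_pos_iff.2 ⟨_, hp, by simp [Kind.isV]⟩, hprev i fun c => hnf.vadj i c hp,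
        Nat.le_of_succ_le_succ ((hok _ hp).2 rfl)⟩
  · have e := sum_levels hK hok hsum.le
    rw [hsum] at e
    have e' : csize (code N K L) = ∑ i : Fin K, ((2 * (i : ℕ) + 1) * L.countP (Kind.isWo i) + ((i : ℕ) + 1) *
        (L.countP (Kind.isV ((i : ℕ) + 1)) + 2 * L.count (.We ((i : ℕ) + 1)))) :=
      Finset.sum_congr rfl fun i _ => by rw [esize, (hf i).1, (hf i).2.1, (hf i).2.2]
    omega
  · have hc1 : ∀ k : Kind, L.count k ≤ 1 → (if k ∈ L then 1 else 0) = L.count k := fun k hk => by
      split
      · rename_i h; have := List.count_pos_iff.2 h; omega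
      · rename_i h; exact (List.count_eq_zero.2 h).symm
    have e : (code N K L).2.card = L.countP Kind.bit := by
      rw [← sum_bits hK hok hsum.le]
      simp only [code, Finset.card_filter, Fintype.sum_prod_type, Fintype.sum_bool, if_true, Bool.false_eq_true,
        if_false]
      exact Finset.sum_congr rfl fun i _ => by rw [hc1 _ (hnf.vbit _), hc1 _ (hnf.wbit _)]
    rwa [e]

theorem count_split (L : List Kind) (j : ℕ) :
    L.countP (Kind.isWo j) = L.count (.Wo j false) + L.count (.Wo j true) ∧
    L.countP (Kind.isV j) = L.count (.V j false) + L.count (.V j true) := by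
  induction L with
  | nil => simp
  | cons k L ih =>
    simp only [List.countP_cons, List.count_cons, ih.1, ih.2]
    cases k with
    | V i b => cases b <;> by_cases h : i = j <;> simp [Kind.isWo, Kind.isV, h] <;> omega
    | Wo i b => cases b <;> by_cases h : i = j <;> simp [Kind.isWo, Kind.isV, h] <;> omega
    | We i => simp [Kind.isWo, Kind.isV]

theorem code_inj {L L' : List Kind} (hok : ∀ k ∈ L, k.Ok d) (hok' : ∀ k ∈ L', k.Ok d) (hnf : NF L) (hnf' : NF L')
    {m : ℕ} (hsum : (L.map Kind.size).sum ≤ 2 * m) (hsum' : (L'.map Kind.size).sum ≤ 2 * m) (hK : m ≤ K)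
    (hN : m ≤ N) (h : code N K L = code N K L') : L.Perm L' := by
  classical
  have hlenL : L.length ≤ N := (count_le_half hok hsum).trans hN
  have hlenL' : L'.length ≤ N := (count_le_half hok' hsum').trans hN
  have hmem : ∀ k : Kind, k.Ok d → k.size ≤ 2 * m →
      L.count k = L'.count k := by
    intro k hk hsz
    have h1 := fun i => congrFun (congrArg Prod.fst h) i
    have h2 := congrArg Prod.snd h
    have hbit : ∀ (i : Fin K) (b : Bool) (k : Kind),
        (if b then Kind.V ((i : ℕ) + 1) true else Kind.Wo i true) = k → L.count k ≤ 1 → L'.count k ≤ 1 →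
        L.count k = L'.count k := by
      intro i b k hk h1' h2'
      have e := Finset.ext_iff.1 h2 (i, b)
      simp only [code, Finset.mem_filter, Finset.mem_univ, true_and, hk] at e
      by_cases hL : k ∈ L
      · have := List.count_pos_iff.2 hL
        have := List.count_pos_iff.2 (e.1 hL)
        omega
      · rw [List.count_eq_zero.2 hL, List.count_eq_zero.2 fun hL' => hL (e.2 hL')]
    cases k with
    | V j b =>
      obtain ⟨hj, -⟩ := hk
      simp only [Kind.size] at hsz
      obtain ⟨i, rfl⟩ : ∃ i, j = i + 1 := ⟨j - 1, by omega⟩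
      have hi : i < K := by omega
      have e := congrArg (fun e : Entry N => (e.2.1 : ℕ)) (h1 ⟨i, hi⟩)
      simp only [code, clip, min_eq_left (hnf.vv _), min_eq_left (hnf'.vv _)] at e
      have e' := hbit ⟨i, hi⟩ true _ rfl (hnf.vbit _) (hnf'.vbit _)
      rw [(count_split L _).2, (count_split L' _).2] at e
      cases b <;> simp only [if_true] at e' <;> omega
    | Wo j b =>
      simp only [Kind.size] at hsz
      have hi : j < K := by omega
      have e := congrArg (fun e : Entry N => (e.1 : ℕ)) (h1 ⟨j, hi⟩)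
      simp only [code, clip, min_eq_left (List.countP_le_length.trans hlenL),
        min_eq_left (List.countP_le_length.trans hlenL')] at e
      have e' := hbit ⟨j, hi⟩ false _ rfl (hnf.wbit _) (hnf'.wbit _)
      rw [(count_split L _).1, (count_split L' _).1] at e
      cases b <;> simp only [Bool.false_eq_true, if_false] at e' <;> omega
    | We j =>
      have hj : 1 ≤ j := hk
      simp only [Kind.size] at hsz
      obtain ⟨i, rfl⟩ : ∃ i, j = i + 1 := ⟨j - 1, by omega⟩
      have e := congrArg (fun e : Entry N => (e.2.2 : ℕ)) (h1 ⟨i, by omega⟩)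
      simpa only [code, clip, min_eq_left (List.count_le_length.trans hlenL),
        min_eq_left (List.count_le_length.trans hlenL')] using e
  refine List.perm_iff_count.2 fun k => ?_
  by_cases hk : k ∈ L ∨ k ∈ L'
  · rcases hk with hk | hk
    · exact hmem k (hok k hk) ((List.single_le_sum (fun x _ => Nat.zero_le x) _
        (List.mem_map_of_mem hk)).trans hsum)
    · exact hmem k (hok' k hk) ((List.single_le_sum (fun x _ => Nat.zero_le x) _
        (List.mem_map_of_mem hk)).trans hsum')
  · push Not at hk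
    rw [List.count_eq_zero.2 hk.1, List.count_eq_zero.2 hk.2]

variable (d) in
/-- The number of normal forms of half dimension `m`. -/
def U (n m : ℕ) : ℕ := (codes d (16 + n) n m fun _ => true).card

variable (d) in
/-- The number of normal forms of half dimension `m` with marks of parity `p`. -/
def Up (n m p : ℕ) : ℕ := (codes d (16 + n) n m fun c => c % 2 == p % 2).card

theorem card_le {X : Type*} [Finite X] (L : X → List Kind) (hok : ∀ x, ∀ k ∈ L x, k.Ok d) (hnf : ∀ x, NF (L x))
    {n m : ℕ} (hm : m ≤ n) (hsum : ∀ x, ((L x).map Kind.size).sum = 2 * m)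
    (hinj : ∀ x y, (L x).Perm (L y) → x = y) : Nat.card X ≤ U d n m := by
  classical
  rw [U, ← Nat.card_eq_finsetCard]
  refine Nat.card_le_card_of_injective (fun x => ⟨code n (16 + n) (L x),
    code_mem (hok x) (hnf x) (hsum x) (by omega) hm rfl⟩) fun x y hxy => hinj x y ?_
  exact code_inj (hok x) (hok y) (hnf x) (hnf y) (hsum x).le (hsum y).le (by omega) hm (congrArg Subtype.val hxy)

theorem card_le_parity {X : Type*} [Finite X] (L : X → List Kind) (hok : ∀ x, ∀ k ∈ L x, k.Ok d)
    (hnf : ∀ x, NF (L x)) {n m p : ℕ} (hm : m ≤ n) (hsum : ∀ x, ((L x).map Kind.size).sum = 2 * m)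
    (hp : ∀ x, (L x).countP Kind.bit % 2 = p % 2) (hinj : ∀ x y, (L x).Perm (L y) → x = y) :
    Nat.card X ≤ Up d n m p := by
  classical
  rw [Up, ← Nat.card_eq_finsetCard]
  refine Nat.card_le_card_of_injective (fun x => ⟨code n (16 + n) (L x),
    code_mem (hok x) (hnf x) (hsum x) (by omega) hm (by simpa using hp x)⟩) fun x y hxy => hinj x y ?_
  exact code_inj (hok x) (hok y) (hnf x) (hnf y) (hsum x).le (hsum y).le (by omega) hm (congrArg Subtype.val hxy)

theorem sum_U_le (n : ℕ) : ∑ m ∈ Finset.range (n + 1), (U 1 n m : ℚ) * (1 / 2) ^ m ≤ 15.2 := by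
  refine (sum_codes_le 1 _ _ _).trans ?_
  rw [sum_pwt]
  exact (W_total_le 1 (by norm_num) (by norm_num) n (C := 3794703 / 250000) (W16_t2_d1 n) (by norm_num) n).trans
    (by norm_num)

theorem sum_Up_le (n : ℕ) (p : ℕ → ℕ) :
    ∑ m ∈ Finset.range (n + 1), (Up 0 n m (p m) : ℚ) * (1 / 2) ^ m ≤ 14 := by
  refine (sum_codes_parity_le 0 _ _ _ p).trans ?_
  rw [sum_pwt, sum_pwt]
  have h2 := W_total_le 0 (by norm_num) (by norm_num) n (C := 25527667 / 1000000) (W16_t2_d0 n) (by norm_num) n
  have h0 := W_total_le 0 (le_refl 0) (by norm_num) n (C := 145243 / 100000) (W16_t0_d0 n) (by norm_num) n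
  linarith

end Cfsg.Agent.UnipTwo
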