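/-
Invariant symmetric forms of a matrix without eigenvalue `1` are congruent under its centraliser
(characteristic two).
-/
import Cfsg.Agent.Lib.Semisimple.UnitaryConj

set_option autoImplicit false
set_option linter.unusedSectionVars false

open Matrix

namespace Cfsg.Agent.UnipTwo

variable {F : Type*} [Field F] [Finite F] [CharP F 2] {κ : Type*} [Fintype κ] [DecidableEq κ]

theorem exists_congr_noUnit {G Y Y' : Matrix κ κ F} (hm : (G - 1).det ≠ 0) (hY : Yᵀ = Y) (hYd : Y.det ≠ 0)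
    (hG : Gᵀ * Y * G = Y) (hY' : Y'ᵀ = Y') (hY'd : Y'.det ≠ 0) (hG' : Gᵀ * Y' * G = Y') :
    ∃ c, c * G = G * c ∧ cᵀ * Y * c = Y' := by
  classical
  have hGd : IsUnit G.det := by
    refine isUnit_iff_ne_zero.2 fun h0 => hYd ?_
    rw [← hG, det_mul, h0, mul_zero]
  have hYu : IsUnit Y.det := isUnit_iff_ne_zero.2 hYd
  have hi1 : G⁻¹ * G = 1 := Matrix.nonsing_inv_mul _ hGd
  have hi2 : G * G⁻¹ = 1 := Matrix.mul_nonsing_inv _ hGd
  have hGY : ∀ Z : Matrix κ κ F, Gᵀ * Z * G = Z → Gᵀ * Z = Z * G⁻¹ ∧ (G⁻¹)ᵀ * Z = Z * G := fun Z hZ => by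
    constructor
    · calc Gᵀ * Z = Gᵀ * Z * G * G⁻¹ := by rw [Matrix.mul_assoc _ G, hi2, Matrix.mul_one]
        _ = Z * G⁻¹ := by rw [hZ]
    · calc (G⁻¹)ᵀ * Z = (G⁻¹)ᵀ * (Gᵀ * Z * G) := by rw [hZ]
        _ = (G * G⁻¹)ᵀ * Z * G := by rw [transpose_mul]; simp only [Matrix.mul_assoc]
        _ = Z * G := by rw [hi2, transpose_one, Matrix.one_mul]
  obtain ⟨hGYi, hGiY⟩ := hGY Y hG
  obtain ⟨hGY'i, -⟩ := hGY Y' hG'
  set M := Y⁻¹ * Y' with hMdef
  have hGiM : G⁻¹ * M = M * G⁻¹ := by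
    calc G⁻¹ * M = Y⁻¹ * (Y * G⁻¹) * M := by
          rw [← Matrix.mul_assoc Y⁻¹, Matrix.nonsing_inv_mul _ hYu, Matrix.one_mul]
      _ = Y⁻¹ * (Gᵀ * (Y * Y⁻¹) * Y') := by rw [← hGYi, hMdef]; simp only [Matrix.mul_assoc]
      _ = Y⁻¹ * (Gᵀ * Y') := by rw [Matrix.mul_nonsing_inv _ hYu, Matrix.mul_one]
      _ = M * G⁻¹ := by rw [hGY'i, hMdef, Matrix.mul_assoc]
  have hMGi : Commute M G⁻¹ := hGiM.symm
  have hMG : Commute M G := by
    show M * G = G * M
    calc M * G = G * (G⁻¹ * M) * G := by rw [← Matrix.mul_assoc, hi2, Matrix.one_mul]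
      _ = G * M := by rw [hGiM, Matrix.mul_assoc, Matrix.mul_assoc, hi1, Matrix.mul_one]
  set z := G + G⁻¹ with hz
  have hGz : Commute z G := (Commute.refl G).add_left (hi1.trans hi2.symm)
  have hzu : IsUnit z.det := by
    have e : z = G⁻¹ * ((G - 1) * (G - 1)) := by
      have hneg : ∀ A : Matrix κ κ F, -A = A := fun A => by
        rw [neg_eq_iff_add_eq_zero, ← two_smul F A, CharTwo.two_eq_zero, zero_smul]
      have e2 : (G - 1) * (G - 1) = G * G + 1 := by
        have h := hneg G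
        rw [show (G - 1) * (G - 1) = G * G + 1 + (-G + -G) by noncomm_ring]
        nth_rw 1 [h]
        rw [add_neg_cancel, add_zero]
      rw [hz, e2, mul_add, Matrix.mul_one, ← Matrix.mul_assoc, hi1, Matrix.one_mul]
    rw [e, det_mul, det_mul]
    exact (Matrix.isUnit_nonsing_inv_det _ hGd).mul
      ((isUnit_iff_ne_zero.2 hm).mul (isUnit_iff_ne_zero.2 hm))
  have hMz : Commute M z := hMG.add_right hMGi
  have hzY : zᵀ * Y = Y * z := by
    rw [hz, transpose_add, Matrix.add_mul, hGYi, hGiY, mul_add, add_comm]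
  have hMY : Mᵀ * Y = Y * M := by
    rw [hMdef, transpose_mul, hY', Matrix.mul_assoc,
      show (Y⁻¹)ᵀ * Y = (Y⁻¹)ᵀ * Yᵀ by rw [hY], ← transpose_mul,
      Matrix.mul_nonsing_inv _ hYu, transpose_one, Matrix.mul_one, ← Matrix.mul_assoc,
      Matrix.mul_nonsing_inv _ hYu, Matrix.one_mul]
  let S : Set (Matrix κ κ F) := {M, z}
  have hS : ∀ A ∈ S, ∀ B ∈ S, A * B = B * A := by
    rintro A (rfl | rfl) B (rfl | rfl)
    · rfl
    · exact hMz.eq
    · exact hMz.eq.symm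
    · rfl
  letI := Subring.closureCommRingOfComm hS
  have hcl : ∀ a b : Subring.closure S, (a.1 * b.1 : Matrix κ κ F) = b.1 * a.1 := fun a b =>
    congrArg Subtype.val (mul_comm a b)
  have hprop : ∀ A, A ∈ Subring.closure S → Aᵀ * Y = Y * A ∧ Commute A G ∧ Commute A G⁻¹ := by
    intro A hA
    induction hA using Subring.closure_induction with
    | mem A hA =>
      rcases hA with rfl | rfl
      · exact ⟨hMY, hMG, hMGi⟩
      · exact ⟨hzY, hGz, (show Commute G G⁻¹ from hi2.trans hi1.symm).add_left (Commute.refl _)⟩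
    | zero => exact ⟨by simp, Commute.zero_left _, Commute.zero_left _⟩
    | one => exact ⟨by simp, Commute.one_left _, Commute.one_left _⟩
    | add A B _ _ hA hB =>
      exact ⟨by rw [transpose_add, Matrix.add_mul, hA.1, hB.1, Matrix.mul_add], hA.2.1.add_left hB.2.1,
        hA.2.2.add_left hB.2.2⟩
    | neg A _ hA =>
      exact ⟨by rw [transpose_neg, Matrix.neg_mul, hA.1, Matrix.mul_neg], hA.2.1.neg_left, hA.2.2.neg_left⟩
    | mul A B hAm hBm hA hB =>
      refine ⟨?_, hA.2.1.mul_left hB.2.1, hA.2.2.mul_left hB.2.2⟩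
      rw [transpose_mul, Matrix.mul_assoc, hA.1, ← Matrix.mul_assoc, hB.1, Matrix.mul_assoc]
      exact congrArg (Y * ·) (hcl ⟨B, hBm⟩ ⟨A, hAm⟩)
  have hunit : ∀ x : Subring.closure S, IsUnit (x : Matrix κ κ F) → IsUnit x := by
    rintro x ⟨u, hu⟩
    refine IsUnit.of_mul_eq_one (x ^ (orderOf u - 1)) (Subtype.ext ?_)
    push_cast
    rw [← pow_succ', Nat.sub_add_cancel (orderOf_pos u), ← hu, ← Units.val_pow_eq_pow_val,
      pow_orderOf_eq_one, Units.val_one]
  set w : Subring.closure S := ⟨z, Subring.subset_closure (Or.inr rfl)⟩ with hw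
  have hMu : IsUnit (⟨M, Subring.subset_closure (Or.inl rfl)⟩ : Subring.closure S) := hunit _ (by
    rw [Matrix.isUnit_iff_isUnit_det]
    show IsUnit M.det
    rw [hMdef, det_mul]
    exact (Matrix.isUnit_nonsing_inv_det _ hYu).mul (isUnit_iff_ne_zero.2 hY'd))
  have h4 : ((4 : Subring.closure S) : Matrix κ κ F) = 0 := by
    rw [show ((4 : Subring.closure S) : Matrix κ κ F) = 4 from map_ofNat (Subring.closure S).subtype 4,
      ← map_ofNat (algebraMap F (Matrix κ κ F)) 4,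
      show (4 : F) = 2 * 2 by norm_num, CharTwo.two_eq_zero, mul_zero, map_zero]
  have hd : IsUnit (w * w - 4 * 1) := hunit _ (by
    push_cast
    rw [h4, Matrix.zero_mul, sub_zero, hw, Matrix.isUnit_iff_isUnit_det, det_mul]
    exact hzu.mul hzu)
  obtain ⟨a, b, hab⟩ := UnitaryConj.exists_norm_eq hd hMu
  have hab' : (a : Matrix κ κ F) * a + z * (a : Matrix κ κ F) * b + (b : Matrix κ κ F) * b = M := by
    have h := congrArg Subtype.val hab
    simpa [hw] using h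
  obtain ⟨haY, haG, haGi⟩ := hprop _ a.2
  obtain ⟨hbY, hbG, hbGi⟩ := hprop _ b.2
  refine ⟨(a : Matrix κ κ F) + G * (b : Matrix κ κ F), (haG.add_left ((Commute.refl G).mul_left hbG)).eq, ?_⟩
  have hct : ((a : Matrix κ κ F) + G * (b : Matrix κ κ F))ᵀ * Y =
      Y * ((a : Matrix κ κ F) + G⁻¹ * (b : Matrix κ κ F)) := by
    rw [transpose_add, transpose_mul, Matrix.add_mul, haY, Matrix.mul_assoc, hGYi, ← Matrix.mul_assoc, hbY,
      Matrix.mul_assoc, hbGi.eq, Matrix.mul_add]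
  have hprod : ((a : Matrix κ κ F) + G⁻¹ * (b : Matrix κ κ F)) * ((a : Matrix κ κ F) + G * (b : Matrix κ κ F)) = M := by
    rw [← hab', add_mul, mul_add, mul_add, hz, add_mul, add_mul]
    have e1 : (a : Matrix κ κ F) * (G * (b : Matrix κ κ F)) = G * (a : Matrix κ κ F) * (b : Matrix κ κ F) := by
      rw [← Matrix.mul_assoc, haG.eq]
    have e2 : G⁻¹ * (b : Matrix κ κ F) * (a : Matrix κ κ F) = G⁻¹ * (a : Matrix κ κ F) * (b : Matrix κ κ F) := by
      rw [Matrix.mul_assoc, hcl b a, ← Matrix.mul_assoc]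
    have e3 : G⁻¹ * (b : Matrix κ κ F) * (G * (b : Matrix κ κ F)) = (b : Matrix κ κ F) * (b : Matrix κ κ F) := by
      rw [Matrix.mul_assoc G⁻¹, ← Matrix.mul_assoc (b : Matrix κ κ F), hbG.eq, Matrix.mul_assoc G, ← Matrix.mul_assoc,
        hi1, Matrix.one_mul]
    rw [e1, e2, e3]
    abel
  rw [hct, Matrix.mul_assoc, hprod, hMdef, ← Matrix.mul_assoc, Matrix.mul_nonsing_inv _ hYu, Matrix.one_mul]

end Cfsg.Agent.UnipTwo
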