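/-
The invariants of an isometry without eigenvalue `1` (characteristic two) and their number.
-/
import Cfsg.Agent.Lib.GL.SpData

set_option autoImplicit false
set_option linter.unusedSectionVars false

open Polynomial Module
open scoped Classical Matrix

namespace Cfsg.Agent.UnipTwo

open Cfsg.Agent.GL.ClassNumber Cfsg.Agent.GL.ClassData

universe u

variable {F : Type u} [Field F] [CharP F 2]

/-- Monic palindromic polynomials without the root `1`. -/
def RD (P : F[X]) : Prop := P.Monic ∧ P.reverse = P ∧ P.eval 1 ≠ 0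

theorem rd_one : RD (1 : F[X]) := ⟨monic_one, by rw [show (1 : F[X]) = C 1 from C_1.symm, reverse_C], by simp⟩

theorem RD.coeff_sub {P : F[X]} (h : RD P) {i : ℕ} (hi : i ≤ P.natDegree) :
    P.coeff (P.natDegree - i) = P.coeff i := by
  have e := congrArg (fun R => coeff R i) h.2.1
  simpa [coeff_reverse, revAt_le hi] using e

theorem RD.coeff_zero {P : F[X]} (h : RD P) : P.coeff 0 = 1 := by
  have := h.coeff_sub (Nat.zero_le _)
  rwa [Nat.sub_zero, h.1.coeff_natDegree, eq_comm] at this

theorem RD.eval_eq {P : F[X]} (h : RD P) : P.eval 1 = if Even P.natDegree then P.coeff (P.natDegree / 2) else 0 := by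
  rw [eval_eq_sum_range]
  simp only [one_pow, mul_one]
  have hinv : ∀ s : Finset ℕ, (∀ i ∈ s, i ≤ P.natDegree ∧ 2 * i ≠ P.natDegree ∧ P.natDegree - i ∈ s) →
      ∑ i ∈ s, P.coeff i = 0 := fun s hs => by
    refine Finset.sum_involution (fun i _ => P.natDegree - i) (fun i hi => ?_) (fun i hi _ => ?_)
      (fun i hi => (hs i hi).2.2) (fun i hi => ?_)
    · rw [h.coeff_sub (hs i hi).1, CharTwo.add_self_eq_zero]
    · have := hs i hi; omega
    · have := hs i hi; omega
  split
  · rename_i he
    obtain ⟨b, hb⟩ := he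
    rw [← Finset.add_sum_erase _ _ (Finset.mem_range.2 (show P.natDegree / 2 < P.natDegree + 1 by omega)),
      hinv _ (fun i hi => ?_), add_zero]
    simp only [Finset.mem_erase, Finset.mem_range] at hi ⊢
    omega
  · rename_i he
    refine hinv _ (fun i hi => ?_)
    simp only [Finset.mem_range] at hi ⊢
    exact ⟨by omega, fun e => he ⟨i, by omega⟩, by omega⟩

theorem RD.even {P : F[X]} (h : RD P) : Even P.natDegree := by
  by_contra he
  exact h.2.2 (by rw [h.eval_eq, if_neg he])

theorem RD.mid_ne_zero {P : F[X]} (h : RD P) : P.coeff (P.natDegree / 2) ≠ 0 := by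
  have := h.2.2
  rwa [h.eval_eq, if_pos h.even] at this

/-- The half of a palindromic polynomial. -/
noncomputable def half (P : F[X]) : F[X] :=
  X ^ (P.natDegree / 2) +
    ∑ i : Fin (P.natDegree / 2), C (P.coeff (if (i : ℕ) = 0 then P.natDegree / 2 else i)) * X ^ (i : ℕ)

theorem half_coeff (P : F[X]) {i : ℕ} (hi : i < P.natDegree / 2) :
    (half P).coeff i = P.coeff (if i = 0 then P.natDegree / 2 else i) := by
  rw [half, coeff_add, coeff_X_pow, if_neg hi.ne, zero_add, finset_sum_coeff,
    Finset.sum_eq_single (⟨i, hi⟩ : Fin (P.natDegree / 2))]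
  · simp
  · intro j _ hj
    rw [coeff_C_mul, coeff_X_pow, if_neg (fun e : i = (j : ℕ) => hj (Fin.ext e.symm)), mul_zero]
  · exact fun h => absurd (Finset.mem_univ _) h

theorem half_monic (P : F[X]) : (half P).Monic ∧ (half P).natDegree = P.natDegree / 2 := by
  have hlt : degree (∑ i : Fin (P.natDegree / 2),
      C (P.coeff (if (i : ℕ) = 0 then P.natDegree / 2 else i)) * X ^ (i : ℕ)) < (P.natDegree / 2 : ℕ) := by
    refine lt_of_le_of_lt (degree_sum_le _ _) ((Finset.sup_lt_iff (WithBot.bot_lt_coe _)).2 fun i _ => ?_)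
    exact lt_of_le_of_lt (degree_C_mul_X_pow_le _ _) (WithBot.coe_lt_coe.2 i.2)
  refine ⟨monic_X_pow_add hlt, ?_⟩
  rw [half]
  refine natDegree_eq_of_degree_eq_some ?_
  rw [degree_add_eq_left_of_degree_lt (by rwa [degree_X_pow]), degree_X_pow]

theorem RD.half_coeff_zero {P : F[X]} (h : RD P) : (half P).coeff 0 ≠ 0 := by
  rcases Nat.eq_zero_or_pos (P.natDegree / 2) with h0 | h0
  · have e := (half_monic P).1.coeff_natDegree
    rw [(half_monic P).2, h0] at e
    rw [e]; exact one_ne_zero
  · rw [half_coeff P h0, if_pos rfl]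
    exact h.mid_ne_zero

theorem RD.half_inj {P Q : F[X]} (h : RD P) (h' : RD Q) (e : half P = half Q) : P = Q := by
  have hd : P.natDegree / 2 = Q.natDegree / 2 := by rw [← (half_monic P).2, ← (half_monic Q).2, e]
  have hdeg : P.natDegree = Q.natDegree := by
    obtain ⟨a, ha⟩ := h.even
    obtain ⟨b, hb⟩ := h'.even
    omega
  have key : ∀ i, i ≤ P.natDegree / 2 → P.coeff i = Q.coeff i := by
    intro i hi
    rcases Nat.eq_zero_or_pos i with rfl | hpos
    · rw [h.coeff_zero, h'.coeff_zero]
    rcases eq_or_lt_of_le hi with hi | hi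
    · have e' := congrArg (fun R => coeff R 0) e
      rw [half_coeff P (by omega), half_coeff Q (by omega), if_pos rfl, if_pos rfl] at e'
      rw [hi, e', hd]
    · have e' := congrArg (fun R => coeff R i) e
      rwa [half_coeff P hi, half_coeff Q (by omega), if_neg hpos.ne', if_neg hpos.ne'] at e'
  refine Polynomial.ext fun i => ?_
  rcases le_or_gt i (P.natDegree / 2) with hi | hi
  · exact key i hi
  rcases le_or_gt i P.natDegree with hi' | hi'
  · rw [← Nat.sub_sub_self hi', h.coeff_sub (Nat.sub_le _ _), key _ (by omega), hdeg,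
      h'.coeff_sub (Nat.sub_le _ _)]
  · rw [coeff_eq_zero_of_natDegree_lt hi', coeff_eq_zero_of_natDegree_lt (hdeg ▸ hi')]

/-- The invariants of isometries of dimension `2 a` without eigenvalue `1`. -/
def RestT (F : Type u) [Field F] (N a : ℕ) : Type u :=
  {r : Fin N → F[X] // (∀ e, RD (r e)) ∧ ∑ e : Fin N, ((e : ℕ) + 1) * (r e).natDegree = 2 * a}

theorem restT_bound [Fintype F] (N a : ℕ) : Finite (RestT F N a) ∧ Nat.card (RestT F N a) ≤ Fintype.card F ^ a := by
  obtain ⟨hfin, hcard, -⟩ := seq_bound (F := F) N a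
  let φ : RestT F N a → Seq F N a := fun r => ⟨fun e => half (r.1 e),
    fun e => ⟨(half_monic _).1, (r.2.1 e).half_coeff_zero⟩, by
      show ∑ e : Fin N, ((e : ℕ) + 1) * (half (r.1 e)).natDegree = a
      have h2 := r.2.2
      have : ∀ e : Fin N, ((e : ℕ) + 1) * (r.1 e).natDegree = 2 * (((e : ℕ) + 1) * (half (r.1 e)).natDegree) :=
        fun e => by
          obtain ⟨b, hb⟩ := (r.2.1 e).even
          rw [(half_monic _).2, hb, show (b + b) / 2 = b by omega]
          ring
      rw [Finset.sum_congr rfl fun e _ => this e, ← Finset.mul_sum] at h2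
      omega⟩
  have hφ : Function.Injective φ := fun r r' h => Subtype.ext <| funext fun e =>
    (r.2.1 e).half_inj (r'.2.1 e) (congrFun (congrArg Subtype.val h) e)
  exact ⟨Finite.of_injective φ hφ, (Nat.card_le_card_of_injective φ hφ).trans hcard⟩

/-- The data of an isometry without eigenvalue `1` are palindromic without the root `1`. -/
theorem rd_of_fits {c : ℕ} {G Y : Matrix (Fin c) (Fin c) F} (hY : Y.det ≠ 0 ∧ Gᵀ * Y * G = Y)
    (hm : (G - 1).det ≠ 0) {r : Seq F c c} (hr : FitsM G r) (e : Fin c) : RD (r.1 e) := by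
  obtain ⟨hmon, h0⟩ := r.2.1 e
  have hd := GL.SpData.rdual_data hY hr e
  have hev : (r.1 e).eval 1 ≠ 0 := by
    intro hev
    obtain ⟨κ, _, P, k, hP, hk, hg, ⟨ψ⟩⟩ := hr
    rw [← hg e, eval_prod, Finset.prod_eq_zero_iff] at hev
    obtain ⟨i, -, hi⟩ := hev
    have hPi : P i = X - C 1 := by
      refine (eq_of_monic_of_associated (monic_X_sub_C 1) (hP i).1 ?_).symm
      exact (irreducible_X_sub_C (1 : F)).associated_of_dvd (hP i).2 (dvd_iff_isRoot.2 hi)
    obtain ⟨v, hv⟩ := (Module.AEval'.of (Matrix.toLin' G)).surjective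
      (ψ.symm (Pi.single i (Submodule.Quotient.mk ((X - C (1 : F)) ^ (k i - 1)))))
    refine hm (Matrix.exists_mulVec_eq_zero_iff.1 ⟨v, ?_, ?_⟩)
    · intro hv0
      rw [hv0, map_zero, eq_comm, LinearEquiv.map_eq_zero_iff, Pi.single_eq_zero_iff,
        Submodule.Quotient.mk_eq_zero, Submodule.mem_span_singleton] at hv
      obtain ⟨a, ha⟩ := hv
      rw [smul_eq_mul, hPi, ← Nat.sub_add_cancel (hk i).1, pow_succ, ← mul_assoc, Nat.add_sub_cancel] at ha
      have hne : ((X - C (1 : F)) ^ (k i - 1)) ≠ 0 := pow_ne_zero _ (X_sub_C_ne_zero 1)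
      have : (a * (X - C (1 : F))) = 1 := mul_left_cancel₀ hne (by linear_combination ha)
      exact (irreducible_X_sub_C (1 : F)).not_isUnit (IsUnit.of_mul_eq_one_right _ this)
    · refine (Module.AEval'.of (Matrix.toLin' G)).injective ?_
      have e2 : (G - 1) *ᵥ v = Matrix.toLin' G v - (1 : F) • v := by
        rw [Matrix.sub_mulVec, Matrix.one_mulVec, one_smul]; rfl
      rw [e2, map_sub, map_smul, map_zero, ← Module.AEval'.X_smul_of, hv, ← algebraMap_smul F[X] (1 : F), ← sub_smul,
        ← map_smul, LinearEquiv.map_eq_zero_iff, ← Pi.single_smul, Pi.single_eq_zero_iff,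
        ← Submodule.Quotient.mk_smul, Submodule.Quotient.mk_eq_zero, Submodule.mem_span_singleton]
      refine ⟨1, ?_⟩
      rw [one_smul, smul_eq_mul, hPi, show algebraMap F F[X] 1 = C 1 from rfl, ← pow_succ', Nat.sub_add_cancel (hk i).1]
  have hrev : (r.1 e).reverse = C ((r.1 e).coeff 0) * r.1 e := by
    conv_rhs => arg 2; rw [← hd]
    rw [GL.SpData.rdual, ← mul_assoc, ← C_mul, mul_inv_cancel₀ h0, C_1, one_mul]
  have e0 := congrArg (fun R => coeff R 0) hrev
  simp only [coeff_zero_reverse, hmon.leadingCoeff, coeff_C_mul] at e0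
  have h1 : (r.1 e).coeff 0 = 1 := by
    refine sub_eq_zero.1 (mul_self_eq_zero.1 ?_)
    linear_combination -e0 + (1 - (r.1 e).coeff 0) * CharTwo.two_eq_zero (R := F)
  exact ⟨hmon, by rw [hrev, h1, C_1, one_mul], hev⟩

end Cfsg.Agent.UnipTwo
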