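/-
An isometry in characteristic two splits into a unipotent part and a part without eigenvalue `1`.
-/
import Cfsg.Agent.Lib.UnipTwo.Space

set_option autoImplicit false
set_option linter.unusedSectionVars false

namespace Cfsg.Agent.UnipTwo

variable {F : Type*} [Field F] [CharP F 2] [Finite F] {V : Type*} [AddCommGroup V] [Module F V]
  [FiniteDimensional F V] {d : ℕ}

theorem add_self_V {W : Type*} [AddCommGroup W] [Module F W] (x : W) : x + x = 0 := two_zero F x

theorem sub_eq_add_V {W : Type*} [AddCommGroup W] [Module F W] (x y : W) : x - y = x + y := by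
  rw [sub_eq_iff_eq_add, add_assoc, add_self_V (F := F), add_zero]

/-- The splitting of an isometry. -/
structure Parts (Φ : Space F V d) (g : Φ.grp) where
  K : Submodule F V
  R : Submodule F V
  isCompl : IsCompl K R
  memK : ∀ x ∈ K, (g : V ≃ₗ[F] V) x ∈ K ∧ (g : V ≃ₗ[F] V).symm x ∈ K
  memR : ∀ x ∈ R, (g : V ≃ₗ[F] V) x ∈ R
  orth : ∀ x ∈ K, ∀ y ∈ R, Φ.B x y = 0
  nil : ∃ N : ℕ, ∀ x ∈ K, (((g : V ≃ₗ[F] V) : Module.End F V) - 1) ^ N • x = 0
  inj : ∀ x ∈ R, (g : V ≃ₗ[F] V) x = x → x = 0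

theorem exists_parts (Φ : Space F V d) (g : Φ.grp) : Nonempty (Parts Φ g) := by
  obtain ⟨g, hg⟩ := g
  set A : Module.End F V := (g : Module.End F V) - 1 with hA
  set A' : Module.End F V := (g.symm : Module.End F V) - 1 with hA'
  obtain ⟨N, hN⟩ := Filter.eventually_atTop.1 A.eventually_isCompl_ker_pow_range_pow
  have h : IsCompl (LinearMap.ker (A ^ (N + 1))) (LinearMap.range (A ^ (N + 1))) := hN (N + 1) (Nat.le_succ N)
  have hgg : (g : Module.End F V) * (g.symm : Module.End F V) = 1 := by ext x; simp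
  have hgg' : (g.symm : Module.End F V) * (g : Module.End F V) = 1 := by ext x; simp
  have hcg : Commute A (g : Module.End F V) := (Commute.refl _).sub_left (Commute.one_left _)
  have hcg' : Commute A (g.symm : Module.End F V) :=
    (show Commute (g : Module.End F V) (g.symm : Module.End F V) from hgg.trans hgg'.symm).sub_left (Commute.one_left _)
  have hfac : A' = -((g.symm : Module.End F V) * A) := by rw [hA', hA, mul_sub, hgg', mul_one]; abel
  have hcomm : Commute (g.symm : Module.End F V) A := hcg'.symm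
  have hadj : ∀ (M : ℕ) (x y : V), Φ.B x ((A ^ M) y) = Φ.B ((A' ^ M) x) y := by
    intro M
    induction M with
    | zero => intro x y; rfl
    | succ M ih =>
      intro x y
      have e : ∀ x y, Φ.B x (A y) = Φ.B (A' x) y := fun x y => by
        have e1 : Φ.B x (g y) = Φ.B (g.symm x) y := by
          conv_lhs => rw [← g.apply_symm_apply x, hg.1]
        simp only [hA, hA', LinearMap.sub_apply, Module.End.one_apply, map_sub, LinearEquiv.coe_coe, e1]
      rw [pow_succ, Module.End.mul_apply, ih, e, pow_succ', Module.End.mul_apply]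
  refine ⟨⟨LinearMap.ker (A ^ (N + 1)), LinearMap.range (A ^ (N + 1)), h, fun x hx => ?_, fun x hx => ?_,
    fun x hx y hy => ?_, ⟨N + 1, fun x hx => LinearMap.mem_ker.1 hx⟩, fun x hx hfix => ?_⟩⟩
  · rw [LinearMap.mem_ker] at hx
    have e1 := LinearMap.congr_fun (hcg.pow_left (N + 1)).eq x
    have e2 := LinearMap.congr_fun (hcg'.pow_left (N + 1)).eq x
    rw [Module.End.mul_apply, Module.End.mul_apply, hx, map_zero] at e1 e2
    exact ⟨LinearMap.mem_ker.2 e1, LinearMap.mem_ker.2 e2⟩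
  · obtain ⟨w, rfl⟩ := LinearMap.mem_range.1 hx
    exact ⟨g w, LinearMap.congr_fun (hcg.pow_left (N + 1)).eq w⟩
  · obtain ⟨w, rfl⟩ := LinearMap.mem_range.1 hy
    rw [LinearMap.mem_ker] at hx
    rw [hadj, hfac, neg_pow, hcomm.mul_pow, Module.End.mul_apply, Module.End.mul_apply, hx, map_zero, map_zero,
      map_zero, LinearMap.zero_apply]
  · refine Submodule.disjoint_def.1 h.disjoint x ?_ hx
    have hAx : A x = 0 := by
      show (g : Module.End F V) x - x = 0
      exact sub_eq_zero.2 hfix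
    rw [LinearMap.mem_ker, pow_succ, Module.End.mul_apply, hAx, map_zero]

namespace Parts

variable {Φ : Space F V d} {g : Φ.grp} (P : Parts Φ g)

theorem ndK {x : V} (hx : x ∈ P.K) (h : ∀ y ∈ P.K, Φ.B x y = 0) : x = 0 := Φ.hnd x fun y => by
  obtain ⟨a, ha, b, hb, rfl⟩ := Submodule.mem_sup.1
    (show y ∈ P.K ⊔ P.R by rw [P.isCompl.sup_eq_top]; exact Submodule.mem_top)
  rw [map_add, h a ha, P.orth x hx b hb, add_zero]

theorem ndR {x : V} (hx : x ∈ P.R) (h : ∀ y ∈ P.R, Φ.B x y = 0) : x = 0 := Φ.hnd x fun y => by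
  obtain ⟨a, ha, b, hb, rfl⟩ := Submodule.mem_sup.1
    (show y ∈ P.K ⊔ P.R by rw [P.isCompl.sup_eq_top]; exact Submodule.mem_top)
  have hs : Φ.B x a = Φ.B a x := by
    have e := Φ.halt (x + a)
    simp only [map_add, LinearMap.add_apply, Φ.halt, zero_add, add_zero] at e
    rw [add_comm] at e
    exact CharTwo.add_eq_zero.1 e
  rw [map_add, hs, P.orth a ha x hx, h b hb, add_zero]

/-- `g` on the unipotent part. -/
def gK : Module.End F P.K :=
  (((g : V ≃ₗ[F] V) : V →ₗ[F] V)).restrict fun x hx => (P.memK x hx).1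

/-- The inverse of `g` on the unipotent part. -/
def gK' : Module.End F P.K :=
  (((g : V ≃ₗ[F] V).symm : V →ₗ[F] V)).restrict fun x hx => (P.memK x hx).2

theorem gK_mul : P.gK * P.gK' = 1 ∧ P.gK' * P.gK = 1 :=
  ⟨LinearMap.ext fun x => Subtype.ext ((g : V ≃ₗ[F] V).apply_symm_apply x),
    LinearMap.ext fun x => Subtype.ext ((g : V ≃ₗ[F] V).symm_apply_apply x)⟩

/-- The unipotent system. -/
def sys : Sys F P.K d where
  B := Φ.B.compl₁₂ P.K.subtype P.K.subtype
  halt := fun x => Φ.halt _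
  hnd := fun x h => Subtype.ext (P.ndK x.2 fun y hy => h ⟨y, hy⟩)
  T := P.gK + 1
  S := P.gK + P.gK'
  hTT := by
    have h2 : ∀ A : Module.End F P.K, A + A = 0 := fun A => add_self_V (F := F) A
    rw [show (1 : Module.End F P.K) + (P.gK + 1) = P.gK + (1 + 1) by abel, h2, add_zero, add_mul P.gK P.gK' P.gK,
      P.gK_mul.2, add_mul, mul_add, mul_one, one_mul,
      show P.gK * P.gK + P.gK + (P.gK + 1) = P.gK * P.gK + 1 + (P.gK + P.gK) by abel, h2, add_zero]
  hST := by
    have hc : Commute P.gK' P.gK := P.gK_mul.2.trans P.gK_mul.1.symm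
    exact (((Commute.refl P.gK).add_left hc).add_right (Commute.one_right _))
  hadj := fun x y => by
    show Φ.B (x : V) ((g : V ≃ₗ[F] V) y + y) = Φ.B ((g : V ≃ₗ[F] V) x + x) y + Φ.B ((g : V ≃ₗ[F] V) x + (g : V ≃ₗ[F] V).symm x) y
    have e : Φ.B (x : V) ((g : V ≃ₗ[F] V) y) = Φ.B ((g : V ≃ₗ[F] V).symm x) y := by
      conv_lhs => rw [← (g : V ≃ₗ[F] V).apply_symm_apply (x : V), g.2.1]
    simp only [map_add, LinearMap.add_apply, e]
    linear_combination -Φ.B ((g : V ≃ₗ[F] V) x) (y : V) * CharTwo.two_eq_zero (R := F)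
  hSalt := fun x => by
    show Φ.B ((g : V ≃ₗ[F] V) x + (g : V ≃ₗ[F] V).symm x) x = 0
    have e : Φ.B ((g : V ≃ₗ[F] V).symm x) (x : V) = Φ.B (x : V) ((g : V ≃ₗ[F] V) x) := by
      conv_rhs => rw [← (g : V ≃ₗ[F] V).apply_symm_apply (x : V), g.2.1, (g : V ≃ₗ[F] V).apply_symm_apply]
    have hc : Φ.B ((g : V ≃ₗ[F] V) x + x) ((g : V ≃ₗ[F] V) x + x) = 0 := Φ.halt _
    simp only [map_add, LinearMap.add_apply, Φ.halt, zero_add, add_zero] at hc
    rw [map_add, LinearMap.add_apply, e, add_comm]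
    linear_combination hc
  hnil := by
    obtain ⟨N, hN⟩ := P.nil
    refine ⟨N, ?_⟩
    set A : Module.End F P.K := P.gK + 1 with hA
    have hAN : A ^ N = 0 := by
      have hA' : A = ((((g : V ≃ₗ[F] V) : Module.End F V) - 1)).restrict (p := P.K) (q := P.K)
          (fun x hx => P.K.sub_mem (P.memK x hx).1 hx) := LinearMap.ext fun x => Subtype.ext
            (sub_eq_add_V (F := F) ((g : V ≃ₗ[F] V) (x : V)) x).symm
      rw [hA', Module.End.pow_restrict]
      exact LinearMap.ext fun x => Subtype.ext (hN x x.2)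
    have hc : Commute P.gK' A := (show Commute P.gK' P.gK from P.gK_mul.2.trans P.gK_mul.1.symm).add_right
      (Commute.one_right _)
    have hS : P.gK + P.gK' = P.gK' * (A * A) := by
      have h2 : ∀ B : Module.End F P.K, B + B = 0 := fun B => add_self_V (F := F) B
      have hsq : A * A = P.gK * P.gK + 1 := by
        rw [hA, add_mul, mul_add, mul_one, one_mul,
          show P.gK * P.gK + P.gK + (P.gK + 1) = P.gK * P.gK + 1 + (P.gK + P.gK) by abel, h2, add_zero]
      rw [hsq, mul_add, mul_one, ← mul_assoc, P.gK_mul.2, one_mul]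
    rw [hS, (hc.mul_right hc).mul_pow, ← sq, ← pow_mul, mul_comm 2 N, pow_mul, hAN, sq, mul_zero, mul_zero]
  Q := fun x => Φ.Q x
  hQadd := fun h x y => Φ.hQadd h x y
  hQsmul := fun h c x => Φ.hQsmul h c x
  hQT := fun h x => by
    show Φ.Q ((g : V ≃ₗ[F] V) x + x) = Φ.B ((g : V ≃ₗ[F] V) x + x) x
    rw [Φ.hQadd h, g.2.2 h, CharTwo.add_self_eq_zero, zero_add, map_add, LinearMap.add_apply, Φ.halt, add_zero]

theorem sys_T (x : P.K) : (P.sys.T x : V) = (g : V ≃ₗ[F] V) x + x := rfl

theorem finrank_eq : Module.finrank F P.K + Module.finrank F P.R = Module.finrank F V :=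
  Submodule.finrank_add_eq_of_isCompl P.isCompl

/-- The quadratic form on the part without eigenvalue `1` is given by `B`. -/
theorem Q_of_R (h : d = 0) {x : V} (hx : x ∈ P.R) :
    ∃ y ∈ P.R, (g : V ≃ₗ[F] V) y + y = x ∧ Φ.Q x = Φ.B ((g : V ≃ₗ[F] V) y) y := by
  let f : P.R →ₗ[F] P.R := ((((g : V ≃ₗ[F] V) : Module.End F V) + 1)).restrict (p := P.R) (q := P.R)
    (fun y hy => P.R.add_mem (P.memR y hy) hy)
  have hinj : Function.Injective f := (injective_iff_map_eq_zero f).2 fun y hy => by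
    refine Subtype.ext (P.inj y y.2 (sub_eq_zero.1 ?_))
    rw [sub_eq_add_V (F := F)]
    exact congrArg Subtype.val hy
  obtain ⟨y, hy⟩ := LinearMap.injective_iff_surjective.1 hinj ⟨x, hx⟩
  have hy' : (g : V ≃ₗ[F] V) y + y = x := congrArg Subtype.val hy
  refine ⟨y, y.2, hy', ?_⟩
  rw [← hy', Φ.hQadd h, g.2.2 h, CharTwo.add_self_eq_zero, zero_add]

end Parts

end Cfsg.Agent.UnipTwo
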