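/-
Classes of isometries in characteristic two are determined by the unipotent normal form and the invariants
of the part without eigenvalue `1`; the resulting upper bounds for the class numbers.
-/
import Cfsg.Agent.Lib.UnipTwo.Split
import Cfsg.Agent.Lib.UnipTwo.NoUnit
import Cfsg.Agent.Lib.UnipTwo.Rest
import Cfsg.Agent.Lib.UnipTwo.Count
import Cfsg.Agent.Lib.UnipForms.Congruence

set_option autoImplicit false
set_option linter.unusedSectionVars false

open scoped Matrix Classical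

namespace Cfsg.Agent.UnipTwo

open Cfsg.Agent.GL.ClassNumber Cfsg.Agent.GL.ClassData

universe u w

variable {F : Type u} [Field F] [CharP F 2] [Finite F] {V : Type w} [AddCommGroup V] [Module F V]
  [FiniteDimensional F V] {d : ℕ} {Φ : Space F V d}

/-- Coordinates for the part without eigenvalue `1`. -/
structure Coord {g : Φ.grp} (P : Parts Φ g) where
  c : ℕ
  G : Matrix (Fin c) (Fin c) F
  Y : Matrix (Fin c) (Fin c) F
  e : (Fin c → F) ≃ₗ[F] P.R
  hG : ∀ u, ((g : V ≃ₗ[F] V) (e u : V)) = e (G *ᵥ u)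
  hY : ∀ u u', Φ.B (e u : V) (e u') = u ⬝ᵥ Y *ᵥ u'

theorem exists_coord {g : Φ.grp} (P : Parts Φ g) : Nonempty (Coord P) := by
  let b := Module.finBasis F P.R
  let e : (Fin (Module.finrank F P.R) → F) ≃ₗ[F] P.R := b.equivFun.symm
  let gR : Module.End F P.R := (((g : V ≃ₗ[F] V) : Module.End F V)).restrict (p := P.R) (q := P.R) P.memR
  let f : Module.End F (Fin (Module.finrank F P.R) → F) :=
    ((e.symm : _ →ₗ[F] _).comp gR).comp (e : _ →ₗ[F] _)
  let BR : LinearMap.BilinForm F (Fin (Module.finrank F P.R) → F) :=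
    Φ.B.compl₁₂ (P.R.subtype.comp (e : _ →ₗ[F] _)) (P.R.subtype.comp (e : _ →ₗ[F] _))
  refine ⟨⟨_, LinearMap.toMatrix' f, LinearMap.BilinForm.toMatrix' BR, e, fun u => ?_, fun u u' => ?_⟩⟩
  · rw [LinearMap.toMatrix'_mulVec]
    show _ = ((e (e.symm (gR (e u)))) : V)
    rw [e.apply_symm_apply]
    rfl
  · rw [← Matrix.toBilin'_apply' (LinearMap.BilinForm.toMatrix' BR), Matrix.toBilin'_toMatrix']
    rfl

namespace Coord

variable {g : Φ.grp} {P : Parts Φ g} (C : Coord P)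

theorem c_eq : C.c = Module.finrank F P.R := by
  rw [← C.e.finrank_eq, Module.finrank_fin_fun]

theorem symm_Y : C.Yᵀ = C.Y := by
  ext i j
  have h := C.hY (Pi.single j 1) (Pi.single i 1)
  have h' := C.hY (Pi.single i 1) (Pi.single j 1)
  have hs : Φ.B (C.e (Pi.single j 1) : V) (C.e (Pi.single i 1)) = Φ.B (C.e (Pi.single i 1) : V) (C.e (Pi.single j 1)) := by
    have e := Φ.halt ((C.e (Pi.single j 1) : V) + C.e (Pi.single i 1))
    simp only [map_add, LinearMap.add_apply, Φ.halt, zero_add, add_zero] at e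
    rw [add_comm] at e
    exact CharTwo.add_eq_zero.1 e
  rw [h, h'] at hs
  simpa using hs

theorem det_Y : C.Y.det ≠ 0 := by
  intro h0
  obtain ⟨v, hv, hv0⟩ := Matrix.exists_mulVec_eq_zero_iff.2 h0
  refine hv (C.e.injective ?_)
  rw [map_zero]
  refine Subtype.ext (P.ndR (C.e v).2 fun y hy => ?_)
  obtain ⟨u, hu⟩ := C.e.surjective ⟨y, hy⟩
  rw [show y = (C.e u : V) by rw [hu], C.hY, Matrix.dotProduct_mulVec, ← Matrix.mulVec_transpose, C.symm_Y, hv0,
    zero_dotProduct]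

theorem inv_Y : C.Gᵀ * C.Y * C.G = C.Y := by
  refine Matrix.toBilin'.injective (LinearMap.ext₂ fun u u' => ?_)
  rw [UnipForms.Congruence.toBilin'_comp, Matrix.toBilin'_apply', Matrix.toBilin'_apply', ← C.hY, ← C.hY, ← C.hG,
    ← C.hG, g.2.1]

theorem det_sub_one : (C.G - 1).det ≠ 0 := by
  intro h0
  obtain ⟨v, hv, hv0⟩ := Matrix.exists_mulVec_eq_zero_iff.2 h0
  refine hv (C.e.injective ?_)
  rw [map_zero]
  refine Subtype.ext (P.inj _ (C.e v).2 ?_)
  rw [Matrix.sub_mulVec, Matrix.one_mulVec, sub_eq_zero] at hv0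
  rw [C.hG, hv0]

end Coord

/-- The data of an element. -/
structure Datum (α : F) (g : Φ.grp) where
  P : Parts Φ g
  C : Coord P
  r : Seq F C.c C.c
  hr : FitsM C.G r
  L : List Kind
  hL : Dec P.sys α L ⊤
  hnf : NF L

theorem exists_datum (hd : d ≤ 1) {α : F} (hα : ∀ x : F, x ^ 2 + x ≠ α) (g : Φ.grp) :
    Nonempty (Datum α g) := by
  obtain ⟨P⟩ := exists_parts Φ g
  obtain ⟨C⟩ := exists_coord P
  have hu := GL.SpData.isUnit_det (A := C.G) ⟨C.det_Y, C.inv_Y⟩
  obtain ⟨r, hr⟩ := exists_fits (f := Matrix.toLin' C.G) fun v => ⟨Matrix.toLin' C.G⁻¹ v, by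
    rw [← Matrix.toLin'_mul_apply, Matrix.mul_nonsing_inv _ hu, Matrix.toLin'_one]; rfl⟩
  obtain ⟨L, hL, hnf, -⟩ := exists_nf (σ := P.sys) hd hα
  exact ⟨⟨P, C, r, hr, L, hL, hnf⟩⟩

variable {α : F} {g g' : Φ.grp}

/-- The invariants of the part without eigenvalue `1`, as a function on `ℕ`. -/
noncomputable def Datum.rest (D : Datum α g) (e : ℕ) : Polynomial F := if h : e < D.C.c then D.r.1 ⟨e, h⟩ else 1

/-- Equal invariants give an isometry between the parts without eigenvalue `1`. -/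
theorem Datum.exists_equiv_R (D : Datum α g) (D' : Datum α g') (hc : D.C.c = D'.C.c)
    (hrest : ∀ e, D.rest e = D'.rest e) :
    ∃ ψ : D.P.R ≃ₗ[F] D'.P.R, (∀ x y, Φ.B (ψ x : V) (ψ y) = Φ.B (x : V) y) ∧
      (∀ x : D.P.R, ((ψ ⟨(g : V ≃ₗ[F] V) x, D.P.memR x x.2⟩ : V)) = (g' : V ≃ₗ[F] V) (ψ x)) ∧
      (d = 0 → ∀ x, Φ.Q (ψ x : V) = Φ.Q (x : V)) := by
  classical
  letI := Fintype.ofFinite F
  obtain ⟨P, ⟨c, G, Y, e, hGe, hYe⟩, r, hr, L, hL, hnf⟩ := D
  obtain ⟨P', ⟨c', G', Y', e', hGe', hYe'⟩, r', hr', L', hL', hnf'⟩ := D'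
  dsimp only at hc
  subst hc
  have C : Coord P := ⟨c, G, Y, e, hGe, hYe⟩
  obtain rfl : r = r' := Subtype.ext (funext fun i => by
    have := hrest i
    simp only [Datum.rest, i.2, dif_pos, Fin.eta] at this
    exact this)
  have hY := (Coord.mk (P := P) c G Y e hGe hYe).symm_Y
  have hYd := (Coord.mk (P := P) c G Y e hGe hYe).det_Y
  have hGY := (Coord.mk (P := P) c G Y e hGe hYe).inv_Y
  have hm := (Coord.mk (P := P) c G Y e hGe hYe).det_sub_one
  have hY' := (Coord.mk (P := P') c G' Y' e' hGe' hYe').symm_Y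
  have hY'd := (Coord.mk (P := P') c G' Y' e' hGe' hYe').det_Y
  have hGY' := (Coord.mk (P := P') c G' Y' e' hGe' hYe').inv_Y
  dsimp only at hY hYd hGY hm hY' hY'd hGY' hr hr'
  have hu := isUnit_iff_ne_zero.1 (GL.SpData.isUnit_det (A := G) ⟨hYd, hGY⟩)
  have hu' := isUnit_iff_ne_zero.1 (GL.SpData.isUnit_det (A := G') ⟨hY'd, hGY'⟩)
  obtain ⟨U, hU⟩ := isConj_of_fits (Matrix.GeneralLinearGroup.mkOfDetNeZero G hu)
    (Matrix.GeneralLinearGroup.mkOfDetNeZero G' hu') r hr hr'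
  set M : Matrix (Fin c) (Fin c) F := ((U : GL (Fin c) F) : Matrix (Fin c) (Fin c) F) with hM
  have hMG : M * G = G' * M := congrArg Units.val hU
  have hMd : M.det ≠ 0 := ((Matrix.isUnit_iff_isUnit_det _).1 (U : GL (Fin c) F).isUnit).ne_zero
  obtain ⟨c₀, hc0, hc0Y⟩ := exists_congr_noUnit (G := G) (Y := Mᵀ * Y' * M) (Y' := Y) hm
    (by rw [Matrix.transpose_mul, Matrix.transpose_mul, Matrix.transpose_transpose, hY', Matrix.mul_assoc])
    (by rw [Matrix.det_mul, Matrix.det_mul, Matrix.det_transpose]; exact mul_ne_zero (mul_ne_zero hMd hY'd) hMd)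
    (by
      calc Gᵀ * (Mᵀ * Y' * M) * G = (M * G)ᵀ * Y' * (M * G) := by
            rw [Matrix.transpose_mul]; simp only [Matrix.mul_assoc]
        _ = Mᵀ * (G'ᵀ * Y' * G') * M := by rw [hMG, Matrix.transpose_mul]; simp only [Matrix.mul_assoc]
        _ = _ := by rw [hGY'])
    hY hYd hGY
  set W := M * c₀ with hW
  have hWG : W * G = G' * W := by rw [hW, Matrix.mul_assoc, hc0, ← Matrix.mul_assoc, hMG, Matrix.mul_assoc]
  have hWY : Wᵀ * Y' * W = Y := by
    rw [← hc0Y, hW, Matrix.transpose_mul]; simp only [Matrix.mul_assoc]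
  have hWd : IsUnit W.det := by
    refine isUnit_iff_ne_zero.2 fun h0 => hYd ?_
    have e0 := congrArg Matrix.det hWY
    rw [Matrix.det_mul, h0, mul_zero] at e0
    exact e0.symm
  let ψ : P.R ≃ₗ[F] P'.R := (e.symm.trans (Matrix.toLinearEquiv' W (Matrix.invertibleOfIsUnitDet W hWd))).trans e'
  have hψ : ∀ u, ψ (e u) = e' (W *ᵥ u) := fun u => by
    simp only [ψ, LinearEquiv.trans_apply, LinearEquiv.symm_apply_apply]
    rfl
  have hB : ∀ x y, Φ.B (ψ x : V) (ψ y) = Φ.B (x : V) y := fun x y => by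
    obtain ⟨u, rfl⟩ := e.surjective x
    obtain ⟨v, rfl⟩ := e.surjective y
    rw [hψ, hψ, hYe', hYe, ← Matrix.toBilin'_apply' Y', ← Matrix.toBilin'_apply' Y,
      ← UnipForms.Congruence.toBilin'_comp, hWY]
  have hg : ∀ x : P.R, ((ψ ⟨(g : V ≃ₗ[F] V) x, P.memR x x.2⟩ : V)) = (g' : V ≃ₗ[F] V) (ψ x) := fun x => by
    obtain ⟨u, rfl⟩ := e.surjective x
    have : (⟨(g : V ≃ₗ[F] V) (e u), P.memR _ (e u).2⟩ : P.R) = e (G *ᵥ u) := Subtype.ext (hGe u)
    rw [this, hψ, hψ, hGe', Matrix.mulVec_mulVec, hWG, Matrix.mulVec_mulVec]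
  refine ⟨ψ, hB, hg, fun h0 x => ?_⟩
  obtain ⟨y, hy, hxy, hQ⟩ := P.Q_of_R h0 x.2
  have hx : x = (⟨(g : V ≃ₗ[F] V) y, P.memR y hy⟩ : P.R) + ⟨y, hy⟩ := Subtype.ext hxy.symm
  have e1 : (ψ x : V) = (g' : V ≃ₗ[F] V) (ψ ⟨y, hy⟩) + ψ ⟨y, hy⟩ := by
    rw [hx, map_add, Submodule.coe_add, ← hg]
  rw [hQ, e1, Φ.hQadd h0, g'.2.2 h0, CharTwo.add_self_eq_zero, zero_add, ← hg, hB]

/-- Equal data give conjugate elements. -/
theorem Datum.isConj (hd : d ≤ 1) (D : Datum α g) (D' : Datum α g') (hc : D.C.c = D'.C.c)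
    (hrest : ∀ e, D.rest e = D'.rest e) (hL : D.L.Perm D'.L) : IsConj g g' := by
  obtain ⟨ψR, hBR, hgR, hQR⟩ := D.exists_equiv_R D' hc hrest
  obtain ⟨ψK, hBK, hTK, hQK⟩ := exists_equiv_of_dec hd (D.hL.perm hL) D'.hL
  let eD := Submodule.prodEquivOfIsCompl D.P.K D.P.R D.P.isCompl
  let eD' := Submodule.prodEquivOfIsCompl D'.P.K D'.P.R D'.P.isCompl
  let ψ : V ≃ₗ[F] V := (eD.symm.trans (ψK.prodCongr ψR)).trans eD'
  have hψ : ∀ (k : D.P.K) (y : D.P.R), ψ ((k : V) + y) = (ψK k : V) + ψR y := fun k y => by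
    have : eD (k, y) = (k : V) + y := by rw [Submodule.coe_prodEquivOfIsCompl']
    rw [← this]
    simp only [ψ, LinearEquiv.trans_apply, LinearEquiv.symm_apply_apply, LinearEquiv.prodCongr_apply, eD']
    rw [Submodule.coe_prodEquivOfIsCompl']
  have hsurj : ∀ x : V, ∃ (k : D.P.K) (y : D.P.R), x = (k : V) + y := fun x =>
    ⟨(eD.symm x).1, (eD.symm x).2, by
      conv_lhs => rw [← eD.apply_symm_apply x]
      rw [Submodule.coe_prodEquivOfIsCompl']⟩
  have hBsum : ∀ {h : Φ.grp} (P : Parts Φ h) (k k' : P.K) (y y' : P.R),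
      Φ.B ((k : V) + y) ((k' : V) + y') = Φ.B (k : V) k' + Φ.B (y : V) y' := by
    intro h P k k' y y'
    have e1 := P.orth k k.2 y' y'.2
    have e2 : Φ.B (y : V) k' = 0 := by
      have e := Φ.halt ((y : V) + k')
      simp only [map_add, LinearMap.add_apply, Φ.halt, zero_add, add_zero, P.orth k' k'.2 y y.2] at e
      exact e
    simp only [map_add, LinearMap.add_apply, e1, e2]
    ring
  have hmem : ψ ∈ Φ.grp := by
    refine ⟨fun x x' => ?_, fun h0 x => ?_⟩
    · obtain ⟨k, y, rfl⟩ := hsurj x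
      obtain ⟨k', y', rfl⟩ := hsurj x'
      rw [hψ, hψ, hBsum, hBsum, hBR]
      congr 1
      exact hBK k k'
    · obtain ⟨k, y, rfl⟩ := hsurj x
      rw [hψ, Φ.hQadd h0, Φ.hQadd h0, hQR h0, D.P.orth k k.2 y y.2, D'.P.orth _ (ψK k).2 _ (ψR y).2,
        show Φ.Q (ψK k : V) = Φ.Q (k : V) from hQK h0 k]
  refine isConj_iff.2 ⟨⟨ψ, hmem⟩, ?_⟩
  rw [mul_inv_eq_iff_eq_mul]
  refine Subtype.ext (LinearEquiv.ext fun x => ?_)
  show ψ ((g : V ≃ₗ[F] V) x) = (g' : V ≃ₗ[F] V) (ψ x)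
  obtain ⟨k, y, rfl⟩ := hsurj x
  rw [map_add]
  have ek : ((⟨(g : V ≃ₗ[F] V) k, (D.P.memK k k.2).1⟩ : D.P.K) : V) = (g : V ≃ₗ[F] V) k := rfl
  have ey : ((⟨(g : V ≃ₗ[F] V) y, D.P.memR y y.2⟩ : D.P.R) : V) = (g : V ≃ₗ[F] V) y := rfl
  rw [← ek, ← ey, hψ, hψ, map_add, hgR]
  congr 1
  have h1 : D.P.sys.T k = (⟨(g : V ≃ₗ[F] V) k, (D.P.memK k k.2).1⟩ : D.P.K) + k := Subtype.ext rfl
  have h2 := congrArg Subtype.val (hTK k)
  rw [h1, map_add, Submodule.coe_add, Parts.sys_T] at h2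
  exact add_right_cancel h2

theorem Datum.sum_sizes (hd : d ≤ 1) (D : Datum α g) :
    (D.L.map Kind.size).sum + D.C.c = Module.finrank F V := by
  rw [← (D.hL.props hd).2.2, finrank_top, D.C.c_eq, D.P.finrank_eq]

theorem Datum.qsum_split {Φ : Space F V 0} {g : Φ.grp} (D : Datum α g) :
    qsum Φ.Q = qsum D.P.sys.Q * qsum (fun y : D.P.R => Φ.Q y) := by
  haveI : Finite V := Module.finite_of_finite F
  rw [← qsum_prod]
  refine qsum_congr (Submodule.prodEquivOfIsCompl D.P.K D.P.R D.P.isCompl).toEquiv fun p => ?_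
  show Φ.Q ((Submodule.prodEquivOfIsCompl D.P.K D.P.R D.P.isCompl) p) = _
  rw [Submodule.coe_prodEquivOfIsCompl', Φ.hQadd rfl, D.P.orth _ p.1.2 _ p.2.2, add_zero]
  rfl

/-- Equal invariants of the part without eigenvalue `1` give equal parities. -/
theorem Datum.parity_eq {Φ : Space F V 0} {g g' : Φ.grp} (hα : ∀ x : F, x ^ 2 + x ≠ α) (D : Datum α g)
    (D' : Datum α g') (hc : D.C.c = D'.C.c) (hrest : ∀ e, D.rest e = D'.rest e) :
    D.L.countP Kind.bit % 2 = D'.L.countP Kind.bit % 2 := by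
  haveI : Finite V := Module.finite_of_finite F
  obtain ⟨ψ, -, -, hQ⟩ := D.exists_equiv_R D' hc hrest
  have hR : qsum (fun y : D'.P.R => Φ.Q y) = qsum (fun y : D.P.R => Φ.Q y) :=
    qsum_congr ψ.toEquiv fun x => hQ rfl x
  have h1 := D.qsum_split
  have h2 := D'.qsum_split
  rw [hR] at h2
  have hne := Φ.qsum_ne_zero
  have hRne : qsum (fun y : D.P.R => Φ.Q y) ≠ 0 := fun h => hne (by rw [h1, h, mul_zero])
  have heq : qsum D.P.sys.Q = qsum D'.P.sys.Q := mul_right_cancel₀ hRne (h1.symm.trans h2)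
  have hKne : qsum D.P.sys.Q ≠ 0 := fun h => hne (by rw [h1, h, zero_mul])
  have e1 := D.hL.gsum_sign hα
  have e2 := D'.hL.gsum_sign hα
  rw [gsum_top] at e1 e2
  rw [← heq] at e2
  exact parity_eq_of_sign e1 e2 (mul_self_pos.2 hKne)

section Bound

variable [Fintype F] {n : ℕ}

/-- The rest invariants of the datum. -/
noncomputable def Datum.restT (hd : d ≤ 1) (hn : Module.finrank F V = 2 * n) (D : Datum α g) :
    Σ a : Fin (n + 1), RestT F (2 * n) a := by
  have hs := D.sum_sizes hd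
  have heven : Even (D.L.map Kind.size).sum := by
    have : ∀ L : List Kind, Even (L.map Kind.size).sum := by
      intro L
      induction L with
      | nil => simp
      | cons K L ih =>
        rw [List.map_cons, List.sum_cons]
        refine Even.add ?_ ih
        cases K <;> simp [Kind.size]
    exact this _
  refine ⟨⟨D.C.c / 2, by omega⟩, fun e => D.rest e, fun e => ?_, ?_⟩
  · show RD (D.rest e)
    unfold Datum.rest
    split
    · exact rd_of_fits ⟨D.C.det_Y, D.C.inv_Y⟩ D.C.det_sub_one D.hr _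
    · exact rd_one
  · show ∑ e : Fin (2 * n), ((e : ℕ) + 1) * (D.rest e).natDegree = 2 * (D.C.c / 2)
    have hc : D.C.c ≤ 2 * n := by omega
    rw [Fin.sum_univ_eq_sum_range (fun e => (e + 1) * (D.rest e).natDegree),
      ← Finset.sum_subset (Finset.range_subset_range.2 hc) (fun e _ he => ?_),
      ← Fin.sum_univ_eq_sum_range (fun e => (e + 1) * (D.rest e).natDegree)]
    · obtain ⟨b, hb⟩ := heven
      rw [show 2 * (D.C.c / 2) = D.C.c by omega]
      conv_rhs => rw [← D.r.2.2]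
      exact Finset.sum_congr rfl fun e _ => by rw [Datum.rest, dif_pos e.2]
    · rw [Finset.mem_range] at he
      rw [Datum.rest, dif_neg he, Polynomial.natDegree_one, mul_zero]

theorem Datum.restT_spec (hd : d ≤ 1) (hn : Module.finrank F V = 2 * n) (D : Datum α g) :
    (D.L.map Kind.size).sum = 2 * (n - ((D.restT hd hn).1 : ℕ)) := by
  have hs := D.sum_sizes hd
  show _ = 2 * (n - D.C.c / 2)
  have : ∀ L : List Kind, Even (L.map Kind.size).sum := by
    intro L
    induction L with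
    | nil => simp
    | cons K L ih =>
      rw [List.map_cons, List.sum_cons]
      refine Even.add ?_ ih
      cases K <;> simp [Kind.size]
  obtain ⟨b, hb⟩ := this D.L
  omega

theorem Datum.eq_of_restT (hd : d ≤ 1) (hn : Module.finrank F V = 2 * n) (D : Datum α g) (D' : Datum α g')
    (h : D.restT hd hn = D'.restT hd hn) : D.C.c = D'.C.c ∧ ∀ e, D.rest e = D'.rest e := by
  have h1 := D.restT_spec hd hn
  have h2 := D'.restT_spec hd hn
  have hs1 := D.sum_sizes hd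
  have hs2 := D'.sum_sizes hd
  have ha : (D.restT hd hn).1 = (D'.restT hd hn).1 := congrArg Sigma.fst h
  have hc : D.C.c = D'.C.c := by
    have : ((D.restT hd hn).1 : ℕ) = (D'.restT hd hn).1 := by rw [ha]
    omega
  refine ⟨hc, fun e => ?_⟩
  by_cases he : e < 2 * n
  · exact congrFun (congrArg (fun x : Σ a : Fin (n + 1), RestT F (2 * n) a => x.2.1) h) ⟨e, he⟩
  · simp only [Datum.rest]
    rw [dif_neg (by omega), dif_neg (by omega)]

/-- The class number is bounded by the weighted count of normal forms. -/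
theorem card_classes_le (hd : d ≤ 1) (hn : Module.finrank F V = 2 * n) (bound : ℕ → ℕ)
    (hb : ∀ (X : Type w) [Finite X] (L : X → List Kind), (∀ x, ∀ k ∈ L x, k.Ok d) → (∀ x, NF (L x)) →
      ∀ m, m ≤ n → (∀ x, ((L x).map Kind.size).sum = 2 * m) →
      (d = 0 → ∀ x y, (L x).countP Kind.bit % 2 = (L y).countP Kind.bit % 2) →
      (∀ x y, (L x).Perm (L y) → x = y) → Nat.card X ≤ bound m) :
    Nat.card (ConjClasses Φ.grp) ≤ ∑ a ∈ Finset.range (n + 1), Fintype.card F ^ a * bound (n - a) := by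
  haveI : Finite V := Module.finite_of_finite F
  haveI : Finite (V ≃ₗ[F] V) := Finite.of_injective (fun e => (e : V → V)) DFunLike.coe_injective
  obtain ⟨α, hα⟩ := exists_nonAS (F := F)
  choose rep hrep using fun K : ConjClasses Φ.grp => ConjClasses.exists_rep K
  let D := fun K => (exists_datum (α := α) hd hα (rep K)).some
  let key : ConjClasses Φ.grp → Σ a : Fin (n + 1), RestT F (2 * n) a := fun K => (D K).restT hd hn
  haveI := fun a : Fin (n + 1) => (restT_bound (F := F) (2 * n) a).1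
  letI := Fintype.ofFinite (Σ a : Fin (n + 1), RestT F (2 * n) a)
  have hfib : ∀ y, Nat.card {K // key K = y} ≤ bound (n - (y.1 : ℕ)) := by
    intro y
    refine hb _ (fun K => (D K.1).L) (fun K => (D K.1).hL.ok) (fun K => (D K.1).hnf) _ (Nat.sub_le _ _)
      (fun K => ?_) (fun h0 K K' => ?_) (fun K K' hp => ?_)
    · rw [(D K.1).restT_spec hd hn]
      exact congrArg (fun z : Σ a : Fin (n + 1), RestT F (2 * n) a => 2 * (n - (z.1 : ℕ))) K.2
    · subst h0
      obtain ⟨hc, hr⟩ := (D K.1).eq_of_restT hd hn (D K'.1) (K.2.trans K'.2.symm)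
      exact (D K.1).parity_eq hα (D K'.1) hc hr
    · obtain ⟨hc, hr⟩ := (D K.1).eq_of_restT hd hn (D K'.1) (K.2.trans K'.2.symm)
      refine Subtype.ext ?_
      rw [← hrep K.1, ← hrep K'.1]
      exact ConjClasses.mk_eq_mk_iff_isConj.2 ((D K.1).isConj hd (D K'.1) hc hr hp)
  calc Nat.card (ConjClasses Φ.grp) = ∑ y, Nat.card {K // key K = y} := by
        rw [← Nat.card_congr (Equiv.sigmaFiberEquiv key), Nat.card_sigma]
    _ ≤ ∑ y : (Σ a : Fin (n + 1), RestT F (2 * n) a), bound (n - (y.1 : ℕ)) := Finset.sum_le_sum fun y _ => hfib y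
    _ ≤ _ := by
        letI := fun a : Fin (n + 1) => Fintype.ofFinite (RestT F (2 * n) a)
        rw [show (Finset.univ : Finset (Σ a : Fin (n + 1), RestT F (2 * n) a)) =
          Finset.univ.sigma fun _ => Finset.univ from Finset.ext fun _ => by simp, Finset.sum_sigma,
          Finset.sum_range fun a => Fintype.card F ^ a * bound (n - a)]
        refine Finset.sum_le_sum fun a _ => ?_
        simp only [Finset.sum_const, Finset.card_univ, smul_eq_mul, ← Nat.card_eq_fintype_card]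
        rw [Nat.card_eq_fintype_card (α := F)] at *
        exact Nat.mul_le_mul_right _ (restT_bound (F := F) (2 * n) a).2

theorem weighted_le {q n : ℕ} (hq : 2 ≤ q) (c : ℕ → ℕ) {C : ℚ}
    (hc : ∑ m ∈ Finset.range (n + 1), (c m : ℚ) * (1 / 2) ^ m ≤ C) :
    ((∑ a ∈ Finset.range (n + 1), q ^ a * c (n - a) : ℕ) : ℚ) ≤ C * (q : ℚ) ^ n := by
  rw [← Finset.sum_range_reflect]
  simp only [Nat.add_sub_cancel]
  push_cast
  refine le_trans (Finset.sum_le_sum fun m hm => ?_)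
    (le_trans (le_of_eq (Finset.sum_mul _ _ _).symm) (mul_le_mul_of_nonneg_right hc (by positivity)))
  have hm : m ≤ n := Nat.lt_succ_iff.1 (Finset.mem_range.1 hm)
  rw [show n - (n - m) = m by omega]
  have h2 : (2 : ℚ) ^ m ≤ (q : ℚ) ^ m := pow_le_pow_left₀ (by norm_num) (by exact_mod_cast hq) m
  have e : (q : ℚ) ^ n = (q : ℚ) ^ (n - m) * (q : ℚ) ^ m := by rw [← pow_add, Nat.sub_add_cancel hm]
  have h1 : (1 : ℚ) ≤ (1 / 2) ^ m * (q : ℚ) ^ m := by
    rw [← mul_pow]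
    exact one_le_pow₀ (by rw [one_div_mul_eq_div, le_div_iff₀ (by norm_num : (0 : ℚ) < 2)]; exact_mod_cast by omega)
  have h0 : (0 : ℚ) ≤ (q : ℚ) ^ (n - m) * (c m : ℚ) := by positivity
  calc (q : ℚ) ^ (n - m) * (c m : ℚ) ≤ ((q : ℚ) ^ (n - m) * (c m : ℚ)) * ((1 / 2) ^ m * (q : ℚ) ^ m) :=
        le_mul_of_one_le_right h0 h1
    _ = _ := by rw [e]; ring

theorem upper_symplectic {Φ : Space F V 1} (hn : Module.finrank F V = 2 * n) :
    5 * Nat.card (ConjClasses Φ.grp) ≤ 76 * Fintype.card F ^ n := by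
  have h := card_classes_le (Φ := Φ) le_rfl hn (U 1 n)
    (fun X _ L hok hnf m hm hsum _ hinj => card_le L hok hnf hm hsum hinj)
  have h' := weighted_le (Fintype.one_lt_card (α := F)) (U 1 n) (sum_U_le n)
  have h'' : (Nat.card (ConjClasses Φ.grp) : ℚ) ≤ 15.2 * (Fintype.card F : ℚ) ^ n :=
    le_trans (Nat.cast_le.2 h) h'
  have : ((5 * Nat.card (ConjClasses Φ.grp) : ℕ) : ℚ) ≤ ((76 * Fintype.card F ^ n : ℕ) : ℚ) := by
    push_cast
    linarith
  exact_mod_cast this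

theorem upper_orthogonal {Φ : Space F V 0} (hn : Module.finrank F V = 2 * n) :
    Nat.card (ConjClasses Φ.grp) ≤ 14 * Fintype.card F ^ n := by
  classical
  let p : ℕ → ℕ := fun m => if Up 0 n m 0 ≤ Up 0 n m 1 then 1 else 0
  have hp : ∀ m b, Up 0 n m b ≤ Up 0 n m (p m) := fun m b => by
    have e : ∀ b, Up 0 n m b = Up 0 n m (b % 2) := fun b => by simp only [Up, Nat.mod_mod]
    rw [e b]
    rcases Nat.mod_two_eq_zero_or_one b with hb | hb <;> rw [hb] <;> simp only [p] <;> split <;> omega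
  have h := card_classes_le (Φ := Φ) (Nat.zero_le 1) hn (fun m => Up 0 n m (p m))
    (fun X _ L hok hnf m hm hsum hpar hinj => by
      rcases isEmpty_or_nonempty X with hX | ⟨⟨x₀⟩⟩
      · simp
      · exact (card_le_parity (p := (L x₀).countP Kind.bit) L hok hnf hm hsum (fun x => hpar rfl x x₀) hinj).trans
          (hp m _))
  have h' := weighted_le (Fintype.one_lt_card (α := F)) (fun m => Up 0 n m (p m)) (sum_Up_le n p)
  have h'' : (Nat.card (ConjClasses Φ.grp) : ℚ) ≤ 14 * (Fintype.card F : ℚ) ^ n :=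
    le_trans (Nat.cast_le.2 h) h'
  exact_mod_cast h''

end Bound

end Cfsg.Agent.UnipTwo
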