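/-
The matrix groups of the statements as isometry groups of spaces.
-/
import Cfsg.Agent.Lib.UnipTwo.Upper
import Cfsg.Agent.Lib.UnipTwo.Models
import Cfsg.Agent.Lib.UnipForms.Congruence
import Cfsg.Prelude.Def_Classical

set_option autoImplicit false
set_option linter.unusedSectionVars false

open scoped Matrix

namespace Cfsg.Agent.UnipTwo

universe u

theorem charTwo_of_even {F : Type u} [Field F] [Fintype F] (heven : Even (Fintype.card F)) : CharP F 2 :=
  ringChar.of_eq ((FiniteField.even_card_iff_char_two (F := F)).2 (Nat.even_iff.1 heven))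

variable {F : Type u} [Field F] [CharP F 2] [Finite F]

theorem card_classes_congr {G H : Type*} [Group G] [Group H] (e : G ≃* H) :
    Nat.card (ConjClasses G) = Nat.card (ConjClasses H) := by
  refine Nat.card_eq_of_bijective (ConjClasses.map (e : G →* H)) ⟨fun x y hxy => ?_, fun y => ?_⟩
  · obtain ⟨x, rfl⟩ := ConjClasses.exists_rep x
    obtain ⟨y, rfl⟩ := ConjClasses.exists_rep y
    have := MonoidHom.map_isConj (e.symm : H →* G) (ConjClasses.mk_eq_mk_iff_isConj.1 hxy)
    exact ConjClasses.mk_eq_mk_iff_isConj.2 (by simpa using this)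
  · obtain ⟨y, rfl⟩ := ConjClasses.exists_rep y
    exact ⟨ConjClasses.mk (e.symm y), congrArg ConjClasses.mk (e.apply_symm_apply y)⟩

/-- The space of a non-degenerate quadratic form. -/
def Space.ofQuad {V : Type*} [AddCommGroup V] [Module F V] (Q : QuadraticForm F V)
    (hQ : (QuadraticMap.polarBilin Q).Nondegenerate) : Space F V 0 where
  B := QuadraticMap.polarBilin Q
  halt x := by
    show QuadraticMap.polar ⇑Q x x = 0
    rw [QuadraticMap.polar_self, two_smul, CharTwo.add_self_eq_zero]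
  hnd x h := hQ.1 x h
  Q := ⇑Q
  hQadd _ x y := QuadraticMap.map_add ⇑Q x y
  hQsmul _ c x := by rw [QuadraticMap.map_smul, smul_eq_mul, sq]

/-- The isometry group of a quadratic form, as linear automorphisms. -/
noncomputable def isometryEquiv {ι : Type} [Fintype ι] [DecidableEq ι] (Q : QuadraticForm F (ι → F))
    (hQ : (QuadraticMap.polarBilin Q).Nondegenerate) (f : (ι → F) → F) (hf : ⇑Q = f) :
    isometryGroup F f ≃* (Space.ofQuad Q hQ).grp :=
  let E : GL ι F ≃* ((ι → F) ≃ₗ[F] (ι → F)) :=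
    Matrix.GeneralLinearGroup.toLin.trans (LinearMap.GeneralLinearGroup.generalLinearEquiv F (ι → F))
  (E.subgroupMap (isometryGroup F f)).trans (MulEquiv.subgroupCongr (by
    have hE : ∀ (g : GL ι F) x, E g x = (g : Matrix ι ι F) *ᵥ x := fun g x => rfl
    ext φ
    obtain ⟨g, rfl⟩ := E.surjective φ
    rw [Subgroup.mem_map]
    constructor
    · rintro ⟨g', hg', he⟩
      obtain rfl := E.injective he
      have hq : ∀ v, Q ((g' : Matrix ι ι F) *ᵥ v) = Q v := fun v => by rw [hf]; exact hg' v v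
      refine ⟨fun x y => ?_, fun _ x => by rw [hE]; exact hq x⟩
      show QuadraticMap.polar ⇑Q (E g' x) (E g' y) = QuadraticMap.polar ⇑Q x y
      rw [hE, hE, QuadraticMap.polar, QuadraticMap.polar, ← Matrix.mulVec_add, hq, hq, hq]
    · rintro ⟨-, hq⟩
      refine ⟨g, fun v _ => ?_, rfl⟩
      have := hq rfl v
      rw [hE] at this
      rw [← hf]
      exact this))

theorem orthogonal_bounds [Fintype F] {ι : Type} [Fintype ι] [DecidableEq ι] (Q : QuadraticForm F (ι → F))
    (hQ : (QuadraticMap.polarBilin Q).Nondegenerate) (f : (ι → F) → F) (hf : ⇑Q = f) {n : ℕ} (hn : 2 ≤ n)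
    (hc : Fintype.card ι = 2 * n) :
    Fintype.card F ^ n ≤ 2 * Nat.card (ConjClasses ↥(isometryGroup F f)) ∧
      Nat.card (ConjClasses ↥(isometryGroup F f)) ≤ 15 * Fintype.card F ^ n := by
  have hd : Module.finrank F (ι → F) = 2 * n := by rw [Module.finrank_fintype_fun_eq_card, hc]
  rw [card_classes_congr (isometryEquiv Q hQ f hf)]
  exact ⟨lower_orthogonal _ hd hn, (upper_orthogonal hd).trans (Nat.mul_le_mul_right _ (by norm_num))⟩

section Symplectic

variable (F) (n : ℕ)

theorem J_halt (x : Fin n ⊕ Fin n → F) : Matrix.toBilin' (Matrix.J (Fin n) F) x x = 0 := by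
  rw [Matrix.toBilin'_apply', Matrix.J, Matrix.fromBlocks_mulVec]
  simp [dotProduct, Fintype.sum_sum_type, Matrix.neg_mulVec, CharTwo.neg_eq, mul_comm, CharTwo.add_self_eq_zero]

/-- The standard symplectic space. -/
noncomputable def sympSpace : Space F (Fin n ⊕ Fin n → F) 1 where
  B := Matrix.toBilin' (Matrix.J (Fin n) F)
  halt := J_halt F n
  hnd x h := by
    have h0 : Matrix.J (Fin n) F *ᵥ x = 0 := funext fun i => by
      have e := h (Pi.single i 1)
      have hs := J_halt F n (x + Pi.single i 1)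
      simp only [map_add, LinearMap.add_apply, J_halt, zero_add, add_zero, e] at hs
      simpa [Matrix.toBilin'_apply'] using hs
    have := congrArg (fun v => Matrix.J (Fin n) F *ᵥ v) h0
    simpa [Matrix.mulVec_mulVec, Matrix.J_squared, Matrix.neg_mulVec] using this
  Q := fun _ => 0
  hQadd h := absurd h one_ne_zero
  hQsmul h := absurd h one_ne_zero

theorem mem_sympSpace_iff {g : (Fin n ⊕ Fin n → F) ≃ₗ[F] (Fin n ⊕ Fin n → F)} :
    g ∈ (sympSpace F n).grp ↔
      (LinearMap.toMatrix' (g : (Fin n ⊕ Fin n → F) →ₗ[F] _)) ∈ Matrix.symplecticGroup (Fin n) F := by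
  rw [SymplecticGroup.mem_iff']
  constructor
  · intro hg
    refine Matrix.toBilin'.injective (LinearMap.ext₂ fun u v => ?_)
    rw [UnipForms.Congruence.toBilin'_comp, LinearMap.toMatrix'_mulVec, LinearMap.toMatrix'_mulVec]
    exact hg.1 u v
  · intro hg
    refine ⟨fun u v => ?_, fun h => absurd h one_ne_zero⟩
    show Matrix.toBilin' (Matrix.J (Fin n) F) (g u) (g v) = Matrix.toBilin' (Matrix.J (Fin n) F) u v
    conv_rhs => rw [← hg, UnipForms.Congruence.toBilin'_comp, LinearMap.toMatrix'_mulVec, LinearMap.toMatrix'_mulVec]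
    rfl

/-- The matrix of a symplectic automorphism. -/
noncomputable def sympHom : (sympSpace F n).grp →* Matrix.symplecticGroup (Fin n) F where
  toFun g := ⟨LinearMap.toMatrix' (g.1 : (Fin n ⊕ Fin n → F) →ₗ[F] (Fin n ⊕ Fin n → F)),
    (mem_sympSpace_iff F n).1 g.2⟩
  map_one' := Subtype.ext LinearMap.toMatrix'_id
  map_mul' g h := Subtype.ext (LinearMap.toMatrix'_comp
    (g.1 : (Fin n ⊕ Fin n → F) →ₗ[F] (Fin n ⊕ Fin n → F)) (h.1 : (Fin n ⊕ Fin n → F) →ₗ[F] (Fin n ⊕ Fin n → F)))

theorem sympHom_bijective : Function.Bijective (sympHom F n) := by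
  refine ⟨fun g h hgh => Subtype.ext (LinearEquiv.toLinearMap_injective
    (LinearMap.toMatrix'.injective (congrArg Subtype.val hgh))), fun A => ?_⟩
  have hinj : Function.Injective (Matrix.toLin' A.1) := fun x y hxy => by
    have e : (A⁻¹).1 * A.1 = 1 := congrArg Subtype.val (inv_mul_cancel A)
    have := congrArg (fun v => (A⁻¹).1 *ᵥ v) hxy
    simp only [Matrix.toLin'_apply, Matrix.mulVec_mulVec, e, Matrix.one_mulVec] at this
    exact this
  have he : LinearMap.toMatrix' ((LinearEquiv.ofInjectiveEndo (Matrix.toLin' A.1) hinj :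
      (Fin n ⊕ Fin n → F) ≃ₗ[F] _) : (Fin n ⊕ Fin n → F) →ₗ[F] _) = A.1 := by
    rw [show ((LinearEquiv.ofInjectiveEndo (Matrix.toLin' A.1) hinj : (Fin n ⊕ Fin n → F) ≃ₗ[F] _) :
      (Fin n ⊕ Fin n → F) →ₗ[F] _) = Matrix.toLin' A.1 from LinearMap.ext fun _ => rfl]
    exact LinearMap.toMatrix'_toLin' _
  exact ⟨⟨_, (mem_sympSpace_iff F n).2 (he.symm ▸ A.2)⟩, Subtype.ext he⟩

/-- The symplectic group as a group of linear automorphisms. -/
noncomputable def symplecticEquiv : (sympSpace F n).grp ≃* Matrix.symplecticGroup (Fin n) F :=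
  MulEquiv.ofBijective (sympHom F n) (sympHom_bijective F n)

end Symplectic

theorem symplectic_bounds [Fintype F] (n : ℕ) :
    Fintype.card F ^ n ≤ Nat.card (ConjClasses (Matrix.symplecticGroup (Fin n) F)) ∧
      5 * Nat.card (ConjClasses (Matrix.symplecticGroup (Fin n) F)) ≤ 76 * Fintype.card F ^ n := by
  have hd : Module.finrank F (Fin n ⊕ Fin n → F) = 2 * n := by
    rw [Module.finrank_fintype_fun_eq_card, Fintype.card_sum, Fintype.card_fin, two_mul]
  rw [← card_classes_congr (symplecticEquiv F n)]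
  exact ⟨lower_symplectic _ hd, upper_symplectic hd⟩

end Cfsg.Agent.UnipTwo
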